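import Mathlib
import Cfsg.Agent.CHAR.Galois
import Cfsg.Agent.BLK.Deg

/-! Four characters of odd degree: the assembly from the arithmetic pieces. -/

set_option autoImplicit false
open Cfsg CL.Char CL.Blk
open scoped ComplexConjugate

namespace CL.OD.A44

theorem sum_prod {ι : Type*} (s : Finset ι) (f : ι → ℕ) (h : ∀ i ∈ s, f i % 2 = 1) :
    (∏ i ∈ s, f i) % 2 = 1 ∧ (∑ i ∈ s, f i + 1) % 4 = (s.card + ∏ i ∈ s, f i) % 4 := by
  classical
  induction s using Finset.induction_on with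
  | empty => simp
  | insert a s ha ih =>
    obtain ⟨h1, h2⟩ := ih fun i hi => h i (Finset.mem_insert_of_mem hi)
    have h3 := h a (Finset.mem_insert_self a s)
    rw [Finset.prod_insert ha, Finset.sum_insert ha, Finset.card_insert_of_notMem ha]
    have h4 := Nat.mul_mod (f a) (∏ i ∈ s, f i) 4
    have h5 : f a % 4 = 1 ∨ f a % 4 = 3 := by omega
    have h6 : (∏ i ∈ s, f i) % 4 = 1 ∨ (∏ i ∈ s, f i) % 4 = 3 := by omega
    rcases h5 with h5 | h5 <;> rcases h6 with h6 | h6 <;> rw [h5, h6] at h4 <;> omega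

variable {G : Type*} [Group G] [Finite G]

theorem deg_gal (σ : ℂ →+* ℂ) (χ : IrrCharacter G) :
    charDegree (fun g => σ (χ.1 g)) = charDegree χ.1 :=
  charDegree_of_eq (by rw [irr_one_eq, map_natCast])

open Classical in
theorem moved (σ : ℂ →+* ℂ) (hσ : ∀ (χ : IrrCharacter G) g, σ (σ (χ.1 g)) = χ.1 g)
    (h4 : (Finset.univ.filter fun χ : IrrCharacter G => ¬ 2 ∣ charDegree χ.1).card = 4) :
    (Finset.univ.filter fun χ : IrrCharacter G =>
      ¬ 2 ∣ charDegree χ.1 ∧ ¬ ∀ g, σ (χ.1 g) = χ.1 g) = ∅ ∨ ∃ χ ψ : IrrCharacter G, χ ≠ ψ ∧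
      charDegree χ.1 = charDegree ψ.1 ∧ (Finset.univ.filter fun χ : IrrCharacter G =>
      ¬ 2 ∣ charDegree χ.1 ∧ ¬ ∀ g, σ (χ.1 g) = χ.1 g) = {χ, ψ} := by
  set s := Finset.univ.filter fun χ : IrrCharacter G =>
      ¬ 2 ∣ charDegree χ.1 ∧ ¬ ∀ g, σ (χ.1 g) = χ.1 g with hs
  let t : IrrCharacter G → IrrCharacter G := fun χ => ⟨_, χ.2.gal σ⟩
  have htt : ∀ χ, t (t χ) = χ := fun χ => Subtype.ext (funext (hσ χ))
  have hm : ∀ χ, χ ∈ s ↔ ¬ 2 ∣ charDegree χ.1 ∧ t χ ≠ χ := fun χ => by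
    simp only [hs, Finset.mem_filter, Finset.mem_univ, true_and, Ne, Subtype.ext_iff, funext_iff, t]
  have hts : ∀ χ ∈ s, t χ ∈ s := fun χ h => (hm _).2 ⟨(deg_gal σ χ).symm ▸ ((hm χ).1 h).1,
    fun e => ((hm χ).1 h).2 (e.symm.trans (htt χ))⟩
  have h3 : s.card < 4 := by
    rw [← h4]
    refine Finset.card_lt_card ⟨fun χ h => by simpa using ((hm χ).1 h).1, fun h => ?_⟩
    have := (hm _).1 (h (x := ⟨fun _ => 1, isIrrCharacter_one⟩) (by simp [charDegree_one]))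
    exact this.2 (Subtype.ext (funext fun _ => map_one σ))
  rcases s.eq_empty_or_nonempty with h | ⟨χ, hχ⟩
  · exact Or.inl h
  refine Or.inr ⟨χ, t χ, ((hm χ).1 hχ).2.symm, (deg_gal σ χ).symm, ?_⟩
  refine (Finset.eq_of_subset_of_card_le (by
    simp only [Finset.insert_subset_iff, Finset.singleton_subset_iff]; exact ⟨hχ, hts χ hχ⟩) ?_).symm
  rw [Finset.card_pair ((hm χ).1 hχ).2.symm]
  by_contra hlt
  obtain ⟨ψ, hψ, hn⟩ := Finset.exists_mem_notMem_of_card_lt_card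
    (s := {χ, t χ}) (t := s) (by rw [Finset.card_pair ((hm χ).1 hχ).2.symm]; omega)
  simp only [Finset.mem_insert, Finset.mem_singleton, not_or] at hn
  have a1 := ((hm χ).1 hχ).2
  have a2 := ((hm ψ).1 hψ).2
  have a3 : t ψ ≠ χ := fun e => hn.2 (by rw [← e, htt])
  have a4 : t ψ ≠ t χ := fun e => hn.1 (by rw [← htt ψ, e, htt])
  have : ({t ψ, ψ, t χ, χ} : Finset _).card ≤ s.card := Finset.card_le_card (by
    simp only [Finset.insert_subset_iff, Finset.singleton_subset_iff]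
    exact ⟨hts ψ hψ, hψ, hts χ hχ, hχ⟩)
  rw [Finset.card_insert_of_notMem (by simp [a2, a3, a4]),
    Finset.card_insert_of_notMem (by simp [hn.1, hn.2]), Finset.card_pair a1] at this
  omega

open Classical in
theorem asm (P : Sylow 2 G) (h4 : Nat.card {χ : IrrCharacter G // ¬ 2 ∣ charDegree χ.1} = 4)
    (m8 : (Nat.card {χ : IrrCharacter G // ¬ 2 ∣ charDegree χ.1} : ℤ) ≡ Nat.card G -
      2 * Nat.card {s : G // s * s = 1} + 2 * ∑ χ : IrrCharacter G,
        (if (∀ g, (χ.1 g).im = 0) ∧ ¬ 2 ∣ charDegree χ.1 then (charDegree χ.1 : ℤ) else 0) [ZMOD 8])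
    (gd : ∃ d : ℂ, (d ^ 2 * ∏ χ : IrrCharacter G, (charDegree χ.1 : ℂ) ^ (charDegree χ.1 ^ 2) =
        (Nat.card G : ℂ) ^ Nat.card G ∨
      d ^ 2 * ∏ χ : IrrCharacter G, (charDegree χ.1 : ℂ) ^ (charDegree χ.1 ^ 2) =
        -(Nat.card G : ℂ) ^ Nat.card G) ∧ ∀ σ : ℂ ≃+* ℂ,
      (∀ (χ : IrrCharacter G) g, σ (σ (χ.1 g)) = χ.1 g) → σ d = (-1) ^ (Nat.card
        {χ : IrrCharacter G // ¬ 2 ∣ charDegree χ.1 ∧ ¬ ∀ g, σ (χ.1 g) = χ.1 g} / 2) * d)
    (sq : ∀ σ : ℂ →+* ℂ, σ Complex.I = -Complex.I → ∀ e : ℤ, Odd e →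
      (∀ q : ℕ, q.Prime → (q : ℤ) ∣ e → ∀ z : ℂ, z ^ q = 1 → σ z = z) →
      ∀ t : ℂ, t ^ 2 = e → σ t = t → e % 4 = 1)
    (hz : Nat.card {s : G // s * s = 1} % 4 = 2 → IsCyclic P ∨ (commutator P).index = 4)
    (cy : IsCyclic P → (commutator P).index = 4)
    (t64 : Even (Nat.card G) → ∀ k : ℕ, (∀ g : G, (∃ j, orderOf g = 2 ^ j) → g ^ k = g⁻¹) →
      (∀ g : G, Odd (orderOf g) → g ^ k = g) →
      Nat.card {χ : IrrCharacter G // ¬ 2 ∣ charDegree χ.1 ∧ ∀ g, χ.1 (g ^ k) = χ.1 g} = 2 →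
      IsCyclic P) : (commutator P).index = 4 := by
  by_cases hc : IsCyclic P
  · exact cy hc
  set a := (Nat.card G).factorization 2 with ha
  have hP : Nat.card P = 2 ^ a := P.card_eq_multiplicity
  have hm := P.not_dvd_index
  set m := (P : Subgroup G).index
  have hG : 2 ^ a * m = Nat.card G := hP ▸ (P : Subgroup G).card_mul_index
  have ha2 : 2 ≤ a := by
    by_contra h
    refine hc (isCyclic_of_card_dvd_prime (p := 2) ?_)
    rw [hP]
    exact (pow_dvd_pow 2 (by omega : a ≤ 1)).trans (by simp)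
  by_cases ha3 : a = 2
  · have hcm := IsPGroup.isMulCommutative_of_card_eq_prime_sq (p := 2) (G := P) (by rw [hP, ha3])
    rw [commutator_eq_bot, Subgroup.index_bot, hP, ha3]
    norm_num
  obtain ⟨b, hb⟩ : ∃ b, a = b + 3 := ⟨a - 3, by omega⟩
  have h8 : Nat.card G = 8 * (2 ^ b * m) := by rw [← hG, hb]; ring
  have hm0 : m ≠ 0 := fun h => hm (h ▸ dvd_zero 2)
  have hco : (2 ^ a).Coprime m := (Nat.prime_two.coprime_iff_not_dvd.2 hm).pow_left a
  have h2a : 0 < 2 ^ a := by positivity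
  obtain ⟨σ, k, hk1, hk2, -, hσ, hσ1, hσ2⟩ := exists_ringEquiv_pow_pow (k := 2 ^ a - 1) (l := 1)
    h2a.ne' hm0 hco ((Nat.coprime_self_sub_left h2a).2 (by simp)) (by simp)
  have hinv : ∀ z : ℂ, z ^ 2 ^ a = 1 → σ z * z = 1 := fun z hz => by
    rw [hσ1 z hz, ← pow_succ, Nat.sub_add_cancel h2a, hz]
  have hI : σ Complex.I = -Complex.I := by
    have := hinv Complex.I (by
      rw [hb, show 2 ^ (b + 3) = 4 * (2 ^ b * 2) by ring, pow_mul, Complex.I_pow_four, one_pow])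
    linear_combination (-Complex.I) * this + σ Complex.I * Complex.I_sq
  have hχ : ∀ (χ : IrrCharacter G) g, σ (χ.1 g) = χ.1 (g ^ k) := fun χ g =>
    IsGeneralizedCharacter.gal_apply ⟨_, 0, χ.2.isCharacter, isCharacter_zero, (sub_zero _).symm⟩
      (σ := σ.toRingHom) hσ (hG ▸ pow_card_eq_one')
  have hk1' : k + 1 ≡ 0 [MOD 2 ^ a] := by
    have := hk1.add_right 1
    rw [Nat.sub_add_cancel h2a] at this
    exact this.trans (Nat.modEq_zero_iff_dvd.2 dvd_rfl)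
  have hkk : k * k ≡ 1 [MOD Nat.card G] := by
    rw [← hG, ← Nat.modEq_and_modEq_iff_modEq_mul hco]
    refine ⟨Nat.ModEq.add_right_cancel' k ?_, by simpa using hk2.mul hk2⟩
    rw [← mul_add_one, add_comm 1 k]
    exact ((hk1'.mul_left k).trans (by simp [Nat.ModEq])).trans hk1'.symm
  have hσσ : ∀ (χ : IrrCharacter G) g, σ (σ (χ.1 g)) = χ.1 g := fun χ g => by
    rw [hχ, hχ, ← pow_mul, pow_eq_pow_iff_modEq.2 (hkk.of_dvd (orderOf_dvd_natCard g)), pow_one]
  rw [Nat.subtype_card (Finset.univ.filter fun χ : IrrCharacter G => ¬ 2 ∣ charDegree χ.1)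
    (by simp)] at h4 m8
  obtain ⟨d, hd, hs⟩ := gd
  have hs' : ∀ τ : ℂ ≃+* ℂ, (∀ (χ : IrrCharacter G) g, τ (τ (χ.1 g)) = χ.1 g) →
      τ d = (-1) ^ ((Finset.univ.filter fun χ : IrrCharacter G =>
      ¬ 2 ∣ charDegree χ.1 ∧ ¬ ∀ g, τ (χ.1 g) = χ.1 g).card / 2) * d := fun τ h => by
    rw [hs τ h, Nat.subtype_card (Finset.univ.filter fun χ : IrrCharacter G =>
      ¬ 2 ∣ charDegree χ.1 ∧ ¬ ∀ g, τ (χ.1 g) = χ.1 g) (by simp)]
  have hσd : σ d = d := by
    rcases moved σ.toRingHom hσσ h4 with h | ⟨χ, ψ, hne, -, h⟩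
    · have h1 := hs' σ hσσ
      erw [h] at h1
      simpa using h1
    · refine absurd (t64 ⟨4 * (2 ^ b * m), by omega⟩ k (fun g ⟨j, hj⟩ => ?_) (fun g hg => ?_) ?_) hc
      · have h1 : orderOf g ∣ 2 ^ a :=
          (hj ▸ (Nat.prime_two.coprime_iff_not_dvd.2 hm).pow_left j :
            (orderOf g).Coprime m).dvd_of_dvd_mul_right (hG ▸ orderOf_dvd_natCard g)
        rw [eq_inv_iff_mul_eq_one, ← pow_succ, pow_eq_pow_iff_modEq.2 (hk1'.of_dvd h1), pow_zero]
      · have h1 : orderOf g ∣ m := ((Nat.coprime_two_right.2 hg).pow_right a).dvd_of_dvd_mul_left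
          (hG ▸ orderOf_dvd_natCard g)
        rw [pow_eq_pow_iff_modEq.2 (hk2.of_dvd h1), pow_one]
      · have h1 := Finset.card_filter_add_card_filter_not (s := Finset.univ.filter
          fun χ : IrrCharacter G => ¬ 2 ∣ charDegree χ.1) (fun χ => ∀ g, σ (χ.1 g) = χ.1 g)
        rw [Finset.filter_filter, Finset.filter_filter, h4] at h1
        erw [h] at h1
        rw [Finset.card_pair hne] at h1
        rw [Nat.subtype_card (Finset.univ.filter fun χ : IrrCharacter G =>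
          ¬ 2 ∣ charDegree χ.1 ∧ ∀ g, σ (χ.1 g) = χ.1 g) (by simp [hχ])]
        omega
  set O := Finset.univ.filter fun χ : IrrCharacter G => ¬ 2 ∣ charDegree χ.1 with hO
  set E := ∏ χ ∈ O, charDegree χ.1 with hE
  set Q := ∏ χ : IrrCharacter G, charDegree χ.1 ^ (charDegree χ.1 ^ 2 / 2) with hQ
  have hEQ : ∏ χ : IrrCharacter G, (charDegree χ.1 : ℂ) ^ (charDegree χ.1 ^ 2) = E * (Q : ℂ) ^ 2 := by
    rw [hE, hQ, hO, Finset.prod_filter]
    push_cast
    rw [← Finset.prod_pow, ← Finset.prod_mul_distrib]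
    refine Finset.prod_congr rfl fun χ _ => ?_
    have h1 : 2 ∣ charDegree χ.1 ^ 2 ↔ 2 ∣ charDegree χ.1 := Nat.prime_two.prime.dvd_pow_iff_dvd two_ne_zero
    rw [← pow_mul]
    split_ifs with h
    · rw [one_mul, Nat.div_mul_cancel (h1.2 h)]
    · rw [← pow_succ']
      congr 1
      have := mt h1.1 h
      omega
  obtain ⟨hE2, hE4⟩ := sum_prod O (fun χ => charDegree χ.1) fun χ h => by
    have := (Finset.mem_filter.1 h).2; omega
  rw [← hE] at hE2 hE4
  set C : ℕ := Nat.card G ^ (4 * (2 ^ b * m)) with hC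
  have hC0 : (C : ℂ) ≠ 0 := Nat.cast_ne_zero.2 (pow_ne_zero _ Nat.card_pos.ne')
  have hCC : (Nat.card G : ℂ) ^ Nat.card G = (C : ℂ) ^ 2 := by
    rw [hC, Nat.cast_pow, ← pow_mul]; congr 1; omega
  obtain ⟨ε, hε, ht⟩ : ∃ ε : ℤ, (ε = 1 ∨ ε = -1) ∧ (d * E * Q / C) ^ 2 = ((ε * E : ℤ) : ℂ) := by
    rw [hEQ, hCC] at hd
    rcases hd with h | h
    · exact ⟨1, Or.inl rfl, by push_cast; field_simp; linear_combination (E : ℂ) * h⟩
    · exact ⟨-1, Or.inr rfl, by push_cast; field_simp; linear_combination (E : ℂ) * h⟩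
  have h1 : (ε * E) % 4 = 1 := by
    refine sq σ.toRingHom hI _ (Int.odd_iff.2 (by rcases hε with rfl | rfl <;> omega))
      (fun q hq hqe z hz => ?_) _ ht (by simp [hσd])
    have h2 : q ∣ E := by
      rcases hε with rfl | rfl
      · exact Int.natCast_dvd_natCast.1 (by simpa using hqe)
      · exact Int.natCast_dvd_natCast.1 (by simpa using hqe)
    obtain ⟨χ, -, h3⟩ := (Prime.dvd_finsetProd_iff hq.prime _).1 h2
    have h5 : q ∣ m := (((Nat.coprime_primes hq Nat.prime_two).2 (by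
      rintro rfl; omega)).pow_right a).dvd_of_dvd_mul_left (hG ▸ h3.trans (charDegree_dvd_card χ))
    obtain ⟨r, hr⟩ := h5
    simpa using hσ2 z (by rw [hr, pow_mul, hz, one_pow])
  have hcc : ∀ (χ : IrrCharacter G) g, (starRingAut : ℂ ≃+* ℂ) ((starRingAut : ℂ ≃+* ℂ) (χ.1 g)) =
      χ.1 g := fun χ g => star_star _
  have h2 := hs' starRingAut hcc
  have hnn : ∀ t : ℂ, 0 ≤ (t * conj t).re := fun t => by
    rw [Complex.mul_conj, Complex.ofReal_re]; exact Complex.normSq_nonneg t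
  have h3 := Finset.sum_filter_add_sum_filter_not O
    (fun χ => ∀ g, (starRingAut : ℂ ≃+* ℂ) (χ.1 g) = χ.1 g) fun χ => charDegree χ.1
  have h5 : ∑ χ : IrrCharacter G, (if (∀ g, (χ.1 g).im = 0) ∧ ¬ 2 ∣ charDegree χ.1 then
      (charDegree χ.1 : ℤ) else 0) = ((∑ χ ∈ O with ∀ g, (starRingAut : ℂ ≃+* ℂ) (χ.1 g) = χ.1 g,
        charDegree χ.1 : ℕ) : ℤ) := by
    rw [hO, Finset.filter_filter, Nat.cast_sum, Finset.sum_filter]
    refine Finset.sum_congr rfl fun χ _ => if_congr ?_ rfl rfl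
    rw [and_comm]
    exact and_congr_right fun _ => forall_congr' fun g => Complex.conj_eq_iff_im.symm
  rw [h5, h4, h8] at m8
  have h6 := hnn (d * E * Q / C)
  have hE0 : (0 : ℝ) < E := Nat.cast_pos.2 (by omega)
  refine (hz ?_).resolve_left hc
  unfold Int.ModEq at m8
  rw [h4] at hE4
  have hf : (O.filter fun χ => ¬ ∀ g, (starRingAut : ℂ ≃+* ℂ) (χ.1 g) = χ.1 g) =
      Finset.univ.filter fun χ : IrrCharacter G => ¬ 2 ∣ charDegree χ.1 ∧
        ¬ ∀ g, (starRingAut : ℂ ≃+* ℂ) (χ.1 g) = χ.1 g := Finset.filter_filter _ _ _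
  rw [hf] at h3
  generalize (∑ χ ∈ O with ∀ g, (starRingAut : ℂ ≃+* ℂ) (χ.1 g) = χ.1 g,
        charDegree χ.1 : ℕ) = S at h3 m8
  generalize 2 ^ b * m = u at m8
  rcases moved (starRingAut : ℂ ≃+* ℂ).toRingHom hcc h4 with h | ⟨χ, ψ, hne, hdeg, h⟩
  · erw [h] at h2 h3
    have h7 : conj d = d := by simpa using h2
    have h9 : conj (d * E * Q / C) = d * E * Q / C := by simp [h7]
    rw [h9, ← pow_two, ht] at h6
    have : ε = 1 := hε.resolve_right fun e => by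
      rw [e] at h6; simp at h6; omega
    rw [Finset.sum_empty] at h3
    subst this
    omega
  · have hχo : ¬ 2 ∣ charDegree χ.1 := by
      have : χ ∈ ({χ, ψ} : Finset _) := Finset.mem_insert_self _ _
      rw [← h] at this
      exact (Finset.mem_filter.1 this).2.1
    erw [h] at h2 h3
    rw [Finset.card_pair hne] at h2
    have h7 : conj d = -d := by simpa using h2
    have h9 : conj (d * E * Q / C) = -(d * E * Q / C) := by simp [h7, neg_div]
    rw [h9, mul_neg, ← pow_two, ht] at h6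
    have : ε = -1 := hε.resolve_left fun e => by
      rw [e] at h6; simp at h6; omega
    rw [Finset.sum_pair hne] at h3
    subst this
    omega

end CL.OD.A44
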