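import Cfsg.Agent.BLK.OD.M8

/-! The sum of the odd degrees of real characters modulo `4`. -/

set_option autoImplicit false

namespace CL.OD.S4

open Cfsg CL.Char
open scoped Classical ComplexConjugate

theorem prod_sub {ι : Type*} (s : Finset ι) (a : ι → ℤ) (h : ∀ i ∈ s, Odd (a i)) :
    Odd (∏ i ∈ s, a i) ∧ ((∏ i ∈ s, a i : ℤ) : ZMod 4) - 1 = ∑ i ∈ s, ((a i : ZMod 4) - 1) := by
  induction s using Finset.induction_on with
  | empty => simp
  | insert i s hi ih =>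
    obtain ⟨h1, h2⟩ := ih fun j hj => h j (Finset.mem_insert_of_mem hj)
    have h3 := h i (Finset.mem_insert_self _ _)
    rw [Finset.prod_insert hi, Finset.sum_insert hi, ← h2]
    refine ⟨h3.mul h1, ?_⟩
    obtain ⟨k, hk⟩ := h1
    obtain ⟨l, hl⟩ := h3
    rw [hk, hl]
    push_cast
    generalize (k : ZMod 4) = x
    generalize (l : ZMod 4) = y
    revert x y
    decide

theorem sum4 (G : Type*) [Group G] [Fintype G]
    (h4 : Nat.card {χ : IrrCharacter G // ¬ 2 ∣ charDegree χ.1} = 4) (hev : Even (Nat.card G))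
    (d : ℂ)
    (hd : d ^ 2 * ∏ χ : IrrCharacter G, (charDegree χ.1 : ℂ) ^ (charDegree χ.1 ^ 2) =
        (Nat.card G : ℂ) ^ Nat.card G ∨
      d ^ 2 * ∏ χ : IrrCharacter G, (charDegree χ.1 : ℂ) ^ (charDegree χ.1 ^ 2) =
        -(Nat.card G : ℂ) ^ Nat.card G)
    (hc : conj d = (-1) ^ (Nat.card {χ : IrrCharacter G // ¬ 2 ∣ charDegree χ.1 ∧
      ¬ ∀ g, conj (χ.1 g) = χ.1 g} / 2) * d)
    (σ : ℂ →+* ℂ) (hσ : σ d = d)
    (hS : ∀ m : ℤ, Odd m → (∀ q : ℕ, q.Prime → (q : ℤ) ∣ m → q ∣ Nat.card G) → ∀ x : ℂ,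
      x ^ 2 = m → σ x = x → m % 4 = 1) :
    (4 : ℤ) ∣ ∑ χ : IrrCharacter G, (if (∀ g, (χ.1 g).im = 0) ∧ ¬ 2 ∣ charDegree χ.1 then
      (charDegree χ.1 : ℤ) else 0) := by
  have hconj : ∀ χ : IrrCharacter G,
      charDegree (irrConj G χ : G → ℂ) = charDegree (χ : G → ℂ) := fun χ => by
    apply charDegree_eq_of_apply_one
    rw [irrConj_apply, χ.2.isCharacter.conj_one, χ.2.apply_one_eq_charDegree]
  have hre : ∀ χ : IrrCharacter G, (∀ g, conj (χ.1 g) = χ.1 g) ↔ ∀ g, (χ.1 g).im = 0 :=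
    fun χ => forall_congr' fun g => Complex.conj_eq_iff_im
  have hre' : ∀ χ : IrrCharacter G, (∀ g, ((irrConj G χ).1 g).im = 0) ↔ ∀ g, (χ.1 g).im = 0 :=
    fun χ => forall_congr' fun g => by rw [irrConj_apply, Complex.conj_im, neg_eq_zero]
  have hfix : ∀ χ : IrrCharacter G, irrConj G χ = χ → ∀ g, (χ.1 g).im = 0 := fun χ e g => by
    have := congrFun (congrArg Subtype.val e) g
    rw [irrConj_apply] at this
    exact Complex.conj_eq_iff_im.1 this
  have hpos : ∀ χ : IrrCharacter G, 0 < charDegree χ.1 := fun χ =>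
    Nat.pos_of_dvd_of_pos χ.2.charDegree_dvd_card Nat.card_pos
  set O := Finset.univ.filter fun χ : IrrCharacter G => ¬ 2 ∣ charDegree χ.1 with hO
  set R := O.filter fun χ => ∀ g, (χ.1 g).im = 0 with hR
  set N := O.filter fun χ => ¬ ∀ g, (χ.1 g).im = 0 with hN
  have hOc : O.card = 4 := by rw [← h4, Nat.card_eq_fintype_card, Fintype.card_subtype]
  have hNc : Nat.card {χ : IrrCharacter G // ¬ 2 ∣ charDegree χ.1 ∧
      ¬ ∀ g, conj (χ.1 g) = χ.1 g} = N.card := by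
    rw [Nat.card_eq_fintype_card, Fintype.card_subtype, hN, hO, Finset.filter_filter]
    simp only [hre]
  have hRN : R.card + N.card = 4 := by rw [← hOc]; exact Finset.card_filter_add_card_filter_not _
  have hNm : ∀ χ ∈ N, irrConj G χ ∈ N := fun χ h => by
    simp only [hN, hO, Finset.mem_filter, Finset.mem_univ, true_and] at h ⊢
    rwa [hconj, hre']
  have hNe : ∑ _χ ∈ N, (1 : ZMod 2) = 0 :=
    Finset.sum_involution (fun χ _ => irrConj G χ) (fun _ _ => by decide)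
      (fun χ h _ e => (Finset.mem_filter.1 h).2 (hfix χ e)) hNm
      (fun χ _ => (irrConj G).left_inv χ)
  have hodd : ∀ χ ∈ O, Odd (charDegree χ.1 : ℤ) := fun χ h => by
    have := (Finset.mem_filter.1 h).2
    exact_mod_cast Nat.odd_iff.2 (by omega)
  have hN0 : ∑ χ ∈ N, (((charDegree χ.1 : ℤ) : ZMod 4) - 1) = 0 :=
    Finset.sum_involution (fun χ _ => irrConj G χ) (fun χ h => by
        obtain ⟨k, hk⟩ := hodd χ (Finset.mem_filter.1 h).1
        rw [hconj, hk]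
        push_cast
        generalize (k : ZMod 4) = x
        revert x
        decide)
      (fun χ h _ e => (Finset.mem_filter.1 h).2 (hfix χ e)) hNm
      (fun χ _ => (irrConj G).left_inv χ)
  obtain ⟨r, hr⟩ : 2 ∣ N.card := by
    rw [Finset.sum_const, nsmul_eq_mul, mul_one, ZMod.natCast_eq_zero_iff] at hNe
    exact hNe
  rw [hNc, hr, Nat.mul_div_cancel_left _ two_pos] at hc
  obtain ⟨hA1, hA2⟩ := prod_sub O _ hodd
  set A : ℤ := ∏ χ ∈ O, (charDegree χ.1 : ℤ) with hA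
  have hA0 : 0 < A := Finset.prod_pos fun χ _ => by exact_mod_cast hpos χ
  have hAq : ∀ q : ℕ, q.Prime → (q : ℤ) ∣ A → q ∣ Nat.card G := fun q hq h => by
    obtain ⟨χ, -, h'⟩ := (Prime.dvd_finsetProd_iff (Nat.prime_iff_prime_int.1 hq) _).1 h
    exact (Int.natCast_dvd_natCast.1 h').trans χ.2.charDegree_dvd_card
  obtain ⟨c, hc2⟩ := hev
  let B : ℕ := ∏ χ : IrrCharacter G, charDegree χ.1 ^ (charDegree χ.1 ^ 2 / 2)
  have hB : ∏ χ : IrrCharacter G, (charDegree χ.1 : ℂ) ^ (charDegree χ.1 ^ 2) = A * B ^ 2 := by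
    rw [hA, hO, Finset.prod_filter]
    simp only [B]
    push_cast
    rw [← Finset.prod_pow, ← Finset.prod_mul_distrib]
    refine Finset.prod_congr rfl fun χ _ => ?_
    rw [← pow_mul]
    split_ifs with h
    · rw [one_mul, Nat.div_mul_cancel (h.trans (Dvd.intro_left _ (pow_two _).symm))]
    · have : charDegree χ.1 ^ 2 % 2 = 1 := Nat.odd_iff.1 (Nat.odd_iff.2 (by omega)).pow
      rw [← pow_succ']
      congr 1
      omega
  have hG0 : (Nat.card G : ℂ) ^ c ≠ 0 := pow_ne_zero _ (Nat.cast_ne_zero.2 Nat.card_pos.ne')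
  have hGG : (Nat.card G : ℂ) ^ Nat.card G = ((Nat.card G : ℂ) ^ c) ^ 2 := by
    rw [← pow_mul, mul_two, ← hc2]
  obtain ⟨ε, hε, hdε⟩ : ∃ ε : ℤ, (ε = 1 ∨ ε = -1) ∧
      d ^ 2 * (A * B ^ 2) = ε * ((Nat.card G : ℂ) ^ c) ^ 2 := by
    rw [hB, hGG] at hd
    rcases hd with h | h
    exacts [⟨1, Or.inl rfl, by simpa using h⟩, ⟨-1, Or.inr rfl, by simpa using h⟩]
  let x : ℂ := d * ((A * B : ℂ) / (Nat.card G : ℂ) ^ c)
  have hx : x ^ 2 = ((ε * A : ℤ) : ℂ) := by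
    simp only [x]
    push_cast
    field_simp
    linear_combination (A : ℂ) * hdε
  have hm := hS (ε * A) (by rcases hε with rfl | rfl <;> simpa using hA1)
    (fun q hq h => hAq q hq (by rcases hε with rfl | rfl <;> simpa using h)) x hx
    (by simp [x, hσ])
  have hcx : conj x = (-1) ^ r * x := by simp [x, hc, mul_assoc]
  have hsg : (0 : ℤ) ≤ (-1) ^ r * (ε * A) := by
    have h1 : ((Complex.normSq x : ℝ) : ℂ) = (((-1) ^ r * (ε * A) : ℤ) : ℂ) := by
      rw [Complex.normSq_eq_conj_mul_self, hcx, mul_assoc, ← pow_two, hx]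
      push_cast
      ring
    have h2 : Complex.normSq x = (((-1) ^ r * (ε * A) : ℤ) : ℝ) := by exact_mod_cast h1
    have h3 := Complex.normSq_nonneg x
    rw [h2] at h3
    exact_mod_cast h3
  have hsum : ∑ χ : IrrCharacter G, (if (∀ g, (χ.1 g).im = 0) ∧ ¬ 2 ∣ charDegree χ.1 then
      (charDegree χ.1 : ℤ) else 0) = ∑ χ ∈ R, (charDegree χ.1 : ℤ) := by
    rw [hR, hO, Finset.filter_filter, Finset.sum_filter]
    simp only [and_comm]
  rw [← Finset.sum_filter_add_sum_filter_not O fun χ => ∀ g, (χ.1 g).im = 0, ← hR, ← hN, hN0,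
    add_zero, Finset.sum_sub_distrib, Finset.sum_const, nsmul_eq_mul, mul_one, ← Int.cast_sum]
    at hA2
  have h5 : (((A - 1 - (∑ χ ∈ R, (charDegree χ.1 : ℤ) - R.card) : ℤ)) : ZMod 4) = 0 := by
    push_cast
    push_cast at hA2
    rw [hA2, sub_self]
  rw [ZMod.intCast_zmod_eq_zero_iff_dvd, Nat.cast_ofNat] at h5
  rw [hsum]
  have hr2 : r = 0 ∨ r = 1 ∨ r = 2 := by omega
  rcases hr2 with rfl | rfl | rfl <;> rcases hε with rfl | rfl <;> norm_num at hsg <;> omega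

theorem inv (G : Type*) [Group G] [Fintype G]
    (h4 : Nat.card {χ : IrrCharacter G // ¬ 2 ∣ charDegree χ.1} = 4) (h8 : 8 ∣ Nat.card G)
    (d : ℂ)
    (hd : d ^ 2 * ∏ χ : IrrCharacter G, (charDegree χ.1 : ℂ) ^ (charDegree χ.1 ^ 2) =
        (Nat.card G : ℂ) ^ Nat.card G ∨
      d ^ 2 * ∏ χ : IrrCharacter G, (charDegree χ.1 : ℂ) ^ (charDegree χ.1 ^ 2) =
        -(Nat.card G : ℂ) ^ Nat.card G)
    (hc : conj d = (-1) ^ (Nat.card {χ : IrrCharacter G // ¬ 2 ∣ charDegree χ.1 ∧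
      ¬ ∀ g, conj (χ.1 g) = χ.1 g} / 2) * d)
    (σ : ℂ →+* ℂ) (hσ : σ d = d)
    (hS : ∀ m : ℤ, Odd m → (∀ q : ℕ, q.Prime → (q : ℤ) ∣ m → q ∣ Nat.card G) → ∀ x : ℂ,
      x ^ 2 = m → σ x = x → m % 4 = 1) :
    Nat.card {s : G // s * s = 1} % 4 = 2 := by
  have h1 := sum4 G h4 (even_iff_two_dvd.2 ((by norm_num : 2 ∣ 8).trans h8)) d hd hc σ hσ hS
  have h2 := M8.mod8 G
  rw [h4, Int.ModEq] at h2
  omega

end CL.OD.S4
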