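import Mathlib

namespace CL.OD
open Classical

theorem comb_sign {O : Type*} [Fintype O] (c : Equiv.Perm O) (hc : c * c = 1) :
    ∃ r : ℕ, c.support.card = 2 * r ∧ (Equiv.Perm.sign c : ℤ) = (-1) ^ r := by
  have h2 : c ^ 2 = 1 := by rw [sq, hc]
  refine ⟨c.cycleType.card, ?_, ?_⟩
  · rw [← Equiv.Perm.sum_cycleType, Equiv.Perm.cycleType_of_pow_prime_eq_one h2]
    simp [mul_comm]
  · rw [Equiv.Perm.sign_of_cycleType, Equiv.Perm.cycleType_of_pow_prime_eq_one h2]
    simp [pow_add, pow_mul']

theorem comb_prod {O : Type*} (s : Finset O) (d : O → ℕ) (hd : ∀ x, Odd (d x)) :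
    (∑ x ∈ s, (d x : ZMod 4)) = s.card + (∏ x ∈ s, (d x : ZMod 4)) - 1 ∧
      ((∏ x ∈ s, (d x : ZMod 4)) = 1 ∨ (∏ x ∈ s, (d x : ZMod 4)) = -1) := by
  induction s using Finset.induction_on with
  | empty => simp
  | insert a s ha ih =>
    rw [Finset.sum_insert ha, Finset.prod_insert ha, Finset.card_insert_of_notMem ha, ih.1]
    have h1 : (d a : ZMod 4) = 1 ∨ (d a : ZMod 4) = -1 := by
      obtain ⟨k, hk⟩ := hd a
      rw [hk]; push_cast
      generalize (k : ZMod 4) = z
      revert z; decide
    push_cast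
    generalize (s.card : ZMod 4) = z
    rcases h1 with h1 | h1 <;> rcases ih.2 with h2 | h2 <;> rw [h1, h2] <;> revert z <;> decide

theorem comb {O : Type*} [Fintype O] (c : Equiv.Perm O) (hc : c * c = 1) (d : O → ℕ)
    (hd : ∀ x, Odd (d x)) (hdc : ∀ x, d (c x) = d x)
    (h : ((∏ x, d x : ℕ) : ℤ) ≡ (Equiv.Perm.sign c : ℤ) [ZMOD 4]) :
    ∑ x with c x = x, (d x : ℤ) ≡ Fintype.card O [ZMOD 4] := by
  obtain ⟨r, hr, hs⟩ := comb_sign c hc
  have hcc : ∀ x, c (c x) = x := fun x => by rw [← Equiv.Perm.mul_apply, hc]; rfl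
  have hm : ∏ x with ¬ c x = x, (d x : ZMod 4) = 1 := by
    refine Finset.prod_involution (fun x _ => c x) ?_ ?_ ?_ ?_
    · intro x _
      rw [hdc]
      obtain ⟨k, hk⟩ := hd x
      rw [hk]; push_cast
      generalize (k : ZMod 4) = z
      revert z; decide
    · intro x hx _
      exact (Finset.mem_filter.1 hx).2
    · intro x hx
      simp only [Finset.mem_filter, Finset.mem_univ, true_and] at hx ⊢
      rw [hcc]; exact fun h => hx h.symm
    · intro x _
      exact hcc x
  have hp := Finset.prod_filter_mul_prod_filter_not Finset.univ (fun x => c x = x)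
    (fun x => (d x : ZMod 4))
  rw [hm, mul_one] at hp
  have hcard := Finset.card_filter_add_card_filter_not (s := Finset.univ) (fun x => c x = x)
  have hsup : (Finset.univ.filter fun x => ¬ c x = x) = c.support := by
    ext x; simp
  rw [hsup, hr, Finset.card_univ] at hcard
  rw [hs] at h
  have h' := (ZMod.intCast_eq_intCast_iff _ _ 4).2 h
  push_cast at h'
  apply (ZMod.intCast_eq_intCast_iff _ _ 4).1
  push_cast
  rw [(comb_prod _ d hd).1, hp, h', ← hcard]
  push_cast
  rcases Nat.even_or_odd' r with ⟨k, rfl | rfl⟩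
  · rw [pow_mul]; push_cast
    generalize (k : ZMod 4) = z
    generalize ((Finset.univ.filter fun x => c x = x).card : ZMod 4) = w
    simp only [neg_one_sq, one_pow]
    revert z w; decide
  · rw [pow_succ, pow_mul]; push_cast
    generalize (k : ZMod 4) = z
    generalize ((Finset.univ.filter fun x => c x = x).card : ZMod 4) = w
    simp only [neg_one_sq, one_pow]
    revert z w; decide

theorem comb2 {O : Type*} [Fintype O] (c : Equiv.Perm O) (hc : c * c = 1)
    (h4 : Fintype.card O = 4) (hs : Equiv.Perm.sign c = -1) :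
    Nat.card {x : O // c x = x} = 2 := by
  obtain ⟨r, hr, hs'⟩ := comb_sign c hc
  have hcard := Finset.card_filter_add_card_filter_not (s := Finset.univ) (fun x => c x = x)
  have hsup : (Finset.univ.filter fun x => ¬ c x = x) = c.support := by
    ext x; simp
  rw [hsup, hr, Finset.card_univ, h4] at hcard
  rw [hs] at hs'
  have hr1 : r = 1 := by
    have : r ≤ 2 := by omega
    interval_cases r
    · simp at hs'
    · rfl
    · simp at hs'
  rw [Nat.card_eq_fintype_card, Fintype.card_subtype]
  omega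

end CL.OD
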