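import Cfsg.Agent.BLK.OD.Defs

/-! Converters between the announced forms of the group determinant statement. -/

set_option autoImplicit false

namespace CL.OD.Cv67

open Cfsg CL.Char
open scoped Classical

theorem sign_inv {ι : Type*} [Fintype ι] [DecidableEq ι] (τ : Equiv.Perm ι) (h : τ * τ = 1) :
    ((Equiv.Perm.sign τ : ℤˣ) : ℤ) = (-1) ^ (Nat.card {x // τ x ≠ x} / 2) := by
  have h2 : τ ^ 2 = 1 := by rw [sq, h]
  rw [Equiv.Perm.sign_of_pow_two_eq_one h2]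
  have : Nat.card {x // τ x ≠ x} =
      Fintype.card ι - Fintype.card (Function.fixedPoints τ) := by
    rw [Nat.card_eq_fintype_card, Fintype.card_subtype_compl]
    congr 1
  rw [this]
  simp

theorem deg_eq {G : Type*} [Group G] [Finite G] (σ : ℂ →+* ℂ) (χ ψ : IrrCharacter G)
    (h : ∀ g, ψ.1 g = σ (χ.1 g)) : charDegree ψ.1 = charDegree χ.1 := by
  have h1 := h 1
  rw [ψ.2.apply_one_eq_charDegree, χ.2.apply_one_eq_charDegree, map_natCast] at h1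
  exact_mod_cast h1

theorem card_sub {ι : Type*} (p : ι → Prop) (π : Equiv.Perm ι) (ho : ∀ x, p (π x) ↔ p x) :
    Nat.card {x : {x // p x} // π.subtypePerm ho x ≠ x} = Nat.card {x // p x ∧ π x ≠ x} := by
  refine Nat.card_congr ⟨fun x => ⟨x.1.1, x.1.2, fun h => x.2 (Subtype.ext h)⟩,
    fun x => ⟨⟨x.1, x.2.1⟩, fun h => x.2.2 (congrArg Subtype.val h)⟩, fun _ => rfl, fun _ => rfl⟩

theorem sign_sub {ι : Type*} (p : ι → Prop) [Fintype {x // p x}] [DecidableEq {x // p x}]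
    (π : Equiv.Perm ι) (ho : ∀ x, p (π x) ↔ p x) (h : π * π = 1) :
    ((Equiv.Perm.sign (π.subtypePerm ho) : ℤˣ) : ℤ) =
      (-1) ^ (Nat.card {x // p x ∧ π x ≠ x} / 2) := by
  rw [sign_inv, card_sub]
  ext x
  exact congrArg (fun f : Equiv.Perm ι => f x.1) h

theorem prod_conv (G : Type*) [Group G] [Finite G] [Fintype (IrrCharacter G)] :
    (∏ χ : IrrCharacter G, ((Nat.card G : ℂ) / charDegree χ.1) ^ (charDegree χ.1 ^ 2)) *
      ∏ χ : IrrCharacter G, (charDegree χ.1 : ℂ) ^ (charDegree χ.1 ^ 2) =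
      (Nat.card G : ℂ) ^ Nat.card G := by
  have := Fintype.ofFinite G
  have h1 : ∑ χ : IrrCharacter G, charDegree (χ : G → ℂ) ^ 2 = Nat.card G := by
    have := sum_degree_sq (G := G)
    simp only [fun χ : IrrCharacter G => χ.2.apply_one_eq_charDegree] at this
    have h3 : ((∑ χ : IrrCharacter G, charDegree (χ : G → ℂ) ^ 2 : ℕ) : ℂ) = Nat.card G := by
      push_cast
      convert this
    exact_mod_cast h3
  rw [← Finset.prod_mul_distrib, ← h1, ← Finset.prod_pow_eq_pow_sum, h1]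
  refine Finset.prod_congr rfl fun χ _ => ?_
  have h0 : (charDegree χ.1 : ℂ) ≠ 0 := by
    rw [← χ.2.apply_one_eq_charDegree]
    exact Cfsg.IsIrrCharacter.one_ne_zero χ.2
  rw [← mul_pow, div_mul_cancel₀ _ h0]

/-- h65's form -/
def F65 (G : Type*) [Group G] [Finite G] : Prop :=
  ∃ d : ℂ, (∃ ε : ℤ, (ε = 1 ∨ ε = -1) ∧ d^2 * ∏ χ : IrrCharacter G, (charDegree χ.1 : ℂ)^(charDegree χ.1^2) = ε * (Nat.card G : ℂ)^(Nat.card G)) ∧ ∀ (σ : ℂ →+* ℂ) (π : Equiv.Perm (IrrCharacter G)), (∀ χ g, (π χ).1 g = σ (χ.1 g)) → π * π = 1 → σ d = (-1)^(Nat.card {χ : IrrCharacter G // ¬ 2 ∣ charDegree χ.1 ∧ π χ ≠ χ} / 2) * d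

/-- h94's form -/
def F94 (G : Type*) [Group G] [Finite G] : Prop :=
  ∃ d : ℂ, (d^2 * ∏ χ : IrrCharacter G, (charDegree χ.1 : ℂ)^(charDegree χ.1^2) = (Nat.card G : ℂ)^Nat.card G ∨ d^2 * ∏ χ : IrrCharacter G, (charDegree χ.1 : ℂ)^(charDegree χ.1^2) = -(Nat.card G : ℂ)^Nat.card G) ∧ ∀ σ : ℂ →+* ℂ, (∀ (χ : IrrCharacter G) g, σ (σ (χ.1 g)) = χ.1 g) → σ d = (-1)^(Nat.card {χ : IrrCharacter G // ¬ 2 ∣ charDegree χ.1 ∧ ¬ ∀ g, σ (χ.1 g) = χ.1 g} / 2) * d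

theorem gd94_of_gd65 (G : Type*) [Group G] [Finite G] (h : F65 G) : F94 G := by
  obtain ⟨d, ⟨ε, hε, hd⟩, hσ⟩ := h
  refine ⟨d, ?_, fun σ h2 => ?_⟩
  · rcases hε with rfl | rfl
    · left; simpa using hd
    · right; simpa using hd
  · let f : IrrCharacter G → IrrCharacter G := fun χ => ⟨fun g => σ (χ.1 g), χ.2.gal σ⟩
    have hf : Function.Involutive f := fun χ => Subtype.ext (funext fun g => h2 χ g)
    rw [hσ σ hf.toPerm (fun _ _ => rfl) (by ext χ : 1; exact hf χ)]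
    congr 3
    refine Nat.card_congr (Equiv.subtypeEquivRight fun χ => and_congr_right fun _ => not_congr ?_)
    exact ⟨fun h g => congrFun (congrArg Subtype.val h) g, fun h => Subtype.ext (funext h)⟩

theorem gd65_of_gd94 (G : Type*) [Group G] [Finite G] (h : F94 G) : F65 G := by
  obtain ⟨d, hd, hσ⟩ := h
  refine ⟨d, ?_, fun σ π hπ h2 => ?_⟩
  · rcases hd with hd | hd
    · exact ⟨1, Or.inl rfl, by simpa using hd⟩
    · exact ⟨-1, Or.inr rfl, by simpa using hd⟩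
  · rw [hσ σ (fun χ g => by
      rw [← hπ, ← hπ]
      have := congrArg (fun f : Equiv.Perm (IrrCharacter G) => f χ) h2
      simp only [Equiv.Perm.mul_apply, Equiv.Perm.one_apply] at this
      rw [this])]
    congr 3
    refine Nat.card_congr (Equiv.subtypeEquivRight fun χ => and_congr_right fun _ => not_congr ?_)
    exact ⟨fun h => Subtype.ext (funext fun g => by rw [hπ, h]),
      fun h g => by rw [← hπ, h]⟩

theorem gd65_of_sign (G : Type*) [Group G] [Finite G] (d : ℂ) (ε : ℤ) (hε : ε = 1 ∨ ε = -1)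
    (hd : d^2 = ε * ∏ χ : IrrCharacter G, ((Nat.card G : ℂ) / charDegree χ.1) ^ (charDegree χ.1 ^ 2))
    (hσ : ∀ (σ : ℂ →+* ℂ) (π : Equiv.Perm (IrrCharacter G)) (_ : ∀ χ g, (π χ).1 g = σ (χ.1 g))
      (ho : ∀ χ, ¬ 2 ∣ charDegree (π χ).1 ↔ ¬ 2 ∣ charDegree χ.1),
      σ d = ((Equiv.Perm.sign (π.subtypePerm (p := fun χ => ¬ 2 ∣ charDegree χ.1) ho) : ℤˣ) : ℤ) * d) : F65 G := by
  refine ⟨d, ⟨ε, hε, by rw [hd, mul_assoc, prod_conv]⟩, fun σ π hπ h2 => ?_⟩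
  have ho : ∀ χ, ¬ 2 ∣ charDegree (π χ).1 ↔ ¬ 2 ∣ charDegree χ.1 := fun χ => by
    rw [deg_eq σ χ (π χ) (hπ χ)]
  rw [hσ σ π hπ ho, sign_sub _ π ho h2]
  push_cast
  rfl

theorem gd65_of_gd12 (G : Type*) [Group G] [Finite G]
    (h : ∃ (d : ℂ) (ε : ℤ), (ε = 1 ∨ ε = -1) ∧ d^2 = ε * ∏ χ : IrrCharacter G, ((Nat.card G : ℂ) / charDegree χ.1) ^ (charDegree χ.1 ^ 2) ∧ ∀ (σ : ℂ →+* ℂ) (π : Equiv.Perm (IrrCharacter G)) (hπ : ∀ χ g, (π χ).1 g = σ (χ.1 g)) (ho : ∀ χ, ¬ 2 ∣ charDegree (π χ).1 ↔ ¬ 2 ∣ charDegree χ.1), σ d = ((Equiv.Perm.sign (π.subtypePerm (p := fun χ => ¬ 2 ∣ charDegree χ.1) ho) : ℤˣ) : ℤ) * d) :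
    F65 G := by
  obtain ⟨d, ε, hε, hd, hσ⟩ := h
  exact gd65_of_sign G d ε hε hd hσ

theorem gd65_of_gd13 (G : Type*) [Group G] [Finite G]
    (h : ∃ (d : ℂ) (ε : ℤ), (ε = 1 ∨ ε = -1) ∧ d^2 = ε * ∏ χ : IrrCharacter G, ((Nat.card G : ℂ) / charDegree χ.1)^(charDegree χ.1^2) ∧ ∀ (σ : ℂ →+* ℂ) (π : Equiv.Perm (IrrCharacter G)), (∀ χ g, (π χ).1 g = σ (χ.1 g)) → ∀ τ : Equiv.Perm {χ : IrrCharacter G // ¬ 2 ∣ charDegree χ.1}, (∀ χ, (τ χ).1 = π χ.1) → σ d = ((Equiv.Perm.sign τ : ℤ) : ℂ) * d) :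
    F65 G := by
  obtain ⟨d, ε, hε, hd, hσ⟩ := h
  exact gd65_of_sign G d ε hε hd fun σ π hπ ho => hσ σ π hπ _ fun _ => rfl

theorem gd65_of_d50 (G : Type*) [Group G] [Finite G]
    (h : ∃ d : ℂ, (∃ ε : ℤˣ, d^2 = (ε:ℤ) * ∏ χ : IrrCharacter G, ((Nat.card G : ℂ) / charDegree χ.1)^(charDegree χ.1 ^ 2)) ∧ ∀ (σ : ℂ →+* ℂ) (π : Equiv.Perm (IrrCharacter G)) (hπ : ∀ χ g, (π χ).1 g = σ (χ.1 g)) (π₀ : Equiv.Perm {χ : IrrCharacter G // ¬ 2 ∣ charDegree χ.1}) (h : ∀ x, (π₀ x).1 = π x.1), σ d = (Equiv.Perm.sign π₀ : ℤ) * d) :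
    F65 G := by
  obtain ⟨d, ⟨ε, hd⟩, hσ⟩ := h
  refine gd65_of_sign G d ε ?_ hd fun σ π hπ ho => hσ σ π hπ _ fun _ => rfl
  rcases Int.units_eq_one_or ε with rfl | rfl <;> simp

end CL.OD.Cv67
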