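import Cfsg.Agent.BLK.OD.Defs

namespace CL.OD
open Cfsg

/-- cyclic Sylow 2: normal 2-complement, so |P| linear characters. -/
theorem cyc {G : Type*} [Group G] [Finite G] (P : Sylow 2 G) (hP : IsCyclic P) :
    Nat.card (P : Subgroup G) ≤ Nat.card (Od G) := by
  have hlin : ∀ l : G →* ℂˣ, Odd (charDegree (fun g => (l g : ℂ))) := fun l => by
    simp [charDegree]
  by_cases hd : 2 ∣ Nat.card G
  swap
  · rw [P.card_eq_multiplicity, Nat.factorization_eq_zero_of_not_dvd hd, pow_zero]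
    have : Nonempty (Od G) := ⟨⟨⟨_, CL.Char.isIrrCharacter_hom 1⟩, hlin 1⟩⟩
    exact Nat.card_pos
  have hmf : (Nat.card G).minFac = 2 := (Nat.minFac_eq_two_iff _).2 hd
  have hc := hP.isComplement' hmf
  set K := (MonoidHom.transferSylow P (hP.normalizer_le_centralizer hmf)).ker
  have hcard : Nat.card (G ⧸ K) = Nat.card P := by
    rw [← Subgroup.index_eq_card, hc.symm.index_eq_card]
  have hcyc : IsCyclic (G ⧸ K) := by
    refine isCyclic_of_surjective ((QuotientGroup.mk' K).comp (P : Subgroup G).subtype) fun q => ?_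
    obtain ⟨g, rfl⟩ := QuotientGroup.mk_surjective q
    obtain ⟨⟨k, s⟩, rfl⟩ := hc.2 g
    refine ⟨s, ?_⟩
    simp only [MonoidHom.comp_apply, Subgroup.coe_subtype, QuotientGroup.mk'_apply,
      QuotientGroup.mk_mul]
    rw [(QuotientGroup.eq_one_iff (k : G)).2 k.2, one_mul]
  let _ : CommGroup (G ⧸ K) := IsCyclic.commGroup
  rw [← hcard, ← CommGroup.card_monoidHom_of_hasEnoughRootsOfUnity (G ⧸ K) ℂ]
  refine Nat.card_le_card_of_injective (fun l => ⟨⟨_, CL.Char.isIrrCharacter_hom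
    (l.comp (QuotientGroup.mk' K))⟩, hlin _⟩) fun a b e => ?_
  ext g
  exact congrFun (congrArg (fun x => x.1.1) e) g

end CL.OD
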