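import Mathlib.GroupTheory.Perm.Sign
import Mathlib.Algebra.BigOperators.Fin
import Mathlib.Data.Fintype.BigOperators
import Mathlib.Order.Interval.Finset.Fin
import Mathlib.Tactic

set_option autoImplicit false

namespace CL.OD.Sg38

open Equiv Equiv.Perm

variable {ι : Type*} [Fintype ι] [DecidableEq ι] (n : ι → ℕ) (π : Perm ι) (hn : ∀ i, n (π i) = n i)

theorem lift {A X : Type*} [Fintype A] [DecidableEq A] [Fintype X] [DecidableEq X] (Q : ℕ → A → Prop)
    [∀ m a, Decidable (Q m a)] (τ : Perm X) (e : X ≃ {x : ι × A // Q (n x.1) x.2})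
    (he : ∀ x, (e (τ x)).1 = (π (e x).1.1, (e x).1.2)) :
    Perm.sign τ = ∏ a, Perm.sign (π.subtypePerm (p := fun i => Q (n i) a) fun i => by rw [hn]) := by
  let τ' : Perm {x : ι × A // Q (n x.1) x.2} :=
    Perm.subtypePerm (p := fun x : ι × A => Q (n x.1) x.2) (Equiv.prodCongr π (Equiv.refl A))
      fun x => by simp [hn]
  rw [sign_eq_sign_of_equiv τ τ' e fun x => Subtype.ext (he x), ← sign_ofSubtype τ']
  have h : ofSubtype τ' = Equiv.prodCongrLeft fun a =>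
      ofSubtype (π.subtypePerm (p := fun i => Q (n i) a) fun i => by rw [hn]) := by
    refine Equiv.ext fun x => ?_
    obtain ⟨i, a⟩ := x
    by_cases h : Q (n i) a
    · rw [ofSubtype_apply_of_mem τ' (show (fun x : ι × A => Q (n x.1) x.2) (i, a) from h),
        Equiv.prodCongrLeft_apply,
        ofSubtype_apply_of_mem (p := fun i => Q (n i) a) _ h]
      rfl
    · rw [ofSubtype_apply_of_not_mem τ' (show ¬ (fun x : ι × A => Q (n x.1) x.2) (i, a) from h),
        Equiv.prodCongrLeft_apply,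
        ofSubtype_apply_of_not_mem (p := fun i => Q (n i) a) _ h]
  rw [h, sign_prodCongrLeft]
  exact Finset.prod_congr rfl fun a _ => sign_ofSubtype _

theorem level (N : ℕ) (hN : ∀ i, n i < N) (R : ℕ → Prop) [DecidablePred R]
    (h : ∀ i, R (n (π i)) ↔ R (n i)) :
    Perm.sign (π.subtypePerm (p := fun i => R (n i)) h) =
      ∏ m : Fin N, if R m then Perm.sign (π.subtypePerm (p := fun i => n i = m) fun i => by rw [hn]) else 1 := by
  let e : {i // R (n i)} ≃ {x : ι × Fin N // n x.1 = x.2 ∧ R x.2} :=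
    { toFun := fun i => ⟨(i.1, ⟨n i.1, hN _⟩), rfl, i.2⟩
      invFun := fun x => ⟨x.1.1, x.2.1 ▸ x.2.2⟩
      left_inv := fun i => rfl
      right_inv := fun x => Subtype.ext (Prod.ext rfl (Fin.ext x.2.1)) }
  rw [lift n π hn (fun m (a : Fin N) => m = a ∧ R a) _ e fun x => Prod.ext rfl (Fin.ext (hn _))]
  refine Finset.prod_congr rfl fun m _ => ?_
  split_ifs with hm
  · exact sign_eq_sign_of_equiv _ _ (Equiv.subtypeEquivRight fun i => by simp [hm]) fun x => rfl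
  · haveI : IsEmpty {i // n i = m ∧ R m} := ⟨fun x => hm x.2.2⟩
    rw [Subsingleton.elim (π.subtypePerm _) 1, map_one]

include hn in
theorem sign (τ : Perm (Σ i, Fin (n i) × Fin (n i))) (h1 : ∀ x, (τ x).1 = π x.1)
    (h2 : ∀ x, ((τ x).2.1 : ℕ) = x.2.1) (h3 : ∀ x, ((τ x).2.2 : ℕ) = x.2.2)
    (ho : ∀ i, ¬ 2 ∣ n (π i) ↔ ¬ 2 ∣ n i) : 
    Perm.sign τ = Perm.sign (π.subtypePerm (p := fun i => ¬ 2 ∣ n i) ho) := by
  obtain ⟨N, hN⟩ : ∃ N, ∀ i, n i < N :=
    ⟨Finset.univ.sup n + 1, fun i => Nat.lt_succ_of_le (Finset.le_sup (Finset.mem_univ i))⟩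
  let e : (Σ i, Fin (n i) × Fin (n i)) ≃ {x : ι × (Fin N × Fin N) // x.2.1 < n x.1 ∧ x.2.2 < n x.1} :=
    { toFun := fun x => ⟨(x.1, (⟨x.2.1, x.2.1.2.trans (hN _)⟩, ⟨x.2.2, x.2.2.2.trans (hN _)⟩)), x.2.1.2, x.2.2.2⟩
      invFun := fun x => ⟨x.1.1, ⟨x.1.2.1, x.2.1⟩, ⟨x.1.2.2, x.2.2⟩⟩
      left_inv := fun x => rfl
      right_inv := fun x => rfl }
  rw [lift n π hn (fun m (a : Fin N × Fin N) => a.1 < m ∧ a.2 < m) τ e
    fun x => Prod.ext (h1 x) (Prod.ext (Fin.ext (h2 x)) (Fin.ext (h3 x))),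
    level n π hn N hN (fun m => ¬ 2 ∣ m) ho]
  rw [Finset.prod_congr rfl fun (a : Fin N × Fin N) _ =>
    level n π hn N hN (fun m => a.1 < m ∧ a.2 < m) (fun i => by rw [hn]), Finset.prod_comm]
  refine Finset.prod_congr rfl fun m _ => ?_
  rw [Finset.prod_ite, Finset.prod_const_one, mul_one, Finset.prod_const]
  have hc : (Finset.univ.filter fun a : Fin N × Fin N => (a.1 : ℕ) < m ∧ (a.2 : ℕ) < m).card = m * m := by
    have : (Finset.univ.filter fun a : Fin N × Fin N => (a.1 : ℕ) < m ∧ (a.2 : ℕ) < m) =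
        Finset.Iio m ×ˢ Finset.Iio m := by
      ext a; simp
    rw [this, Finset.card_product, Fin.card_Iio]
  rw [hc]
  split_ifs with hm
  · obtain ⟨k, hk⟩ := hm
    rw [hk, mul_assoc, pow_mul, Int.units_sq, one_pow]
  · have ho : Odd (m : ℕ) := Nat.odd_iff.2 (by omega)
    obtain ⟨k, hk⟩ := ho.mul ho
    rw [hk, pow_succ, pow_mul, Int.units_sq, one_pow, one_mul]

end CL.OD.Sg38
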