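import Cfsg.Agent.BLK.OD.Defs
import Cfsg.Agent.BLK.OD.GD94
import Cfsg.Agent.BLK.OD.Sg38

namespace CL.OD
open Cfsg Classical
open CL.Char Matrix Finset GD94
open scoped Kronecker

/-- Group determinant. Pick matrix reps ρ_χ; D (g, ⟨χ,i,j⟩) = ρ_χ(g)_{ij}, d = det (reindexed).
Schur orthogonality: Σ_g ρ_χ(g)_{ij} ρ_ψ(g⁻¹)_{kl} = δ_{χψ} δ_{il} δ_{jk} |G|/χ(1) gives d².
σ(ρ_χ) = c⁻¹ ρ_{σχ} c, the block x ↦ c⁻¹ x c has det 1 (Kronecker), the block permutation has
sign ∏ sign^(n²) = sign on odd degrees. -/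
theorem det (G : Type*) [Group G] [Fintype G] [inst : Fintype (IrrCharacter G)] :
    ∃ d : ℂ, (d ^ 2 * ∏ χ : IrrCharacter G,
        (charDegree (χ : G → ℂ) : ℂ) ^ (charDegree (χ : G → ℂ) ^ 2) = (Nat.card G : ℂ) ^ Nat.card G ∨
      d ^ 2 * ∏ χ : IrrCharacter G,
        (charDegree (χ : G → ℂ) : ℂ) ^ (charDegree (χ : G → ℂ) ^ 2) = -(Nat.card G : ℂ) ^ Nat.card G) ∧
      ∀ σ : ℂ ≃+* ℂ, σ d = ((Equiv.Perm.sign (oddP G σ) : ℤ) : ℂ) * d := by
  obtain rfl : inst = fintype_irr := Subsingleton.elim _ _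
  choose ρ hρ using fun χ : IrrCharacter G => exists_rep χ
  set n : IrrCharacter G → ℕ := fun χ => charDegree χ.1 with hn
  have n1 : ∀ χ : IrrCharacter G, χ.1 1 = (n χ : ℂ) := fun χ => by
    rw [← congrFun (hρ χ) 1, character_one_fin]
  let J := Σ χ : IrrCharacter G, Fin (n χ) × Fin (n χ)
  have cJ : Fintype.card J = ∑ χ, n χ ^ 2 := by simp [J, sq]
  have cG : Fintype.card J = Nat.card G := by
    have h := sum_degree_sq (G := G)
    simp only [n1] at h
    rw [cJ]; exact_mod_cast h
  obtain ⟨e⟩ : Nonempty (J ≃ G) := Fintype.card_eq.1 (cG.trans Nat.card_eq_fintype_card)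
  let D : Matrix J J ℂ := Matrix.of fun j j' => LinearMap.toMatrix' (ρ j'.1 (e j)) j'.2.1 j'.2.2
  have tr : ∀ (χ : IrrCharacter G) g, (LinearMap.toMatrix' (ρ χ g)).trace = χ.1 g := fun χ g => by
    rw [← congrFun (hρ χ) g]
    unfold Representation.character
    rw [LinearMap.trace_eq_matrix_trace ℂ (Pi.basisFun ℂ (Fin _)), LinearMap.toMatrix_eq_toMatrix']
  refine ⟨D.det, ?_, fun σ₀ => ?_⟩
  · let fl : Equiv.Perm J := Equiv.sigmaCongrRight fun χ => Equiv.prodComm _ _
    let iv : Equiv.Perm J := e.trans ((Equiv.inv G).trans e.symm)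
    have gram : D * (D.submatrix id fl * diagonal fun j : J => (n j.1 : ℂ))ᵀ
        = (Nat.card G : ℂ) • (1 : Matrix J J ℂ).submatrix id iv := by
      ext j j'
      have h := sum_degree_mul (e j * e j')
      have hiff : (j = iv j') ↔ e j * e j' = 1 := by
        rw [mul_eq_one_iff_eq_inv]
        simp only [iv, Equiv.trans_apply, Equiv.inv_apply, Equiv.eq_symm_apply]
      rw [Matrix.smul_apply, submatrix_apply, one_apply, id, smul_eq_mul, mul_ite, mul_one, mul_zero,
        if_congr hiff rfl rfl, ← h, Matrix.mul_apply, Fintype.sum_sigma]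
      refine sum_congr rfl fun χ _ => ?_
      rw [← tr χ (e j * e j'), map_mul, LinearMap.toMatrix'_mul, n1, Matrix.trace, mul_sum,
        Fintype.sum_prod_type]
      refine sum_congr rfl fun a _ => ?_
      rw [diag_apply, Matrix.mul_apply, mul_sum]
      refine sum_congr rfl fun b _ => ?_
      rw [transpose_apply, mul_diagonal, submatrix_apply]
      change LinearMap.toMatrix' (ρ χ (e j)) a b * (LinearMap.toMatrix' (ρ χ (e j')) b a * (n χ : ℂ))
        = _
      ring
    have hd := congrArg Matrix.det gram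
    rw [det_mul, det_transpose, det_mul, det_permute', det_diagonal, det_smul, det_permute',
      det_one, cG, Fintype.prod_sigma] at hd
    simp only [prod_const, card_univ, Fintype.card_prod, Fintype.card_fin, ← sq] at hd
    rcases Int.units_eq_one_or (Equiv.Perm.sign fl) with h1 | h1 <;>
      rcases Int.units_eq_one_or (Equiv.Perm.sign iv) with h2 | h2 <;>
      rw [h1, h2] at hd <;> push_cast at hd
    · left; linear_combination hd
    · right; linear_combination hd
    · right; linear_combination -hd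
    · left; linear_combination -hd
  · let σ : ℂ →+* ℂ := σ₀
    let π : Equiv.Perm (IrrCharacter G) := galIrr G σ₀
    have hπ : ∀ χ g, (π χ).1 g = σ (χ.1 g) := fun χ g => galIrr_apply σ₀ χ g
    have nπ : ∀ χ, n χ = n (π χ) := fun χ => (deg_gal σ₀ χ).symm
    let F : Equiv.Perm J := Equiv.sigmaCongr π fun χ =>
      Equiv.prodCongr (finCongr (nπ χ)) (finCongr (nπ χ))
    have hs := fun χ : IrrCharacter G => simil (nπ χ) (galRep σ (ρ χ)) (ρ (π χ))
      (by rw [hρ]; funext g; rw [galRep_character, hρ, hπ])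
    choose X Y hXY hX using hs
    have key : D.map σ = D.submatrix id F * blockDiagonal' fun χ => (X χ)ᵀ ⊗ₖ Y χ := by
      ext j ⟨χ, a, b⟩
      rw [mul_bd, Fintype.sum_prod_type]
      have := congrFun (congrFun (hX χ (e j)) a) b
      rw [toMatrix'_galRep, map_apply, Matrix.mul_apply] at this
      simp only [Matrix.mul_apply, sum_mul] at this
      rw [sum_comm] at this
      refine (show D.map σ j ⟨χ, a, b⟩ = _ from this).trans ?_
      refine sum_congr rfl fun c _ => sum_congr rfl fun d _ => ?_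
      have : D.submatrix id F j ⟨χ, c, d⟩ = (LinearMap.toMatrix' (ρ (π χ) (e j))).submatrix
        (Fin.cast (nπ χ)) (Fin.cast (nπ χ)) c d := rfl
      rw [this, kroneckerMap_apply, transpose_apply]
      ring
    have h1 : ∀ χ, ((X χ)ᵀ ⊗ₖ Y χ).det = 1 := fun χ => by
      rw [det_kronecker, det_transpose, ← mul_pow, ← det_mul, hXY, det_one, one_pow]
    have hd : σ D.det = (Equiv.Perm.sign F : ℤ) * D.det := by
      rw [RingHom.map_det, RingHom.mapMatrix_apply, key, det_mul, det_permute', det_bd]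
      simp [h1]
    have ho : ∀ i, ¬ 2 ∣ n (π i) ↔ ¬ 2 ∣ n i := fun i => by rw [← nπ]
    have hsg := Sg38.sign n π (fun i => (nπ i).symm) F (fun _ => rfl) (fun _ => rfl) (fun _ => rfl) ho
    refine hd.trans ?_
    rw [hsg, Equiv.Perm.sign_eq_sign_of_equiv _ (oddP G σ₀)
      (Equiv.subtypeEquivRight fun χ => by rw [Nat.two_dvd_ne_zero, Nat.odd_iff]) fun _ => rfl]

end CL.OD
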