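import Cfsg.Agent.CHAR.Galois
import Cfsg.Agent.CHAR.RepEquiv
import Cfsg.Agent.KSG.GLnSimil
import Cfsg.Prelude.Def_Blocks

/-! The group determinant. -/

set_option autoImplicit false

namespace CL.OD.GD19

open Cfsg CL.Char Matrix
open scoped Kronecker Classical

variable {G : Type*} [Group G] [Finite G]

theorem cj {n : ℕ} (R S : G →* Matrix (Fin n) (Fin n) ℂ) (h : ∀ g, (R g).trace = (S g).trace) :
    ∃ A B : Matrix (Fin n) (Fin n) ℂ, A * B = 1 ∧ ∀ g, R g = A * S g * B := by
  let ρ : Representation ℂ G (Fin n → ℂ) := (toLinAlgEquiv' (R := ℂ) (n := Fin n)).toMonoidHom.comp R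
  let σ : Representation ℂ G (Fin n → ℂ) := (toLinAlgEquiv' (R := ℂ) (n := Fin n)).toMonoidHom.comp S
  have hρ : ∀ g, ρ g = toLin' (R g) := fun g => rfl
  have hσ : ∀ g, σ g = toLin' (S g) := fun g => rfl
  obtain ⟨e⟩ := nonempty_equiv_of_character_eq σ ρ (by
    funext g
    show LinearMap.trace ℂ _ (σ g) = LinearMap.trace ℂ _ (ρ g)
    rw [hρ, hσ, trace_toLin'_eq, trace_toLin'_eq, h])
  have hAB : LinearMap.toMatrix' e.toLinearEquiv.toLinearMap *
      LinearMap.toMatrix' e.toLinearEquiv.symm.toLinearMap = 1 := by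
    rw [← LinearMap.toMatrix'_comp, LinearEquiv.comp_symm, LinearMap.toMatrix'_id]
  refine ⟨_, _, hAB, fun g => ?_⟩
  have h1 : e.toLinearEquiv.toLinearMap ∘ₗ σ g = ρ g ∘ₗ e.toLinearEquiv.toLinearMap :=
    e.isIntertwining' g
  have h2 := congrArg LinearMap.toMatrix' h1
  rw [LinearMap.toMatrix'_comp, LinearMap.toMatrix'_comp, hρ, hσ, LinearMap.toMatrix'_toLin',
    LinearMap.toMatrix'_toLin'] at h2
  rw [h2, Matrix.mul_assoc, hAB, Matrix.mul_one]

omit [Finite G] in
theorem rep (χ : IrrCharacter G) : ∃ R : G →* Matrix (Fin (charDegree χ.1)) (Fin (charDegree χ.1)) ℂ,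
    ∀ g, (R g).trace = χ.1 g := by
  obtain ⟨n, ρ, -, h⟩ := χ.2
  have hn : charDegree χ.1 = n := by
    apply charDegree_eq_of_apply_one
    rw [← h, Representation.char_one]; simp
  rw [hn]
  refine ⟨(LinearMap.toMatrixAlgEquiv' (R := ℂ) (n := Fin n)).toMonoidHom.comp ρ, fun g => ?_⟩
  rw [← h]
  show (LinearMap.toMatrix' (ρ g)).trace = LinearMap.trace ℂ _ (ρ g)
  rw [← trace_toLin'_eq, toLin'_toMatrix']

theorem gdet (G : Type*) [Group G] [Finite G] : ∃ d : ℂ, (∃ ε : ℤ, (ε = 1 ∨ ε = -1) ∧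
    d ^ 2 * ∏ χ : IrrCharacter G, (charDegree χ.1 : ℂ) ^ (charDegree χ.1 ^ 2) =
      ε * (Nat.card G : ℂ) ^ (Nat.card G)) ∧
    ∀ (σ : ℂ →+* ℂ) (π : Equiv.Perm (IrrCharacter G)), (∀ χ g, (π χ).1 g = σ (χ.1 g)) → π * π = 1 →
      σ d = (-1) ^ (Nat.card {χ : IrrCharacter G // ¬ 2 ∣ charDegree χ.1 ∧ π χ ≠ χ} / 2) * d := by
  let := Fintype.ofFinite G
  choose R hR using rep (G := G)
  let ι := Σ χ : IrrCharacter G, Fin (charDegree χ.1) × Fin (charDegree χ.1)
  have hι : Fintype.card ι = ∑ χ : IrrCharacter G, charDegree χ.1 ^ 2 := by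
    simp [ι, sq]
  have hc : Fintype.card ι = Fintype.card G := by
    have := sum_degree_sq (G := G)
    simp only [fun χ : IrrCharacter G => χ.2.apply_one_eq_charDegree] at this
    rw [hι, ← Nat.card_eq_fintype_card]
    exact_mod_cast this
  let e : ι ≃ G := Fintype.equivOfCardEq hc
  let M : Matrix ι ι ℂ := Matrix.of fun x y => R y.1 (e x) y.2.1 y.2.2
  refine ⟨M.det, ?_, fun σ π hπ h2 => ?_⟩
  · let s : Equiv.Perm ι := Equiv.sigmaCongrRight fun χ => Equiv.prodComm _ _
    let t : Equiv.Perm ι := (e.trans (Equiv.inv G)).trans e.symm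
    have h1 : M * diagonal (fun y : ι => (charDegree y.1.1 : ℂ)) *
        ((M.submatrix t id).submatrix id s)ᵀ = (Nat.card G : ℂ) • 1 := by
      ext x z
      rw [Matrix.mul_apply, Fintype.sum_sigma]
      have h3 : ∀ χ : IrrCharacter G, ∑ y : Fin (charDegree χ.1) × Fin (charDegree χ.1),
          (M * diagonal (fun y : ι => (charDegree y.1.1 : ℂ))) x ⟨χ, y⟩ *
            ((M.submatrix t id).submatrix id s)ᵀ ⟨χ, y⟩ z = χ.1 1 * χ.1 (e x * (e z)⁻¹) := fun χ => by
        rw [← hR χ (e x * (e z)⁻¹), map_mul, χ.2.apply_one_eq_charDegree, Fintype.sum_prod_type,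
          Matrix.trace, Finset.mul_sum]
        refine Finset.sum_congr rfl fun i _ => ?_
        rw [diag_apply, Matrix.mul_apply, Finset.mul_sum]
        refine Finset.sum_congr rfl fun j _ => ?_
        rw [mul_diagonal]
        show R χ (e x) i j * (charDegree χ.1 : ℂ) * R χ (e (e.symm (e z)⁻¹)) j i = _
        rw [Equiv.apply_symm_apply]
        ring
      rw [Finset.sum_congr rfl fun χ _ => h3 χ, sum_degree_mul]
      simp [one_apply, mul_inv_eq_one]
    have h4 := congrArg det h1
    rw [det_mul, det_mul, det_transpose, det_permute', det_permute, det_diagonal, det_smul, det_one,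
      hc, ← Nat.card_eq_fintype_card, Fintype.prod_sigma] at h4
    simp only [Finset.prod_const, Finset.card_univ, Fintype.card_prod, Fintype.card_fin, ← sq] at h4
    rcases Int.units_eq_one_or (Equiv.Perm.sign s) with hs | hs <;>
      rcases Int.units_eq_one_or (Equiv.Perm.sign t) with ht | ht <;> rw [hs, ht] at h4 <;>
      push_cast at h4
    · exact ⟨1, .inl rfl, by push_cast; linear_combination h4⟩
    · exact ⟨-1, .inr rfl, by push_cast; linear_combination -h4⟩
    · exact ⟨-1, .inr rfl, by push_cast; linear_combination -h4⟩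
    · exact ⟨1, .inl rfl, by push_cast; linear_combination h4⟩
  · have hd : ∀ χ : IrrCharacter G, charDegree χ.1 = charDegree (π χ).1 := fun χ => by
      rw [show (π χ).1 = fun g => σ (χ.1 g) from funext (hπ χ), χ.2.isCharacter.charDegree_gal]
    let τ : Equiv.Perm ι :=
      Equiv.sigmaCongr π fun χ => Equiv.prodCongr (finCongr (hd χ)) (finCongr (hd χ))
    have hτ : ∀ x : ι, τ x = ⟨π x.1, Fin.cast (hd x.1) x.2.1, Fin.cast (hd x.1) x.2.2⟩ := fun x => rfl
    have hA : ∀ χ : IrrCharacter G, ∃ A B : Matrix (Fin (charDegree χ.1)) (Fin (charDegree χ.1)) ℂ,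
        A * B = 1 ∧ ∀ g, (R χ g).map σ =
          A * (R (π χ) g).submatrix (finCongr (hd χ)) (finCongr (hd χ)) * B := fun χ =>
      cj (σ.mapMatrix.toMonoidHom.comp (R χ))
        ((reindexAlgEquiv ℂ ℂ (finCongr (hd χ)).symm).toMonoidHom.comp (R (π χ))) fun g => by
          show ((R χ g).map σ).trace =
            ((R (π χ) g).submatrix (finCongr (hd χ)) (finCongr (hd χ))).trace
          have e1 : ((R χ g).map σ).trace = σ (R χ g).trace := by simp [Matrix.trace]
          have e2 : ((R (π χ) g).submatrix (finCongr (hd χ)) (finCongr (hd χ))).trace =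
              (R (π χ) g).trace := (finCongr (hd χ)).sum_comp fun i => R (π χ) g i i
          rw [e1, e2, hR, hR, hπ]
    choose A B hAB hA using hA
    have h1 : M.map σ = M.submatrix id τ * blockDiagonal' fun χ => (A χ)ᵀ ⊗ₖ B χ := by
      ext x ⟨χ, i, j⟩
      rw [Matrix.mul_apply, Fintype.sum_sigma, Finset.sum_eq_single χ]
      · have := congrFun (congrFun (hA χ (e x)) i) j
        simp only [blockDiagonal'_apply_eq]
        refine this.trans ?_
        rw [Fintype.sum_prod_type_right, Matrix.mul_apply]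
        refine Finset.sum_congr rfl fun l _ => ?_
        rw [Matrix.mul_apply, Finset.sum_mul]
        refine Finset.sum_congr rfl fun k _ => ?_
        simp only [M, hτ, submatrix_apply, of_apply, id, kronecker_apply, transpose_apply,
          finCongr_apply]
        ring
      · intro ψ _ h
        simp [blockDiagonal'_apply_ne _ _ _ h]
      · simp
    have h3 : (blockDiagonal' fun χ => (A χ)ᵀ ⊗ₖ B χ).det = 1 := by
      rw [CL.GLn.det_blockDiagonal']
      refine Finset.prod_eq_one fun χ _ => ?_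
      rw [det_kronecker, det_transpose, ← mul_pow, ← det_mul, hAB, det_one, one_pow]
    have hinj : ∀ x y : ι, x.1 = y.1 → (x.2.1 : ℕ) = y.2.1 → (x.2.2 : ℕ) = y.2.2 → x = y := by
      rintro ⟨χ, i, j⟩ ⟨ψ, k, l⟩ rfl h h'
      obtain rfl := Fin.ext h
      obtain rfl := Fin.ext h'
      rfl
    have hτ2 : τ ^ 2 = 1 := by
      ext1 x
      exact hinj _ _ (congrArg (fun f : Equiv.Perm _ => f x.1) h2) rfl rfl
    have hf : Fintype.card (Function.fixedPoints τ) =
        ∑ χ : IrrCharacter G, if π χ = χ then charDegree χ.1 ^ 2 else 0 := by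
      rw [Fintype.card_subtype, Finset.card_filter, Fintype.sum_sigma]
      refine Finset.sum_congr rfl fun χ _ => ?_
      have : ∀ y, (⟨χ, y⟩ : ι) ∈ Function.fixedPoints τ ↔ π χ = χ := fun y =>
        ⟨fun h => congrArg Sigma.fst h, fun h => hinj _ _ h rfl rfl⟩
      simp only [this]
      split_ifs <;> simp [sq]
    have hm : (Fintype.card ι - Fintype.card (Function.fixedPoints τ)) % 4 =
        Nat.card {χ : IrrCharacter G // ¬ 2 ∣ charDegree χ.1 ∧ π χ ≠ χ} % 4 := by
      have e1 : Fintype.card ι = Fintype.card (Function.fixedPoints τ) +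
          ∑ χ : IrrCharacter G, if π χ = χ then 0 else charDegree χ.1 ^ 2 := by
        rw [hι, hf, ← Finset.sum_add_distrib]
        exact Finset.sum_congr rfl fun χ _ => by split_ifs <;> simp
      rw [e1, Nat.add_sub_cancel_left, Nat.card_eq_fintype_card, Fintype.card_subtype,
        Finset.card_filter, Finset.sum_nat_mod, Finset.sum_nat_mod _ 4 fun _ => ite _ 1 0]
      congr 1
      refine Finset.sum_congr rfl fun χ _ => ?_
      by_cases h : π χ = χ
      · simp [h]
      · rcases Nat.even_or_odd' (charDegree χ.1) with ⟨k, hk | hk⟩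
        · rw [if_neg h, if_neg (by omega), hk, show (2 * k) ^ 2 = 4 * k ^ 2 by ring]; simp
        · rw [if_neg h, if_pos ⟨by omega, h⟩, hk,
            show (2 * k + 1) ^ 2 = 1 + 4 * (k ^ 2 + k) by ring]; simp
    rw [RingHom.map_det, RingHom.mapMatrix_apply, h1, det_mul, h3, mul_one, det_permute',
      Equiv.Perm.sign_of_pow_two_eq_one hτ2]
    congr 1
    push_cast
    rw [neg_one_pow_eq_pow_mod_two, neg_one_pow_eq_pow_mod_two (n := Nat.card _ / 2)]
    congr 1
    omega

end CL.OD.GD19
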