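import Cfsg.Agent.CHAR.RepEquiv
import Cfsg.Agent.CHAR.Orth
import Cfsg.Prelude.Def_Blocks

set_option autoImplicit false

namespace CL.OD.GD40

open Cfsg Matrix Equiv
open scoped Kronecker

theorem det_bd {R : Type*} [CommRing R] {ι : Type*} [Fintype ι] [DecidableEq ι] {m : ι → Type*}
    [∀ i, Fintype (m i)] [∀ i, DecidableEq (m i)] (M : ∀ i, Matrix (m i) (m i) R) :
    (blockDiagonal' M).det = ∏ i, (M i).det := by
  let _ : LinearOrder ι := LinearOrder.lift' (Fintype.equivFin ι) (Equiv.injective _)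
  have h := Matrix.BlockTriangular.det_fintype (Matrix.blockTriangular_blockDiagonal' M)
  refine (by convert h : _ = ∏ k, ((blockDiagonal' M).toSquareBlock Sigma.fst k).det).trans
    (Finset.prod_congr rfl fun i _ => ?_)
  rw [← det_submatrix_equiv_self (Equiv.sigmaSubtype i).symm]
  congr 1
  ext a b
  simp [toSquareBlock_def, Equiv.sigmaSubtype]

variable {G : Type*} [Group G]

theorem deg (χ : IrrCharacter G) : (charDegree χ.1 : ℂ) = χ.1 1 := by
  obtain ⟨n, ρ, -, h⟩ := χ.2
  have : χ.1 1 = (n : ℂ) := by rw [← h, Representation.char_one]; simp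
  unfold charDegree
  rw [this]; simp

theorem exm (χ : IrrCharacter G) :
    ∃ R : G →* Matrix (Fin (charDegree χ.1)) (Fin (charDegree χ.1)) ℂ, ∀ g, (R g).trace = χ.1 g := by
  obtain ⟨n, ρ, -, h⟩ := χ.2
  have hn : charDegree χ.1 = n := by
    have h1 : χ.1 1 = (n : ℂ) := by rw [← h, Representation.char_one]; simp
    have := deg χ
    rw [h1] at this
    exact_mod_cast this
  rw [hn]
  refine ⟨(LinearMap.toMatrixAlgEquiv' (R := ℂ) (n := Fin n)).toMonoidHom.comp ρ, fun g => ?_⟩
  rw [← h]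
  show (LinearMap.toMatrix' (ρ g)).trace = LinearMap.trace ℂ _ (ρ g)
  rw [← Matrix.trace_toLin'_eq, Matrix.toLin'_toMatrix']

theorem cnj [Finite G] {n : ℕ} (R S : G →* Matrix (Fin n) (Fin n) ℂ)
    (h : ∀ g, (R g).trace = (S g).trace) :
    ∃ P Q : Matrix (Fin n) (Fin n) ℂ, P * Q = 1 ∧ ∀ g, R g = P * S g * Q := by
  let ρ : Representation ℂ G (Fin n → ℂ) :=
    (Matrix.toLinAlgEquiv' (R := ℂ) (n := Fin n)).toMonoidHom.comp R
  let τ : Representation ℂ G (Fin n → ℂ) :=
    (Matrix.toLinAlgEquiv' (R := ℂ) (n := Fin n)).toMonoidHom.comp S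
  have hρ : ∀ g, ρ g = Matrix.toLin' (R g) := fun g => rfl
  have hτ : ∀ g, τ g = Matrix.toLin' (S g) := fun g => rfl
  obtain ⟨e⟩ := CL.Char.nonempty_equiv_of_character_eq ρ τ (by
    funext g
    show LinearMap.trace ℂ _ (ρ g) = LinearMap.trace ℂ _ (τ g)
    rw [hρ, hτ, Matrix.trace_toLin'_eq, Matrix.trace_toLin'_eq, h])
  let E := e.toLinearEquiv
  have hE : ∀ g, E.toLinearMap ∘ₗ ρ g = τ g ∘ₗ E.toLinearMap := fun g => e.isIntertwining' g
  have h1 : LinearMap.toMatrix' E.symm.toLinearMap * LinearMap.toMatrix' E.toLinearMap = 1 := by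
    rw [← LinearMap.toMatrix'_comp]; simp
  refine ⟨LinearMap.toMatrix' E.symm.toLinearMap, LinearMap.toMatrix' E.toLinearMap, h1, fun g => ?_⟩
  have h2 := congrArg LinearMap.toMatrix' (hE g)
  rw [LinearMap.toMatrix'_comp, LinearMap.toMatrix'_comp, hρ, hτ, LinearMap.toMatrix'_toLin',
    LinearMap.toMatrix'_toLin'] at h2
  rw [Matrix.mul_assoc, ← h2, ← Matrix.mul_assoc, h1, Matrix.one_mul]

theorem core (G : Type*) [Group G] [Fintype G] [Fintype (IrrCharacter G)]
    [DecidableEq (IrrCharacter G)] :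
    ∃ d : ℂ, (d ^ 2 * ∏ χ : IrrCharacter G,
        (charDegree (χ : G → ℂ) : ℂ) ^ (charDegree (χ : G → ℂ) ^ 2) = (Nat.card G : ℂ) ^ Nat.card G ∨
      d ^ 2 * ∏ χ : IrrCharacter G,
        (charDegree (χ : G → ℂ) : ℂ) ^ (charDegree (χ : G → ℂ) ^ 2) = -(Nat.card G : ℂ) ^ Nat.card G) ∧
      ∀ (σ : ℂ →+* ℂ) (π : Perm (IrrCharacter G)), (∀ χ g, (π χ).1 g = σ (χ.1 g)) →
        ∃ τ : Perm (Σ χ : IrrCharacter G, Fin (charDegree χ.1) × Fin (charDegree χ.1)),
          (∀ x, (τ x).1 = π x.1) ∧ (∀ x, ((τ x).2.1 : ℕ) = x.2.1) ∧ (∀ x, ((τ x).2.2 : ℕ) = x.2.2) ∧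
          σ d = ((Perm.sign τ : ℤ) : ℂ) * d := by
  classical
  choose R hR using exm (G := G)
  let I := Σ χ : IrrCharacter G, Fin (charDegree χ.1) × Fin (charDegree χ.1)
  have hs : ∀ g : G, ∑ χ : IrrCharacter G, (charDegree χ.1 : ℂ) * χ.1 g =
      if g = 1 then (Nat.card G : ℂ) else 0 := fun g => by
    simp only [deg]
    convert CL.Char.sum_degree_mul g
  have hc : Fintype.card I = Fintype.card G := by
    have := hs 1
    simp only [← deg, if_true, Nat.card_eq_fintype_card] at this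
    simp only [I, Fintype.card_sigma, Fintype.card_prod, Fintype.card_fin]
    exact_mod_cast this
  let e : I ≃ G := Fintype.equivOfCardEq hc
  let D : Matrix I I ℂ := fun x y => R x.1 (e y) x.2.1 x.2.2
  refine ⟨D.det, ?_, ?_⟩
  · let a : Perm I := Equiv.sigmaCongrRight fun χ => Equiv.prodComm _ _
    let b : Perm I := (e.trans (Equiv.inv G)).trans e.symm
    let w : I → ℂ := fun x => (charDegree x.1.1 : ℂ)
    have h1 : (D.submatrix a b)ᵀ * diagonal w * D = (Nat.card G : ℂ) • (1 : Matrix I I ℂ) := by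
      ext y z
      rw [Matrix.mul_apply]
      simp only [Matrix.mul_diagonal, transpose_apply, submatrix_apply, Matrix.smul_apply,
        one_apply, smul_eq_mul]
      rw [← Finset.univ_sigma_univ, Finset.sum_sigma]
      have : ∀ χ : IrrCharacter G, ∑ s : Fin (charDegree χ.1) × Fin (charDegree χ.1),
          D (a ⟨χ, s⟩) (b y) * w ⟨χ, s⟩ * D ⟨χ, s⟩ z =
          (charDegree χ.1 : ℂ) * χ.1 ((e y)⁻¹ * e z) := fun χ => by
        rw [← hR, map_mul, Matrix.trace, Fintype.sum_prod_type_right, Finset.mul_sum]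
        refine Finset.sum_congr rfl fun j _ => ?_
        rw [Matrix.diag_apply, Matrix.mul_apply, Finset.mul_sum]
        refine Finset.sum_congr rfl fun i _ => ?_
        have : D (a ⟨χ, (i, j)⟩) (b y) = R χ (e y)⁻¹ j i := by
          show R χ (e (e.symm (e y)⁻¹)) j i = _
          rw [e.apply_symm_apply]
        rw [this]
        show _ * (charDegree χ.1 : ℂ) * R χ (e z) i j = _
        ring
      simp only [this]
      rw [hs]
      by_cases h : y = z
      · simp [h]
      · have : ¬ (e y)⁻¹ * e z = 1 := fun h' => h (e.injective (inv_mul_eq_one.1 h'))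
        simp [h, this]
    have h2 := congrArg Matrix.det h1
    have h3 : (D.submatrix a b).det = ((Perm.sign a * Perm.sign b : ℤˣ) : ℤ) * D.det := by
      have : D.submatrix a b = (D.submatrix a id).submatrix id b := rfl
      rw [this, det_permute', det_permute]
      push_cast
      ring
    have h4 : ∏ x, w x = ∏ χ : IrrCharacter G,
        (charDegree (χ : G → ℂ) : ℂ) ^ (charDegree (χ : G → ℂ) ^ 2) := by
      rw [← Finset.univ_sigma_univ, Finset.prod_sigma]
      refine Finset.prod_congr rfl fun χ _ => ?_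
      simp [w, sq]
    rw [det_mul, det_mul, det_transpose, det_diagonal, det_smul, det_one, mul_one, h3, h4, hc,
      ← Nat.card_eq_fintype_card] at h2
    rcases Int.units_eq_one_or (Perm.sign a * Perm.sign b) with h | h <;> rw [h] at h2
    · left; rw [← h2]; simp; ring
    · right; rw [← h2]; simp; ring
  · intro σ π hπ
    have hn : ∀ χ : IrrCharacter G, charDegree χ.1 = charDegree (π χ).1 := fun χ => by
      have := hπ χ 1
      rw [← deg, ← deg, map_natCast] at this
      exact_mod_cast this.symm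
    let c : ∀ χ : IrrCharacter G, Fin (charDegree χ.1) ≃ Fin (charDegree (π χ).1) :=
      fun χ => finCongr (hn χ)
    let τ : Perm I := Equiv.sigmaCongr π fun χ => Equiv.prodCongr (c χ) (c χ)
    have hτ : ∀ (χ : IrrCharacter G) (s : Fin (charDegree χ.1) × Fin (charDegree χ.1)),
        τ ⟨χ, s⟩ = ⟨π χ, (c χ s.1, c χ s.2)⟩ := fun χ s => rfl
    refine ⟨τ, fun x => rfl, fun x => rfl, fun x => rfl, ?_⟩
    have hP : ∀ χ : IrrCharacter G, ∃ P Q : Matrix (Fin (charDegree χ.1)) (Fin (charDegree χ.1)) ℂ,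
        P * Q = 1 ∧ ∀ g, (R χ g).map σ = P * (R (π χ) g).submatrix (c χ) (c χ) * Q := fun χ => by
      refine cnj ((σ.mapMatrix).toMonoidHom.comp (R χ))
        ((Matrix.reindexAlgEquiv ℂ ℂ (c χ).symm).toMonoidHom.comp (R (π χ))) fun g => ?_
      show ((R χ g).map σ).trace = ((R (π χ) g).submatrix (c χ) (c χ)).trace
      rw [← AddMonoidHom.map_trace, hR, ← hπ, ← hR]
      exact (Equiv.sum_comp (c χ) fun i => R (π χ) g i i).symm
    choose P Q hPQ hP using hP
    have h1 : D.map σ = blockDiagonal' (fun χ => P χ ⊗ₖ (Q χ)ᵀ) * D.submatrix τ id := by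
      ext ⟨χ, i, j⟩ z
      rw [Matrix.mul_apply, ← Finset.univ_sigma_univ, Finset.sum_sigma, Finset.sum_eq_single χ]
      · have := congrFun (congrFun (hP χ (e z)) i) j
        refine this.trans ?_
        rw [Matrix.mul_apply, Fintype.sum_prod_type_right]
        refine Finset.sum_congr rfl fun l _ => ?_
        rw [Matrix.mul_apply, Finset.sum_mul]
        refine Finset.sum_congr rfl fun k _ => ?_
        rw [blockDiagonal'_apply_eq, kroneckerMap_apply, transpose_apply]
        show P χ i k * R (π χ) (e z) (c χ k) (c χ l) * Q χ l j =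
          P χ i k * Q χ l j * R (π χ) (e z) (c χ k) (c χ l)
        ring
      · intro ψ _ h
        refine Finset.sum_eq_zero fun s _ => ?_
        rw [blockDiagonal'_apply_ne _ _ _ h.symm, zero_mul]
      · simp
    rw [σ.map_det, RingHom.mapMatrix_apply, h1, det_mul, det_bd, det_permute, Finset.prod_eq_one,
      one_mul]
    intro χ _
    rw [det_kronecker, det_transpose, ← mul_pow, ← det_mul, hPQ, det_one, one_pow]

end CL.OD.GD40
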