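import Cfsg.Agent.CHAR.RepEquiv
import Cfsg.Agent.CHAR.Values
import Cfsg.Agent.CHAR.Galois
import Mathlib.LinearAlgebra.Matrix.Kronecker
import Mathlib.GroupTheory.Perm.Cycle.Type

/-! The group determinant and its Galois conjugates. -/

set_option autoImplicit false
set_option linter.unusedSectionVars false

namespace CL.OD.GD49

open Cfsg CL.Char Matrix
open scoped Kronecker

variable {G : Type*} [Group G] [Finite G]

theorem conj {m : ℕ} (R1 R2 : G →* Matrix (Fin m) (Fin m) ℂ)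
    (h : ∀ g, (R1 g).trace = (R2 g).trace) :
    ∃ T S : Matrix (Fin m) (Fin m) ℂ, T * S = 1 ∧ ∀ g, R1 g = T * R2 g * S := by
  let f : Matrix (Fin m) (Fin m) ℂ →* Module.End ℂ (Fin m → ℂ) :=
    (Matrix.toLinAlgEquiv' : Matrix (Fin m) (Fin m) ℂ ≃ₐ[ℂ] _).toRingEquiv.toMonoidHom
  have hf : ∀ M, f M = Matrix.toLin' M := fun _ => rfl
  obtain ⟨φ⟩ := nonempty_equiv_of_character_eq (G := G) (f.comp R2) (f.comp R1) (funext fun g => by
    simp only [Representation.character, MonoidHom.comp_apply, hf, Matrix.trace_toLin'_eq, h])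
  have h1 : LinearMap.toMatrix' φ.toLinearEquiv.toLinearMap *
      LinearMap.toMatrix' φ.toLinearEquiv.symm.toLinearMap = 1 := by
    rw [← LinearMap.toMatrix'_comp, LinearEquiv.comp_symm, LinearMap.toMatrix'_id]
  refine ⟨_, _, h1, fun g => ?_⟩
  have h2 := congrArg LinearMap.toMatrix' (φ.isIntertwining' g)
  simp only [LinearMap.toMatrix'_comp, MonoidHom.comp_apply, hf, LinearMap.toMatrix'_toLin'] at h2
  change LinearMap.toMatrix' φ.toLinearEquiv.toLinearMap * _ =
    _ * LinearMap.toMatrix' φ.toLinearEquiv.toLinearMap at h2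
  rw [h2, Matrix.mul_assoc, h1, Matrix.mul_one]

theorem exR (χ : IrrCharacter G) :
    ∃ R : G →* Matrix (Fin (charDegree χ.1)) (Fin (charDegree χ.1)) ℂ, ∀ g, (R g).trace = χ.1 g := by
  obtain ⟨m, ρ, -, h⟩ := χ.2
  have hm : m = charDegree χ.1 := by
    have := χ.2.apply_one_eq_charDegree
    rw [← h, character_one_fin] at this
    rw [← h]
    exact_mod_cast this
  subst hm
  refine ⟨(LinearMap.toMatrixAlgEquiv' : _ ≃ₐ[ℂ] Matrix _ _ ℂ).toRingEquiv.toMonoidHom.comp ρ, fun g => ?_⟩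
  rw [← congrFun h g, ← Matrix.trace_toLin'_eq]
  exact congrArg _ (Matrix.toLin'_toMatrix' _)

section
variable {α : Type*} [Fintype α] [DecidableEq α] {n : α → ℕ}

theorem extI {i j : Σ a, Fin (n a) × Fin (n a)} (h : i.1 = j.1) (h1 : (i.2.1 : ℕ) = j.2.1)
    (h2 : (i.2.2 : ℕ) = j.2.2) : i = j := by
  obtain ⟨a, x, y⟩ := i
  obtain ⟨b, z, w⟩ := j
  dsimp only at h h1 h2
  subst h
  rw [Fin.ext h1, Fin.ext h2]

/-- swapping the two matrix indices -/
def sw (n : α → ℕ) : Equiv.Perm (Σ a, Fin (n a) × Fin (n a)) :=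
  Equiv.sigmaCongrRight fun _ => Equiv.prodComm _ _

theorem det_bd (T S : ∀ a, Matrix (Fin (n a)) (Fin (n a)) ℂ) (h : ∀ a, T a * S a = 1) :
    (blockDiagonal' fun a => T a ⊗ₖ (S a)ᵀ).det = 1 := by
  have e1 : (blockDiagonal' fun a => T a ⊗ₖ (S a)ᵀ) =
      (blockDiagonal' fun a => T a ⊗ₖ (1 : Matrix (Fin (n a)) (Fin (n a)) ℂ)) *
        blockDiagonal' fun a => (1 : Matrix (Fin (n a)) (Fin (n a)) ℂ) ⊗ₖ (S a)ᵀ := by
    rw [← blockDiagonal'_mul]
    simp only [← mul_kronecker_mul, Matrix.mul_one, Matrix.one_mul]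
  have e2 : (blockDiagonal' fun a => (1 : Matrix (Fin (n a)) (Fin (n a)) ℂ) ⊗ₖ (S a)ᵀ) =
      ((blockDiagonal' fun a => S a ⊗ₖ (1 : Matrix (Fin (n a)) (Fin (n a)) ℂ))ᵀ).submatrix
        (sw n) (sw n) := by
    ext ⟨a, x, y⟩ ⟨b, z, w⟩
    by_cases hab : a = b
    · subst hab
      simp [sw, mul_comm, Matrix.one_apply, eq_comm]
    · simp [sw, blockDiagonal'_apply_ne _ _ _ hab]
  rw [e1, det_mul, e2, det_submatrix_equiv_self, det_transpose, ← det_mul, ← blockDiagonal'_mul]
  simp only [← mul_kronecker_mul, h, Matrix.mul_one, one_kronecker_one]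
  rw [show (fun a => (1 : Matrix (Fin (n a) × Fin (n a)) (Fin (n a) × Fin (n a)) ℂ)) = 1 from rfl,
    blockDiagonal'_one, det_one]

theorem sign_lift (π : Equiv.Perm α) (hn : ∀ a, n (π a) = n a) (hπ : π * π = 1) :
    ∃ P : Equiv.Perm (Σ a, Fin (n a) × Fin (n a)),
      (∀ i, P i = ⟨π i.1, i.2.1.cast (hn _).symm, i.2.2.cast (hn _).symm⟩) ∧
      Equiv.Perm.sign P = (-1) ^ (Nat.card {a // ¬ 2 ∣ n a ∧ π a ≠ a} / 2) := by
  let f : (Σ a, Fin (n a) × Fin (n a)) → (Σ a, Fin (n a) × Fin (n a)) :=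
    fun i => ⟨π i.1, i.2.1.cast (hn _).symm, i.2.2.cast (hn _).symm⟩
  have hf : Function.Involutive f := fun i => extI (congrFun (congrArg DFunLike.coe hπ) i.1) rfl rfl
  refine ⟨hf.toPerm f, fun _ => rfl, ?_⟩
  rw [Equiv.Perm.sign_of_pow_two_eq_one (Equiv.ext fun i => hf i)]
  have h1 : Fintype.card (Σ a, Fin (n a) × Fin (n a)) -
      Fintype.card (Function.fixedPoints (hf.toPerm f)) = ∑ a, if π a ≠ a then n a * n a else 0 := by
    rw [← Fintype.card_subtype_compl, Fintype.card_subtype, Finset.card_filter, Fintype.sum_sigma]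
    refine Finset.sum_congr rfl fun a _ => ?_
    have : ∀ x : Fin (n a) × Fin (n a),
        (⟨a, x⟩ : Σ a, Fin (n a) × Fin (n a)) ∈ Function.fixedPoints (hf.toPerm f) ↔ π a = a :=
      fun x => ⟨fun h => congrArg Sigma.fst h, fun h => extI h rfl rfl⟩
    simp only [this]
    by_cases h : π a = a <;> simp [h]
  have h2 : (∑ a, if π a ≠ a then n a * n a else 0) ≡ Nat.card {a // ¬ 2 ∣ n a ∧ π a ≠ a} [MOD 4] := by
    rw [Nat.card_eq_fintype_card, Fintype.card_subtype, Finset.card_filter,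
      ← ZMod.natCast_eq_natCast_iff, Nat.cast_sum, Nat.cast_sum]
    refine Finset.sum_congr rfl fun a _ => ?_
    by_cases h : π a = a
    · simp [h]
    rcases Nat.even_or_odd' (n a) with ⟨k, hk | hk⟩
    · have hd : 2 ∣ n a := ⟨k, hk⟩
      rw [if_pos h, if_neg (fun e => e.1 hd), hk]
      push_cast; generalize (k : ZMod 4) = x; revert x; decide
    · have hd : ¬ 2 ∣ n a := by omega
      rw [if_pos h, if_pos ⟨hd, h⟩, hk]
      push_cast; generalize (k : ZMod 4) = x; revert x; decide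
  rw [h1, pow_eq_pow_mod _ (neg_one_sq (R := ℤˣ)),
    pow_eq_pow_mod (Nat.card _ / 2) (neg_one_sq (R := ℤˣ))]
  congr 1
  unfold Nat.ModEq at h2
  omega

end

theorem gdet (G : Type*) [Group G] [Finite G] : ∃ d : ℂ,
    (∃ ε : ℤ, (ε = 1 ∨ ε = -1) ∧
      d ^ 2 * ∏ χ : IrrCharacter G, (charDegree χ.1 : ℂ) ^ (charDegree χ.1 ^ 2) =
        ε * (Nat.card G : ℂ) ^ (Nat.card G)) ∧
    ∀ (σ : ℂ →+* ℂ) (π : Equiv.Perm (IrrCharacter G)), (∀ χ g, (π χ).1 g = σ (χ.1 g)) → π * π = 1 →
      σ d = (-1) ^ (Nat.card {χ : IrrCharacter G // ¬ 2 ∣ charDegree χ.1 ∧ π χ ≠ χ} / 2) * d := by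
  classical
  have := Fintype.ofFinite G
  choose R hR using exR (G := G)
  let n : IrrCharacter G → ℕ := fun χ => charDegree χ.1
  have hc : Fintype.card (Σ a, Fin (n a) × Fin (n a)) = Fintype.card G := by
    have := sum_degree_sq (G := G)
    simp only [fun χ : IrrCharacter G => χ.2.apply_one_eq_charDegree] at this
    rw [← Nat.card_eq_fintype_card (α := G)]
    simp only [Fintype.card_sigma, Fintype.card_prod, Fintype.card_fin, ← sq]
    exact_mod_cast this
  let e := Fintype.equivOfCardEq hc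
  let A : Matrix (Σ a, Fin (n a) × Fin (n a)) (Σ a, Fin (n a) × Fin (n a)) ℂ :=
    Matrix.of fun i j => R i.1 (e j) i.2.1 i.2.2
  refine ⟨A.det, ?_, fun σ π hπ hππ => ?_⟩
  · let ι : Equiv.Perm (Σ a, Fin (n a) × Fin (n a)) := (e.trans (Equiv.inv G)).trans e.symm
    have key : (A.submatrix (sw n) ι)ᵀ * diagonal (fun i => (n i.1 : ℂ)) * A =
        (Nat.card G : ℂ) • 1 := by
      ext j k
      have h := sum_degree_mul ((e j)⁻¹ * e k)
      simp only [fun χ : IrrCharacter G => χ.2.apply_one_eq_charDegree] at h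
      rw [Matrix.mul_apply, Fintype.sum_sigma, Matrix.smul_apply, Matrix.one_apply, smul_eq_mul,
        mul_ite, mul_one, mul_zero]
      refine Eq.trans (Finset.sum_congr rfl fun χ _ => ?_) (h.trans ?_)
      · rw [← hR, map_mul, Matrix.trace, Finset.mul_sum, Fintype.sum_prod_type_right]
        refine Finset.sum_congr rfl fun b _ => ?_
        rw [Matrix.diag_apply, Matrix.mul_apply, Finset.mul_sum]
        refine Finset.sum_congr rfl fun a _ => ?_
        simp [A, ι, sw, n]
        ring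
      · simp only [inv_mul_eq_one, e.apply_eq_iff_eq]
    have h := congrArg det key
    rw [det_mul, det_mul, det_transpose, det_diagonal, det_smul, det_one, mul_one, hc,
      ← Nat.card_eq_fintype_card, show A.submatrix (sw n) ι =
        (A.submatrix (sw n) id).submatrix id ι from rfl, det_permute', det_permute,
      Fintype.prod_sigma] at h
    simp only [Finset.prod_const, Finset.card_univ, Fintype.card_prod, Fintype.card_fin, ← sq] at h
    refine ⟨(Equiv.Perm.sign ι * Equiv.Perm.sign (sw n) : ℤˣ), ?_, ?_⟩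
    · rcases Int.units_eq_one_or (Equiv.Perm.sign ι * Equiv.Perm.sign (sw n)) with h | h <;> simp [h]
    · rw [← h]
      rcases Int.units_eq_one_or (Equiv.Perm.sign ι) with h1 | h1 <;>
        rcases Int.units_eq_one_or (Equiv.Perm.sign (sw n)) with h2 | h2 <;>
        simp only [h1, h2, n] <;> push_cast <;> ring
  · have hn : ∀ χ, n (π χ) = n χ := fun χ => by
      have : (π χ).1 = fun g => σ (χ.1 g) := funext (hπ χ)
      simp only [n, this]
      exact χ.2.isCharacter.charDegree_gal σ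
    obtain ⟨P, hP, hs⟩ := sign_lift π hn hππ
    have hT : ∀ χ, ∃ T S : Matrix (Fin (n χ)) (Fin (n χ)) ℂ, T * S = 1 ∧ ∀ g, (R χ g).map σ =
        T * (R (π χ) g).submatrix (Fin.cast (hn χ).symm) (Fin.cast (hn χ).symm) * S := fun χ =>
      conj (σ.mapMatrix.toMonoidHom.comp (R χ))
        ((reindexAlgEquiv ℂ ℂ (finCongr (hn χ))).toRingEquiv.toMonoidHom.comp (R (π χ))) fun g => by
          have h1 : ((R χ g).map σ).trace = σ (R χ g).trace := (AddMonoidHom.map_trace σ _).symm
          refine h1.trans ?_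
          rw [hR, ← hπ, ← hR]
          exact (Equiv.sum_comp (finCongr (hn χ)).symm fun i => R (π χ) g i i).symm
    choose T S hTS hT using hT
    have key : A.map σ = (blockDiagonal' fun a => T a ⊗ₖ (S a)ᵀ) * A.submatrix P id := by
      ext ⟨χ, a, b⟩ j
      have h := congrFun (congrFun (hT χ (e j)) a) b
      rw [Matrix.mul_apply, Fintype.sum_sigma, Finset.sum_eq_single χ]
      · refine h.trans ?_
        simp only [Matrix.mul_apply, Finset.sum_mul, Fintype.sum_prod_type_right,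
          blockDiagonal'_apply_eq, hP, A, submatrix_apply, of_apply, id, kroneckerMap_apply,
          transpose_apply]
        exact Finset.sum_congr rfl fun _ _ => Finset.sum_congr rfl fun _ _ => by ring
      · intro ψ _ hψ
        simp [blockDiagonal'_apply_ne _ _ _ hψ.symm]
      · simp
    rw [RingHom.map_det, RingHom.mapMatrix_apply, key, det_mul, det_bd T S hTS, one_mul,
      det_permute, hs]
    simp [n]

end CL.OD.GD49
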