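import Cfsg.Agent.BLK.OD.GD49

/-! The group determinant, second form. -/

set_option autoImplicit false

namespace CL.OD.GD49b

open Cfsg CL.Char

theorem ex (G : Type*) [Group G] [Finite G] : ∃ d : ℂ,
    (d ^ 2 * ∏ χ : IrrCharacter G, (charDegree χ.1 : ℂ) ^ (charDegree χ.1 ^ 2) =
        (Nat.card G : ℂ) ^ Nat.card G ∨
      d ^ 2 * ∏ χ : IrrCharacter G, (charDegree χ.1 : ℂ) ^ (charDegree χ.1 ^ 2) =
        -(Nat.card G : ℂ) ^ Nat.card G) ∧
    ∀ σ : ℂ →+* ℂ, (∀ (χ : IrrCharacter G) g, σ (σ (χ.1 g)) = χ.1 g) →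
      σ d = (-1) ^ (Nat.card {χ : IrrCharacter G //
        ¬ 2 ∣ charDegree χ.1 ∧ ¬ ∀ g, σ (χ.1 g) = χ.1 g} / 2) * d := by
  obtain ⟨d, ⟨ε, hε, hd⟩, h⟩ := GD49.gdet G
  refine ⟨d, ?_, fun σ hσ => ?_⟩
  · rcases hε with rfl | rfl
    · left; simpa using hd
    · right; simpa using hd
  let f : IrrCharacter G → IrrCharacter G := fun χ => ⟨fun g => σ (χ.1 g), χ.2.gal σ⟩
  have hf : Function.Involutive f := fun χ => Subtype.ext (funext (hσ χ))
  rw [h σ (hf.toPerm f) (fun _ _ => rfl) (Equiv.ext fun χ => hf χ)]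
  congr 3
  refine Nat.card_congr (Equiv.subtypeEquivRight fun χ => and_congr_right fun _ => not_congr ?_)
  exact ⟨fun e g => congrFun (congrArg Subtype.val e) g, fun e => Subtype.ext (funext e)⟩

end CL.OD.GD49b
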