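import Cfsg.Agent.CHAR.Values
import Cfsg.Agent.CHAR.RepEquiv
import Cfsg.Agent.CHAR.Orth

/-! The group determinant: its square, and how field automorphisms act on it. -/

set_option autoImplicit false

namespace CL.OD.GD52

open Cfsg CL.Char Matrix
open scoped Kronecker

theorem det_bd {R : Type*} [CommRing R] {ι : Type*} [Fintype ι] [DecidableEq ι] {m : ι → Type*}
    [∀ i, Fintype (m i)] [∀ i, DecidableEq (m i)] (M : ∀ i, Matrix (m i) (m i) R) :
    (blockDiagonal' M).det = ∏ i, (M i).det := by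
  let _ : LinearOrder ι := LinearOrder.lift' (Fintype.equivFin ι) (Equiv.injective _)
  have h := Matrix.BlockTriangular.det_fintype (Matrix.blockTriangular_blockDiagonal' M)
  refine (by convert h : _ = ∏ k, ((blockDiagonal' M).toSquareBlock Sigma.fst k).det).trans
    (Finset.prod_congr rfl fun k _ => ?_)
  let e : m k ≃ {a : Σ i, m i // a.1 = k} :=
    ⟨fun x => ⟨⟨k, x⟩, rfl⟩, fun a => a.2 ▸ a.1.2, fun _ => rfl, by rintro ⟨⟨_, _⟩, rfl⟩; rfl⟩
  rw [← det_submatrix_equiv_self e]
  congr 1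
  ext i j
  exact blockDiagonal'_apply_eq M k i j

variable {G : Type*} [Group G] [Finite G]

theorem cj {m : Type} [Fintype m] [DecidableEq m] (R S : G →* Matrix m m ℂ)
    (h : ∀ g, (R g).trace = (S g).trace) :
    ∃ A B : Matrix m m ℂ, A * B = 1 ∧ ∀ g, R g = A * S g * B := by
  let ρ : Representation ℂ G (m → ℂ) := (Matrix.toLinAlgEquiv' : Matrix m m ℂ ≃ₐ[ℂ] _).toMonoidHom.comp R
  let τ : Representation ℂ G (m → ℂ) := (Matrix.toLinAlgEquiv' : Matrix m m ℂ ≃ₐ[ℂ] _).toMonoidHom.comp S
  have e1 : ∀ g, ρ g = Matrix.toLin' (R g) := fun g => rfl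
  have e2 : ∀ g, τ g = Matrix.toLin' (S g) := fun g => rfl
  obtain ⟨e⟩ := nonempty_equiv_of_character_eq τ ρ (funext fun g => by
    simp only [Representation.character, e1, e2, Matrix.trace_toLin'_eq, h])
  have hAB : LinearMap.toMatrix' e.toLinearEquiv.toLinearMap *
      LinearMap.toMatrix' e.toLinearEquiv.symm.toLinearMap = 1 := by
    rw [← LinearMap.toMatrix'_comp, LinearEquiv.comp_symm, LinearMap.toMatrix'_id]
  refine ⟨_, _, hAB, fun g => ?_⟩
  have h1 := congrArg LinearMap.toMatrix' (e.isIntertwining' g)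
  rw [LinearMap.toMatrix'_comp, LinearMap.toMatrix'_comp, e1, e2, LinearMap.toMatrix'_toLin',
    LinearMap.toMatrix'_toLin'] at h1
  rw [show LinearMap.toMatrix' e.toLinearEquiv.toLinearMap * S g =
    R g * LinearMap.toMatrix' e.toLinearEquiv.toLinearMap from h1, Matrix.mul_assoc, hAB, Matrix.mul_one]

omit [Finite G] in
theorem exR (χ : IrrCharacter G) :
    ∃ R : G →* Matrix (Fin (charDegree χ.1)) (Fin (charDegree χ.1)) ℂ, ∀ g, (R g).trace = χ.1 g := by
  obtain ⟨n, ρ, -, h⟩ := χ.2
  have hn : charDegree χ.1 = n := charDegree_eq_of_apply_one (by rw [← h, Representation.char_one]; simp)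
  rw [hn]
  refine ⟨(LinearMap.toMatrixAlgEquiv' : _ ≃ₐ[ℂ] _).toMonoidHom.comp ρ, fun g => ?_⟩
  rw [← h, Representation.character, LinearMap.trace_eq_matrix_trace ℂ (Pi.basisFun ℂ (Fin n))]
  rfl

theorem sg {α : Type*} [Fintype α] [DecidableEq α] (s : Equiv.Perm α) :
    ((Equiv.Perm.sign s : ℤ) : ℂ) * (Equiv.Perm.sign s : ℤ) = 1 := by
  rw [← Int.cast_mul, ← Units.val_mul, Int.units_mul_self]; simp

theorem gdet (G : Type*) [Group G] [Finite G] : ∃ d : ℂ,
    (∃ ε : ℤ, (ε = 1 ∨ ε = -1) ∧ d ^ 2 * ∏ χ : IrrCharacter G, (charDegree χ.1 : ℂ) ^ (charDegree χ.1 ^ 2) =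
      ε * (Nat.card G : ℂ) ^ (Nat.card G)) ∧
    ∀ (σ : ℂ →+* ℂ) (π : Equiv.Perm (IrrCharacter G)), (∀ χ g, (π χ).1 g = σ (χ.1 g)) → π * π = 1 →
      σ d = (-1) ^ (Nat.card {χ : IrrCharacter G // ¬ 2 ∣ charDegree χ.1 ∧ π χ ≠ χ} / 2) * d := by
  classical
  have := Fintype.ofFinite G
  choose R hR using fun χ : IrrCharacter G => exR χ
  let ι := Σ χ : IrrCharacter G, Fin (charDegree χ.1) × Fin (charDegree χ.1)
  have hc : Fintype.card ι = Fintype.card G := by
    have := sum_degree_sq (G := G)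
    simp only [fun χ : IrrCharacter G => χ.2.apply_one_eq_charDegree, Nat.card_eq_fintype_card] at this
    simp only [ι, Fintype.card_sigma, Fintype.card_prod, Fintype.card_fin, ← sq]
    exact_mod_cast this
  let e : ι ≃ G := Fintype.equivOfCardEq hc
  let D : Matrix ι ι ℂ := Matrix.of fun a x => R x.1 (e a) x.2.1 x.2.2
  refine ⟨D.det, ?_, fun σ π hπ hππ => ?_⟩
  · let t : Equiv.Perm ι := Equiv.sigmaCongrRight fun χ => Equiv.prodComm _ _
    let v : Equiv.Perm ι := e.trans ((Equiv.inv G).trans e.symm)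
    have h1 : D * (diagonal (fun x : ι => (charDegree x.1.1 : ℂ)) * ((D.submatrix v id).submatrix id t)ᵀ) =
        diagonal fun _ => (Nat.card G : ℂ) := by
      ext a b
      have h2 := sum_degree_mul (e a * (e b)⁻¹)
      simp only [mul_inv_eq_one, EmbeddingLike.apply_eq_iff_eq] at h2
      rw [diagonal_apply, ← h2, Matrix.mul_apply, Fintype.sum_sigma]
      refine Finset.sum_congr rfl fun χ _ => ?_
      rw [χ.2.apply_one_eq_charDegree, ← hR, map_mul, Matrix.trace, Finset.mul_sum, Fintype.sum_prod_type]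
      refine Finset.sum_congr rfl fun i _ => ?_
      rw [Matrix.diag_apply, Matrix.mul_apply, Finset.mul_sum]
      refine Finset.sum_congr rfl fun j _ => ?_
      rw [diagonal_mul]
      simp only [D, t, v, transpose_apply, submatrix_apply, id, of_apply, Equiv.trans_apply,
        Equiv.apply_symm_apply, Equiv.inv_apply]
      exact mul_left_comm _ _ _
    have h3 := congrArg det h1
    rw [det_mul, det_mul, det_transpose, det_permute', det_permute, det_diagonal, det_diagonal,
      Finset.prod_const, Finset.card_univ, hc, ← Nat.card_eq_fintype_card, Fintype.prod_sigma] at h3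
    simp only [Finset.prod_const, Finset.card_univ, Fintype.card_prod, Fintype.card_fin, ← sq] at h3
    refine ⟨(Equiv.Perm.sign t * Equiv.Perm.sign v : ℤˣ), ?_, ?_⟩
    · rcases Int.units_eq_one_or (Equiv.Perm.sign t * Equiv.Perm.sign v) with h | h <;> simp [h]
    · rw [← h3, Units.val_mul, Int.cast_mul]
      have a1 := sg t
      have a2 := sg v
      linear_combination (-(D.det ^ 2 * ∏ χ : IrrCharacter G, (charDegree χ.1 : ℂ) ^ (charDegree χ.1 ^ 2)) *
        (((Equiv.Perm.sign v : ℤ) : ℂ) * (Equiv.Perm.sign v : ℤ))) * a1 -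
        (D.det ^ 2 * ∏ χ : IrrCharacter G, (charDegree χ.1 : ℂ) ^ (charDegree χ.1 ^ 2)) * a2
  · have hn : ∀ χ, charDegree χ.1 = charDegree (π χ).1 := fun χ =>
      (charDegree_eq_of_apply_one (by rw [hπ, χ.2.apply_one_eq_charDegree, map_natCast])).symm
    have hp : ∀ χ, π (π χ) = χ := fun χ => by rw [← Equiv.Perm.mul_apply, hππ, Equiv.Perm.one_apply]
    have hext : ∀ x y : ι, x.1 = y.1 → (x.2.1 : ℕ) = y.2.1 → (x.2.2 : ℕ) = y.2.2 → x = y := by
      rintro ⟨a, i, j⟩ ⟨b, k, l⟩ h h1 h2
      obtain rfl : a = b := h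
      obtain rfl : i = k := Fin.ext h1
      obtain rfl : j = l := Fin.ext h2
      rfl
    let f : ι → ι := fun x => ⟨π x.1, Fin.cast (hn _) x.2.1, Fin.cast (hn _) x.2.2⟩
    have hf : Function.Involutive f := fun x => hext _ _ (hp _) rfl rfl
    let s : Equiv.Perm ι := hf.toPerm
    have hS : ∀ χ : IrrCharacter G, ∃ A B : Matrix (Fin (charDegree χ.1)) (Fin (charDegree χ.1)) ℂ,
        A * B = 1 ∧ ∀ g, (R χ g).map σ =
          A * (R (π χ) g).submatrix (Fin.cast (hn χ)) (Fin.cast (hn χ)) * B := fun χ => by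
      refine cj (σ.mapMatrix.toMonoidHom.comp (R χ))
        ((Matrix.reindexAlgEquiv ℂ ℂ (finCongr (hn χ)).symm).toMonoidHom.comp (R (π χ))) fun g => ?_
      change ((R χ g).map σ).trace = ((R (π χ) g).submatrix (finCongr (hn χ)) (finCongr (hn χ))).trace
      rw [← AddMonoidHom.map_trace, hR, ← hπ, ← hR]
      exact (Equiv.sum_comp (finCongr (hn χ)) fun i => R (π χ) g i i).symm
    choose A B hAB hA using hS
    have h1 : σ.mapMatrix D = D.submatrix id s * blockDiagonal' fun χ => (A χ)ᵀ ⊗ₖ B χ := by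
      ext a ⟨χ, i, j⟩
      rw [Matrix.mul_apply, Fintype.sum_sigma, Finset.sum_eq_single χ, Fintype.sum_prod_type]
      · have := congrFun (congrFun (hA χ (e a)) i) j
        rw [Matrix.mul_apply] at this
        simp only [Matrix.mul_apply, Finset.sum_mul] at this
        rw [Finset.sum_comm] at this
        refine this.trans (Finset.sum_congr rfl fun k _ => Finset.sum_congr rfl fun l _ => ?_)
        rw [blockDiagonal'_apply_eq, kroneckerMap_apply, transpose_apply]
        change _ = R (π χ) (e a) (Fin.cast (hn χ) k) (Fin.cast (hn χ) l) * _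
        rw [submatrix_apply]
        ring
      · intro ψ _ hψ
        refine Finset.sum_eq_zero fun y _ => ?_
        rw [blockDiagonal'_apply_ne _ _ _ hψ, mul_zero]
      · simp
    rw [RingHom.map_det, h1, det_mul, det_permute', det_bd]
    have h2 : ∀ χ, ((A χ)ᵀ ⊗ₖ B χ).det = 1 := fun χ => by
      rw [det_kronecker, det_transpose, ← mul_pow, ← det_mul, hAB, det_one, one_pow]
    simp only [h2, Finset.prod_const_one, mul_one]
    congr 1
    have hs : s ^ 2 = 1 := Equiv.ext fun x => hf x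
    rw [Equiv.Perm.sign_of_pow_two_eq_one hs]
    have h3 : Fintype.card ι - Fintype.card (Function.fixedPoints s) =
        ∑ χ : IrrCharacter G, if π χ ≠ χ then charDegree χ.1 ^ 2 else 0 := by
      have : Fintype.card (Function.fixedPoints s) = Fintype.card {x : ι // π x.1 = x.1} :=
        Fintype.card_congr (Equiv.subtypeEquivRight fun x =>
          ⟨fun h => congrArg Sigma.fst (h : f x = x), fun h => hext (f x) x h rfl rfl⟩)
      rw [this, ← Fintype.card_subtype_compl, Fintype.card_subtype, Finset.card_filter, Fintype.sum_sigma]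
      refine Finset.sum_congr rfl fun χ _ => ?_
      by_cases h : π χ = χ <;> simp [h, sq]
    have h4 : (∑ χ : IrrCharacter G, if π χ ≠ χ then charDegree χ.1 ^ 2 else 0) ≡
        Nat.card {χ : IrrCharacter G // ¬ 2 ∣ charDegree χ.1 ∧ π χ ≠ χ} [MOD 4] := by
      rw [Nat.card_eq_fintype_card, Fintype.card_subtype, Finset.card_filter]
      refine Nat.ModEq.sum fun χ _ => ?_
      by_cases h : π χ = χ
      · simp [h, Nat.ModEq]
      · rcases Nat.even_or_odd' (charDegree χ.1) with ⟨k, hk | hk⟩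
        · simp only [ne_eq, h, not_false_eq_true, if_true, hk, dvd_mul_right, not_true, false_and, if_false]
          exact (Nat.modEq_zero_iff_dvd).2 ⟨k ^ 2, by ring⟩
        · have : ¬ 2 ∣ 2 * k + 1 := by omega
          simp only [ne_eq, h, not_false_eq_true, if_true, hk, this, and_self]
          exact ((Nat.modEq_iff_dvd' (by nlinarith)).2 ⟨k ^ 2 + k, by
            rw [show (2 * k + 1) ^ 2 = 4 * (k ^ 2 + k) + 1 by ring, Nat.add_sub_cancel]⟩).symm
    rw [h3]
    push_cast
    rw [neg_one_pow_eq_pow_mod_two, neg_one_pow_eq_pow_mod_two (n := Nat.card _ / 2)]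
    congr 1
    unfold Nat.ModEq at h4
    omega

end CL.OD.GD52
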