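import Cfsg.Agent.BLK.Deg
import Cfsg.Agent.CHAR.RepEquiv
import Cfsg.Agent.CHAR.Orth

/-! The group determinant. -/

set_option autoImplicit false

namespace CL.OD.GD65

open Cfsg Matrix CL.Char CL.Blk
open scoped Kronecker

theorem det_bd {ι : Type*} [Fintype ι] [DecidableEq ι] {m : ι → Type*} [∀ i, Fintype (m i)]
    [∀ i, DecidableEq (m i)] (M : ∀ i, Matrix (m i) (m i) ℂ) (h : ∀ i, (M i).det = 1) :
    (blockDiagonal' M).det = 1 := by
  let _ : LinearOrder ι := LinearOrder.lift' (Fintype.equivFin ι) (Fintype.equivFin ι).injective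
  have h1 := (blockTriangular_blockDiagonal' M).det_fintype
  rw [h1]
  refine Finset.prod_eq_one fun k _ => ?_
  rw [← h k, ← det_submatrix_equiv_self (Equiv.sigmaSubtype (β := m) k) (M k)]
  congr 1
  ext ⟨⟨a, x⟩, rfl⟩ ⟨⟨b, y⟩, hb⟩
  dsimp only at hb
  subst hb
  simp [toSquareBlock_def, Equiv.sigmaSubtype]

variable {G : Type*} [Group G]

theorem sim [Finite G] {n m : ℕ} (hnm : n = m) (R : G →* Matrix (Fin n) (Fin n) ℂ)
    (S : G →* Matrix (Fin m) (Fin m) ℂ) (h : ∀ g, (R g).trace = (S g).trace) :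
    ∃ A B : Matrix (Fin n) (Fin n) ℂ, A * B = 1 ∧
      ∀ g, R g = A * (S g).submatrix (Fin.cast hnm) (Fin.cast hnm) * B := by
  subst hnm
  let ρ : Representation ℂ G (Fin n → ℂ) :=
    (Matrix.toLinAlgEquiv' (R := ℂ) (n := Fin n)).toAlgHom.toRingHom.toMonoidHom.comp R
  let ρ' : Representation ℂ G (Fin n → ℂ) :=
    (Matrix.toLinAlgEquiv' (R := ℂ) (n := Fin n)).toAlgHom.toRingHom.toMonoidHom.comp S
  have e1 : ∀ g, ρ g = Matrix.toLin' (R g) := fun g => rfl
  have e2 : ∀ g, ρ' g = Matrix.toLin' (S g) := fun g => rfl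
  obtain ⟨φ⟩ := nonempty_equiv_of_character_eq ρ ρ' (funext fun g => by
    rw [Representation.character, Representation.character, e1, e2, Matrix.trace_toLin'_eq,
      Matrix.trace_toLin'_eq, h])
  let f : (Fin n → ℂ) ≃ₗ[ℂ] (Fin n → ℂ) := φ.toLinearEquiv
  have hf : ∀ g v, f (ρ g v) = ρ' g (f v) := fun g v => φ.toIntertwiningMap.isIntertwining _ _ g v
  refine ⟨LinearMap.toMatrix' f.symm.toLinearMap, LinearMap.toMatrix' f.toLinearMap, ?_, fun g => ?_⟩
  · rw [← LinearMap.toMatrix'_comp, LinearEquiv.symm_comp, LinearMap.toMatrix'_id]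
  · have h3 : Matrix.toLin' (R g) =
        f.symm.toLinearMap ∘ₗ (Matrix.toLin' (S g) ∘ₗ f.toLinearMap) := by
      refine LinearMap.ext fun v => ?_
      rw [← e1, ← e2]
      simp only [LinearMap.comp_apply, LinearEquiv.coe_coe]
      rw [← hf, LinearEquiv.symm_apply_apply]
    have h4 := congrArg LinearMap.toMatrix' h3
    rw [LinearMap.toMatrix'_toLin', LinearMap.toMatrix'_comp, LinearMap.toMatrix'_comp,
      LinearMap.toMatrix'_toLin'] at h4
    rw [h4, Matrix.mul_assoc]
    rfl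

theorem exists_rep (χ : IrrCharacter G) :
    ∃ R : G →* Matrix (Fin (charDegree χ.1)) (Fin (charDegree χ.1)) ℂ,
      ∀ g, (R g).trace = χ.1 g := by
  obtain ⟨χ, n, ρ, hρ, rfl⟩ := χ
  have hn : charDegree ρ.character = n :=
    charDegree_of_eq (by rw [Representation.char_one]; simp)
  dsimp only
  rw [hn]
  refine ⟨(LinearMap.toMatrixAlgEquiv' (R := ℂ) (n := Fin n)).toAlgHom.toRingHom.toMonoidHom.comp ρ,
    fun g => ?_⟩
  rw [Representation.character, ← Matrix.trace_toLin'_eq]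
  congr 1
  exact Matrix.toLin'_toMatrix' (ρ g)

section abs

variable {ι : Type*} (n : ι → ℕ)

theorem sext {x y : Σ i, Fin (n i) × Fin (n i)} (h1 : x.1 = y.1) (h2 : x.2.1.val = y.2.1.val)
    (h3 : x.2.2.val = y.2.2.val) : x = y := by
  obtain ⟨i, a, b⟩ := x
  obtain ⟨j, c, d⟩ := y
  dsimp only at h1 h2 h3
  subst h1
  rw [Fin.ext h2, Fin.ext h3]

theorem sign_eq [Fintype ι] [DecidableEq ι] (π : ι → ι)
    (P : Equiv.Perm (Σ i, Fin (n i) × Fin (n i))) (hP : P ^ 2 = 1)
    (hf : ∀ x, P x = x ↔ π x.1 = x.1) :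
    ((Equiv.Perm.sign P : ℤˣ) : ℂ) = (-1) ^ (Nat.card {i // ¬ 2 ∣ n i ∧ π i ≠ i} / 2) := by
  classical
  rw [Equiv.Perm.sign_of_pow_two_eq_one hP]
  have h1 : Fintype.card (Σ i, Fin (n i) × Fin (n i)) - Fintype.card (Function.fixedPoints P) =
      ∑ i, if π i ≠ i then n i * n i else 0 := by
    have e : Fintype.card (Function.fixedPoints P) = Fintype.card {x // P x = x} :=
      Fintype.card_congr (Equiv.refl _)
    rw [e, ← Fintype.card_subtype_compl, Fintype.card_subtype, Finset.card_filter,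
      Fintype.sum_sigma]
    refine Finset.sum_congr rfl fun i _ => ?_
    simp only [hf]
    split_ifs <;> simp_all
  have h2 : Nat.card {i // ¬ 2 ∣ n i ∧ π i ≠ i} = ∑ i, if ¬ 2 ∣ n i ∧ π i ≠ i then 1 else 0 := by
    rw [Nat.card_eq_fintype_card, Fintype.card_subtype, Finset.card_filter]
  have h3 : (∑ i, if π i ≠ i then n i * n i else 0) % 4 =
      (∑ i, if ¬ 2 ∣ n i ∧ π i ≠ i then 1 else 0) % 4 := by
    rw [Finset.sum_nat_mod, Finset.sum_nat_mod _ 4 (fun i => if ¬ 2 ∣ n i ∧ π i ≠ i then 1 else 0)]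
    congr 1
    refine Finset.sum_congr rfl fun i _ => ?_
    by_cases hi : π i = i
    · simp [hi]
    · rcases Nat.even_or_odd' (n i) with ⟨k, hk | hk⟩
      · have : 2 * k * (2 * k) = 4 * (k * k) := by ring
        simp [hi, hk, this]
      · have : (2 * k + 1) * (2 * k + 1) = 4 * (k * k + k) + 1 := by ring
        have h5 : ¬ 2 ∣ 2 * k + 1 := by omega
        rw [if_pos hi, if_pos ⟨by rw [hk]; exact h5, hi⟩, hk, this]
        omega
  rw [h1, h2]
  generalize (∑ i, if π i ≠ i then n i * n i else 0) = a at h3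
  generalize (∑ i, if ¬ 2 ∣ n i ∧ π i ≠ i then 1 else 0) = b at h3
  have h4 : a / 2 % 2 = b / 2 % 2 := by omega
  push_cast
  rw [neg_one_pow_eq_pow_mod_two, h4, ← neg_one_pow_eq_pow_mod_two]

end abs

theorem gdet (G : Type*) [Group G] [Finite G] :
    ∃ d : ℂ, (∃ ε : ℤ, (ε = 1 ∨ ε = -1) ∧
      d ^ 2 * ∏ χ : IrrCharacter G, (charDegree χ.1 : ℂ) ^ (charDegree χ.1 ^ 2) =
        ε * (Nat.card G : ℂ) ^ (Nat.card G)) ∧
      ∀ (σ : ℂ →+* ℂ) (π : Equiv.Perm (IrrCharacter G)), (∀ χ g, (π χ).1 g = σ (χ.1 g)) →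
        π * π = 1 →
        σ d = (-1) ^ (Nat.card {χ : IrrCharacter G // ¬ 2 ∣ charDegree χ.1 ∧ π χ ≠ χ} / 2) * d := by
  classical
  have := Fintype.ofFinite G
  set n : IrrCharacter G → ℕ := fun χ => charDegree χ.1 with hn
  choose R hR using fun χ : IrrCharacter G => exists_rep χ
  have hc : Fintype.card (Σ i, Fin (n i) × Fin (n i)) = Fintype.card G := by
    have h1 := sum_degree_sq (G := G)
    simp only [irr_one_eq] at h1
    rw [Fintype.card_sigma, ← Nat.card_eq_fintype_card (α := G)]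
    simp only [Fintype.card_prod, Fintype.card_fin, ← sq]
    exact_mod_cast h1
  let e := Fintype.equivOfCardEq hc
  let D : Matrix (Σ i, Fin (n i) × Fin (n i)) (Σ i, Fin (n i) × Fin (n i)) ℂ :=
    fun x y => R x.1 (e y) x.2.1 x.2.2
  refine ⟨D.det, ?_, fun σ π hπ hππ => ?_⟩
  · let τ : Equiv.Perm (Σ i, Fin (n i) × Fin (n i)) :=
      Equiv.sigmaCongrRight fun i => Equiv.prodComm _ _
    let κ : Equiv.Perm (Σ i, Fin (n i) × Fin (n i)) := (e.trans (Equiv.inv G)).trans e.symm
    have h1 : ((D.submatrix τ id).submatrix id κ)ᵀ * (diagonal (fun x => (n x.1 : ℂ)) * D) =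
        (Nat.card G : ℂ) • (1 : Matrix _ _ ℂ) := by
      ext y z
      have h2 := sum_degree_mul ((e y)⁻¹ * e z)
      have h3 : ((e y)⁻¹ * e z = 1) ↔ y = z := by rw [inv_mul_eq_one, e.injective.eq_iff]
      simp only [h3] at h2
      rw [Matrix.mul_apply, Fintype.sum_sigma, Matrix.smul_apply, Matrix.one_apply, smul_eq_mul, mul_ite, mul_one,
        mul_zero]
      refine Eq.trans (Finset.sum_congr rfl fun χ _ => ?_) (h2.trans (by congr))
      rw [← hR χ ((e y)⁻¹ * e z), map_mul, irr_one_eq, Matrix.trace, Fintype.sum_prod_type,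
        Finset.sum_comm, Finset.mul_sum]
      refine Finset.sum_congr rfl fun b _ => ?_
      rw [diag_apply, Matrix.mul_apply, Finset.mul_sum]
      refine Finset.sum_congr rfl fun a _ => ?_
      rw [diagonal_mul]
      change R χ (e (e.symm (e y)⁻¹)) b a * ((n χ : ℂ) * R χ (e z) a b) = _
      rw [e.apply_symm_apply]
      exact mul_left_comm _ _ _
    have h2 := congrArg det h1
    rw [det_mul, det_mul, det_transpose, det_permute', det_permute, det_diagonal, det_smul, det_one,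
      mul_one, hc, ← Nat.card_eq_fintype_card, Fintype.prod_sigma] at h2
    simp only [Finset.prod_const, Finset.card_univ, Fintype.card_prod, Fintype.card_fin, ← sq] at h2
    refine ⟨((Equiv.Perm.sign κ * Equiv.Perm.sign τ : ℤˣ) : ℤ), ?_, ?_⟩
    · rcases Int.units_eq_one_or (Equiv.Perm.sign κ * Equiv.Perm.sign τ) with h | h <;> simp [h]
    · rw [← h2]
      rcases Int.units_eq_one_or (Equiv.Perm.sign κ) with h | h <;>
        rcases Int.units_eq_one_or (Equiv.Perm.sign τ) with h' | h' <;>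
        simp only [h, h', hn] <;> push_cast <;> ring
  · have hd : ∀ χ, n χ = n (π χ) := fun χ =>
      (charDegree_of_eq (by rw [hπ, irr_one_eq, map_natCast])).symm
    have hpp : ∀ χ, π (π χ) = χ := fun χ => by rw [← Equiv.Perm.mul_apply, hππ]; rfl
    choose A B hAB hS using fun χ : IrrCharacter G =>
      sim (hd χ) (σ.mapMatrix.toMonoidHom.comp (R χ)) (R (π χ)) fun g => by
        rw [hR, hπ, ← hR, Matrix.trace, Matrix.trace, map_sum]
        rfl
    let p0 : (Σ i, Fin (n i) × Fin (n i)) → Σ i, Fin (n i) × Fin (n i) :=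
      fun x => ⟨π x.1, Fin.cast (hd x.1) x.2.1, Fin.cast (hd x.1) x.2.2⟩
    have hp0 : Function.Involutive p0 := fun x => sext n (hpp _) rfl rfl
    have h1 : σ.mapMatrix D =
        blockDiagonal' (fun i => A i ⊗ₖ (B i)ᵀ) * D.submatrix hp0.toPerm id := by
      ext ⟨χ, a, b⟩ y
      rw [Matrix.mul_apply, Fintype.sum_sigma, Finset.sum_eq_single χ]
      · have h2 := congrFun (congrFun (hS χ (e y)) a) b
        refine h2.trans ?_
        rw [Matrix.mul_apply, Fintype.sum_prod_type, Finset.sum_comm]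
        refine Finset.sum_congr rfl fun l _ => ?_
        rw [Matrix.mul_apply, Finset.sum_mul]
        refine Finset.sum_congr rfl fun k _ => ?_
        rw [blockDiagonal'_apply_eq]
        exact mul_right_comm _ _ _
      · intro ψ _ hne
        refine Finset.sum_eq_zero fun x _ => ?_
        rw [blockDiagonal'_apply_ne _ _ _ (Ne.symm hne), zero_mul]
      · simp
    rw [RingHom.map_det, h1, det_mul, det_permute, det_bd, one_mul]
    · congr 1
      refine sign_eq n π hp0.toPerm (by ext1 x; exact hp0 x) fun x => ⟨fun h => ?_, fun h => ?_⟩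
      · exact congrArg Sigma.fst h
      · exact sext n h rfl rfl
    · intro χ
      rw [det_kronecker, det_transpose, ← mul_pow, ← det_mul, hAB, det_one, one_pow]

end CL.OD.GD65
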