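import Cfsg.Agent.CHAR.Values
import Cfsg.Agent.CHAR.Orth
import Cfsg.Agent.CHAR.RepEquiv

/-! The group determinant. -/

set_option autoImplicit false

namespace CL.OD.GD72

open Cfsg CL.Char Matrix
open scoped Classical Kronecker

theorem det_bd {ι : Type*} [Fintype ι] [DecidableEq ι] {m : ι → Type*} [∀ i, Fintype (m i)]
    [∀ i, DecidableEq (m i)] (M : ∀ i, Matrix (m i) (m i) ℂ) :
    (blockDiagonal' M).det = ∏ i, (M i).det := by
  let _ : LinearOrder ι := LinearOrder.lift' (Fintype.equivFin ι) (Equiv.injective _)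
  have h := Matrix.BlockTriangular.det_fintype (Matrix.blockTriangular_blockDiagonal' M)
  refine (by convert h : _ = ∏ k, ((blockDiagonal' M).toSquareBlock Sigma.fst k).det).trans
    (Finset.prod_congr rfl fun i _ => ?_)
  rw [← det_submatrix_equiv_self (Equiv.sigmaSubtype i).symm]
  congr 1
  ext a b
  simp [toSquareBlock_def, Equiv.sigmaSubtype]

theorem sim {G : Type*} [Group G] [Finite G] {n : ℕ} (R S : G →* Matrix (Fin n) (Fin n) ℂ)
    (h : ∀ g, (R g).trace = (S g).trace) :
    ∃ A B : Matrix (Fin n) (Fin n) ℂ, A * B = 1 ∧ ∀ g, R g = A * S g * B := by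
  let ρ : Representation ℂ G (Fin n → ℂ) := (Matrix.toLinAlgEquiv' (R := ℂ)).toMonoidHom.comp R
  let τ : Representation ℂ G (Fin n → ℂ) := (Matrix.toLinAlgEquiv' (R := ℂ)).toMonoidHom.comp S
  obtain ⟨φ⟩ := nonempty_equiv_of_character_eq ρ τ (funext fun g => by
    change LinearMap.trace ℂ _ (Matrix.toLin' (R g)) = LinearMap.trace ℂ _ (Matrix.toLin' (S g))
    rw [Matrix.trace_toLin'_eq, Matrix.trace_toLin'_eq, h])
  refine ⟨LinearMap.toMatrix' φ.toLinearEquiv.symm.toLinearMap,
    LinearMap.toMatrix' φ.toLinearEquiv.toLinearMap, ?_, fun g => ?_⟩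
  · rw [← LinearMap.toMatrix'_comp, LinearEquiv.symm_comp, LinearMap.toMatrix'_id]
  · apply Matrix.toLin'.injective
    rw [Matrix.toLin'_mul, Matrix.toLin'_mul, Matrix.toLin'_toMatrix', Matrix.toLin'_toMatrix']
    refine LinearMap.ext fun v => ?_
    apply φ.toLinearEquiv.injective
    simp only [LinearMap.comp_apply, LinearEquiv.coe_coe, LinearEquiv.apply_symm_apply]
    exact LinearMap.congr_fun (φ.isIntertwining' g) v

theorem sig_ext {ι : Type*} {n : ι → ℕ} {x y : Σ a, Fin (n a) × Fin (n a)} (h1 : x.1 = y.1)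
    (h2 : (x.2.1 : ℕ) = y.2.1) (h3 : (x.2.2 : ℕ) = y.2.2) : x = y := by
  obtain ⟨a, i, j⟩ := x
  obtain ⟨b, k, l⟩ := y
  dsimp only at h1 h2 h3
  subst h1
  rw [Fin.ext h2, Fin.ext h3]

theorem sign_eq {ι : Type*} [Fintype ι] (n : ι → ℕ) (π : Equiv.Perm ι) (hπ : π * π = 1)
    [DecidableEq (Σ a, Fin (n a) × Fin (n a))]
    (P : Equiv.Perm (Σ a, Fin (n a) × Fin (n a))) (h1 : ∀ x, (P x).1 = π x.1)
    (h2 : ∀ x, ((P x).2.1 : ℕ) = x.2.1) (h3 : ∀ x, ((P x).2.2 : ℕ) = x.2.2) :
    Equiv.Perm.sign P = (-1) ^ (Nat.card {a // ¬ 2 ∣ n a ∧ π a ≠ a} / 2) := by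
  have hP : P ^ 2 = 1 := Equiv.ext fun x => sig_ext
    (by rw [sq, Equiv.Perm.mul_apply, h1, h1, ← Equiv.Perm.mul_apply, hπ]; rfl)
    (by rw [sq, Equiv.Perm.mul_apply, h2, h2]; rfl) (by rw [sq, Equiv.Perm.mul_apply, h3, h3]; rfl)
  rw [Equiv.Perm.sign_of_pow_two_eq_one hP]
  have hc : Fintype.card (Σ a, Fin (n a) × Fin (n a)) - Fintype.card (Function.fixedPoints P) =
      ∑ a, if π a ≠ a then n a * n a else 0 := by
    rw [← Fintype.card_subtype_compl (fun x => x ∈ Function.fixedPoints P), Fintype.card_subtype,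
      Finset.card_filter, Fintype.sum_sigma]
    refine Finset.sum_congr rfl fun a _ => ?_
    have : ∀ y : Fin (n a) × Fin (n a), (¬ (⟨a, y⟩ : Σ a, Fin (n a) × Fin (n a)) ∈
        Function.fixedPoints P) ↔ π a ≠ a := fun y =>
      not_congr ⟨fun h => (h1 ⟨a, y⟩).symm.trans (congrArg Sigma.fst h),
        fun h => sig_ext ((h1 _).trans h) (h2 _) (h3 _)⟩
    simp only [this]
    split_ifs <;> simp
  have hd : (∑ a, if π a ≠ a then n a * n a else 0) ≡ Nat.card {a // ¬ 2 ∣ n a ∧ π a ≠ a} [MOD 4] := by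
    rw [Nat.card_eq_fintype_card, Fintype.card_subtype, Finset.card_filter,
      ← ZMod.natCast_eq_natCast_iff]
    push_cast
    refine Finset.sum_congr rfl fun a _ => ?_
    by_cases h : π a = a
    · simp [h]
    · rcases Nat.even_or_odd' (n a) with ⟨k, hk | hk⟩
      · have : 2 ∣ n a := ⟨k, hk⟩
        simp only [h, this, ne_eq, not_false_eq_true, if_true, not_true, false_and, if_false]
        rw [hk]
        push_cast
        have h4 : (4 : ZMod 4) = 0 := rfl
        linear_combination (k * k : ZMod 4) * h4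
      · have : ¬ 2 ∣ n a := by omega
        simp only [h, this, ne_eq, not_false_eq_true, if_true, and_self]
        rw [hk]
        push_cast
        have h4 : (4 : ZMod 4) = 0 := rfl
        linear_combination (k * k + k : ZMod 4) * h4
  rw [hc, Int.units_pow_eq_pow_mod_two, Int.units_pow_eq_pow_mod_two _ (Nat.card _ / 2)]
  unfold Nat.ModEq at hd
  congr 1
  omega

theorem gdet (G : Type*) [Group G] [Finite G] : ∃ d : ℂ, (∃ ε : ℤ, (ε = 1 ∨ ε = -1) ∧ d^2 * ∏ χ : IrrCharacter G, (charDegree χ.1 : ℂ)^(charDegree χ.1^2) = ε * (Nat.card G : ℂ)^(Nat.card G)) ∧ ∀ (σ : ℂ →+* ℂ) (π : Equiv.Perm (IrrCharacter G)), (∀ χ g, (π χ).1 g = σ (χ.1 g)) → π * π = 1 → σ d = (-1)^(Nat.card {χ : IrrCharacter G // ¬ 2 ∣ charDegree χ.1 ∧ π χ ≠ χ} / 2) * d := by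
  let n : IrrCharacter G → ℕ := fun χ => charDegree χ.1
  have hn : ∀ χ : IrrCharacter G, χ.1 1 = n χ := fun χ => χ.2.apply_one_eq_charDegree
  have hR : ∀ χ : IrrCharacter G, ∃ R : G →* Matrix (Fin (n χ)) (Fin (n χ)) ℂ,
      ∀ g, (R g).trace = χ.1 g := fun χ => by
    obtain ⟨m, ρ, -, h⟩ := χ.2
    have hm : m = n χ := by
      have := hn χ
      rw [← h, Representation.char_one] at this
      simpa using this
    subst hm
    refine ⟨(LinearMap.toMatrixAlgEquiv' (R := ℂ)).toMonoidHom.comp ρ, fun g => ?_⟩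
    rw [← h, ← Matrix.trace_toLin'_eq]
    exact congrArg (LinearMap.trace ℂ _) (Matrix.toLin'_toMatrix' (ρ g))
  choose R hR using hR
  have hc : Fintype.card (Σ χ : IrrCharacter G, Fin (n χ) × Fin (n χ)) = Nat.card G := by
    have := sum_degree_sq (G := G)
    simp only [hn] at this
    simp only [Fintype.card_sigma, Fintype.card_prod, Fintype.card_fin, ← sq]
    exact_mod_cast this
  let e : (Σ χ : IrrCharacter G, Fin (n χ) × Fin (n χ)) ≃ G :=
    (Finite.card_eq.1 (Nat.card_eq_fintype_card.trans hc)).some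
  let D : Matrix (Σ χ : IrrCharacter G, Fin (n χ) × Fin (n χ))
      (Σ χ : IrrCharacter G, Fin (n χ) × Fin (n χ)) ℂ := of fun x y => R x.1 (e y) x.2.1 x.2.2
  refine ⟨D.det, ?_, fun σ π hπ h2 => ?_⟩
  · let s : Equiv.Perm (Σ χ : IrrCharacter G, Fin (n χ) × Fin (n χ)) :=
      Equiv.sigmaCongrRight fun _ => Equiv.prodComm _ _
    let t : Equiv.Perm (Σ χ : IrrCharacter G, Fin (n χ) × Fin (n χ)) :=
      (e.trans (Equiv.inv G)).trans e.symm
    have hG : ((D.submatrix s id).submatrix id t)ᵀ * (diagonal (fun x => (n x.1 : ℂ)) * D) =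
        diagonal fun _ => (Nat.card G : ℂ) := by
      ext y z
      have := sum_degree_mul ((e y)⁻¹ * e z)
      simp only [inv_mul_eq_one, e.injective.eq_iff] at this
      rw [diagonal_apply, mul_apply, Fintype.sum_sigma]
      refine Eq.trans (Finset.sum_congr rfl fun χ _ => ?_) (this.trans (by congr))
      rw [hn, ← hR, map_mul, Matrix.trace, Finset.mul_sum, Fintype.sum_prod_type_right]
      refine Finset.sum_congr rfl fun j _ => ?_
      rw [diag_apply, mul_apply, Finset.mul_sum]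
      refine Finset.sum_congr rfl fun i _ => ?_
      simp [D, s, t, mul_left_comm]
    have hd := congrArg det hG
    rw [det_mul, det_mul, det_transpose, det_permute', det_permute, det_diagonal, det_diagonal,
      Fintype.prod_sigma, Finset.prod_const, Finset.card_univ, hc] at hd
    simp only [Finset.prod_const, Finset.card_univ, Fintype.card_prod, Fintype.card_fin, ← sq] at hd
    refine ⟨Equiv.Perm.sign t * Equiv.Perm.sign s, ?_, ?_⟩
    · rcases Int.units_eq_one_or (Equiv.Perm.sign t) with h | h <;>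
        rcases Int.units_eq_one_or (Equiv.Perm.sign s) with h' | h' <;> simp [h, h']
    · rw [← hd]
      rcases Int.units_eq_one_or (Equiv.Perm.sign t) with h | h <;>
        rcases Int.units_eq_one_or (Equiv.Perm.sign s) with h' | h' <;> simp [h, h', n] <;> ring
  · have hπn : ∀ χ, n χ = n (π χ) := fun χ => by
      have := hπ χ 1
      rw [hn, hn, map_natCast] at this
      exact_mod_cast this.symm
    have hAB := fun χ => sim ((σ.mapMatrix (m := Fin (n χ))).toMonoidHom.comp (R χ))
      ((reindexAlgEquiv ℂ ℂ (finCongr (hπn χ)).symm).toMonoidHom.comp (R (π χ))) fun g => by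
        refine Eq.trans (b := σ (R χ g).trace) (map_sum σ _ _).symm ?_
        rw [hR, ← hπ, ← hR]
        exact (Equiv.sum_comp (finCongr (hπn χ)) fun i => R (π χ) g i i).symm
    choose A B hAB hS using hAB
    let P : Equiv.Perm (Σ χ : IrrCharacter G, Fin (n χ) × Fin (n χ)) :=
      Equiv.sigmaCongr π fun χ => (finCongr (hπn χ)).prodCongr (finCongr (hπn χ))
    have hD : σ.mapMatrix D = blockDiagonal' (fun χ => A χ ⊗ₖ (B χ)ᵀ) * D.submatrix P id := by
      ext ⟨χ, i, j⟩ y
      have := congrFun (congrFun (hS χ (e y)) i) j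
      refine Eq.trans this ?_
      rw [mul_apply, mul_apply, Fintype.sum_sigma, Finset.sum_eq_single χ, Fintype.sum_prod_type_right]
      · refine Finset.sum_congr rfl fun l _ => ?_
        rw [mul_apply, Finset.sum_mul]
        refine Finset.sum_congr rfl fun k _ => ?_
        rw [blockDiagonal'_apply_eq, kroneckerMap_apply, transpose_apply, mul_right_comm]
        rfl
      · intro ψ _ h
        exact Finset.sum_eq_zero fun x _ => by rw [blockDiagonal'_apply_ne _ _ _ h.symm, zero_mul]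
      · simp
    rw [RingHom.map_det, hD, det_mul, det_bd, det_permute,
      sign_eq n π h2 P (fun _ => rfl) (fun _ => rfl) (fun _ => rfl), Finset.prod_eq_one, one_mul]
    · simp [n]
    · intro χ _
      rw [det_kronecker, det_transpose, ← mul_pow, ← det_mul, hAB, det_one, one_pow]

end CL.OD.GD72
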