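import Mathlib

set_option autoImplicit false

namespace CL.OD.Gs40

open Complex

theorem prime_case (σ : ℂ →+* ℂ) (p : ℕ) (hp : p.Prime) (h2 : p ≠ 2)
    (hfix : ∀ z : ℂ, z ^ p = 1 → σ z = z) :
    ∃ y : ℂ, σ y = y ∧ ((y ^ 2 = (p : ℂ) ∧ p % 4 = 1) ∨ (y ^ 2 = -(p : ℂ) ∧ p % 4 = 3)) := by
  have : Fact p.Prime := ⟨hp⟩
  have hc : ringChar (ZMod p) ≠ 2 := by rw [ZMod.ringChar_zmod_n]; exact h2
  let χ : MulChar (ZMod p) ℂ := (quadraticChar (ZMod p)).ringHomComp (Int.castRingHom ℂ)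
  have hχ1 : χ ≠ 1 := (MulChar.ringHomComp_ne_one_iff (RingHom.injective_int _)).2
    (quadraticChar_ne_one hc)
  have hχ2 : χ.IsQuadratic := (quadraticChar_isQuadratic (ZMod p)).comp _
  have hs := gaussSum_sq hχ1 hχ2 (ZMod.isPrimitive_stdAddChar p)
  refine ⟨gaussSum χ (ZMod.stdAddChar (N := p)), ?_, ?_⟩
  · unfold gaussSum
    rw [map_sum]
    refine Finset.sum_congr rfl fun a _ => ?_
    rw [map_mul, hfix (ZMod.stdAddChar a)]
    · congr 1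
      simp [χ]
    · rw [← AddChar.map_nsmul_eq_pow]
      simp
  · have h1 : χ (-1) = ((ZMod.χ₄ (p : ZMod 4) : ℤ) : ℂ) := by
      have := quadraticChar_neg_one hc
      simp only [χ, MulChar.ringHomComp_apply, this, ZMod.card]
      simp
    rw [h1, ZMod.card] at hs
    have ho : p % 2 = 1 := hp.eq_two_or_odd.resolve_left h2
    rcases Nat.odd_mod_four_iff.1 ho with h | h
    · left
      rw [ZMod.χ₄_nat_one_mod_four h] at hs
      exact ⟨by simpa using hs, h⟩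
    · right
      rw [ZMod.χ₄_nat_three_mod_four h] at hs
      exact ⟨by simpa using hs, h⟩

theorem nat_case (σ : ℂ →+* ℂ) (m : ℕ) (hm : m % 2 = 1)
    (hfix : ∀ p : ℕ, p.Prime → p ∣ m → ∀ z : ℂ, z ^ p = 1 → σ z = z) :
    ∃ y : ℂ, σ y = y ∧ ((y ^ 2 = (m : ℂ) ∧ m % 4 = 1) ∨ (y ^ 2 = -(m : ℂ) ∧ m % 4 = 3)) := by
  induction m using induction_on_primes with
  | zero => simp at hm
  | one => exact ⟨1, by simp, Or.inl ⟨by simp, rfl⟩⟩
  | prime_mul p a hp ih =>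
    have hp2 : p % 2 = 1 := by
      rcases Nat.mod_two_eq_zero_or_one p with h | h
      · rw [Nat.mul_mod, h] at hm; simp at hm
      · exact h
    have ha2 : a % 2 = 1 := by
      rcases Nat.mod_two_eq_zero_or_one a with h | h
      · rw [Nat.mul_mod, h] at hm; simp at hm
      · exact h
    obtain ⟨y, hy, h⟩ := prime_case σ p hp (by rintro rfl; simp at hp2)
      (hfix p hp (dvd_mul_right _ _))
    obtain ⟨w, hw, h'⟩ := ih ha2 fun q hq hd => hfix q hq (hd.mul_left _)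
    refine ⟨y * w, by rw [map_mul, hy, hw], ?_⟩
    rcases h with ⟨h, e⟩ | ⟨h, e⟩ <;> rcases h' with ⟨h', e'⟩ | ⟨h', e'⟩
    · left; exact ⟨by rw [mul_pow, h, h']; push_cast; ring, by rw [Nat.mul_mod, e, e']⟩
    · right; exact ⟨by rw [mul_pow, h, h']; push_cast; ring, by rw [Nat.mul_mod, e, e']⟩
    · right; exact ⟨by rw [mul_pow, h, h']; push_cast; ring, by rw [Nat.mul_mod, e, e']⟩
    · left; exact ⟨by rw [mul_pow, h, h']; push_cast; ring, by rw [Nat.mul_mod, e, e']⟩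

/-- `d ^ 2 = ε * m * q ^ 2`, `σ d = d`, `σ I = -I`: then `ε * m ≡ 1 mod 4`. -/
theorem main (σ : ℂ →+* ℂ) (m : ℕ) (hm : m % 2 = 1)
    (hfix : ∀ p : ℕ, p.Prime → p ∣ m → ∀ z : ℂ, z ^ p = 1 → σ z = z) (hI : σ I = -I)
    (d : ℂ) (q : ℚ) (hq : q ≠ 0) :
    (d ^ 2 = (m : ℂ) * (q : ℂ) ^ 2 → (σ d = d ↔ m % 4 = 1) ∧ (σ d = -d ↔ m % 4 = 3)) ∧
    (d ^ 2 = -(m : ℂ) * (q : ℂ) ^ 2 → (σ d = d ↔ m % 4 = 3) ∧ (σ d = -d ↔ m % 4 = 1)) := by
  obtain ⟨y, hy, h⟩ := nat_case σ m hm hfix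
  have hm0 : (m : ℂ) ≠ 0 := by
    have : m ≠ 0 := by rintro rfl; simp at hm
    exact_mod_cast this
  have hq0 : (q : ℂ) ≠ 0 := by exact_mod_cast hq
  have hσq : σ (q : ℂ) = q := map_ratCast σ q
  have k1 : ∀ d : ℂ, d ^ 2 = (y * q) ^ 2 → σ d = d := by
    intro d hd
    rcases sq_eq_sq_iff_eq_or_eq_neg.1 hd with e | e <;> rw [e] <;> simp [hy]
  have k2 : ∀ d : ℂ, d ^ 2 = (I * (y * q)) ^ 2 → σ d = -d := by
    intro d hd
    rcases sq_eq_sq_iff_eq_or_eq_neg.1 hd with e | e <;> rw [e] <;> simp [hy, hI]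
  have k3 : ∀ d : ℂ, d ^ 2 ≠ 0 → d ≠ -d := by
    intro d hd e
    have : d = 0 := by linear_combination e / 2
    exact hd (by simp [this])
  constructor
  · intro hd
    have hd0 : d ^ 2 ≠ 0 := by rw [hd]; exact mul_ne_zero hm0 (pow_ne_zero _ hq0)
    rcases h with ⟨h, e⟩ | ⟨h, e⟩
    · have := k1 d (by rw [hd, mul_pow, h])
      refine ⟨⟨fun _ => e, fun _ => this⟩, ⟨fun h' => (k3 d hd0 (this.symm.trans h')).elim, fun h' => by omega⟩⟩
    · have := k2 d (by rw [hd, mul_pow, mul_pow, h, I_sq]; ring)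
      refine ⟨⟨fun h' => (k3 d hd0 (h'.symm.trans this)).elim, fun h' => by omega⟩,
        ⟨fun _ => e, fun _ => this⟩⟩
  · intro hd
    have hd0 : d ^ 2 ≠ 0 := by
      rw [hd]; exact mul_ne_zero (neg_ne_zero.2 hm0) (pow_ne_zero _ hq0)
    rcases h with ⟨h, e⟩ | ⟨h, e⟩
    · have := k2 d (by rw [hd, mul_pow, mul_pow, h, I_sq]; ring)
      refine ⟨⟨fun h' => (k3 d hd0 (h'.symm.trans this)).elim, fun h' => by omega⟩,
        ⟨fun _ => e, fun _ => this⟩⟩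
    · have := k1 d (by rw [hd, mul_pow, h])
      refine ⟨⟨fun _ => e, fun _ => this⟩, ⟨fun h' => (k3 d hd0 (this.symm.trans h')).elim, fun h' => by omega⟩⟩

end CL.OD.Gs40
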