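import Cfsg.Agent.CHAR.FS
import Cfsg.Agent.CHAR.Values
import Cfsg.Agent.BLK.OD.Sq83

/-! The sum of the real odd degrees modulo `4`. -/

set_option autoImplicit false

namespace CL.OD.S41

open Cfsg CL.Char
open scoped Classical ComplexConjugate

theorem prod_sub {ι : Type*} (s : Finset ι) (f : ι → ℕ) (hf : ∀ i ∈ s, ¬ 2 ∣ f i) :
    ¬ 2 ∣ ∏ i ∈ s, f i ∧ ((∏ i ∈ s, f i : ℕ) : ZMod 4) - 1 = ∑ i ∈ s, ((f i : ZMod 4) - 1) := by
  induction s using Finset.induction_on with
  | empty => simp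
  | insert a s ha ih =>
    obtain ⟨h1, h2⟩ := ih fun i hi => hf i (Finset.mem_insert_of_mem hi)
    have h3 := hf a (Finset.mem_insert_self _ _)
    rw [Finset.prod_insert ha, Finset.sum_insert ha, ← h2]
    generalize ∏ i ∈ s, f i = y at h1
    obtain ⟨k, hk⟩ : ∃ k, f a = 2 * k + 1 := ⟨f a / 2, by omega⟩
    obtain ⟨l, rfl⟩ : ∃ l, y = 2 * l + 1 := ⟨y / 2, by omega⟩
    rw [hk]
    refine ⟨fun h => ?_, ?_⟩
    · rcases (Nat.Prime.dvd_mul Nat.prime_two).1 h with h | h <;> omega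
    · push_cast
      generalize (k : ZMod 4) = x
      generalize (l : ZMod 4) = z
      revert x z
      decide

theorem sum4 (G : Type*) [Group G] [Fintype G] (hev : Even (Nat.card G))
    (h4 : Nat.card {χ : IrrCharacter G // ¬ 2 ∣ charDegree χ.1} = 4) (d : ℂ) (ε : ℤ)
    (hε : ε = 1 ∨ ε = -1)
    (hd : d ^ 2 * ∏ χ : IrrCharacter G, (charDegree χ.1 : ℂ) ^ (charDegree χ.1 ^ 2) =
      ε * (Nat.card G : ℂ) ^ Nat.card G)
    (hc : conj d = (-1) ^ (Nat.card {χ : IrrCharacter G // ¬ 2 ∣ charDegree χ.1 ∧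
      ¬ ∀ g, conj (χ.1 g) = χ.1 g} / 2) * d)
    (σ : ℂ →+* ℂ) (hσ : ∀ (q : ℕ) (z : ℂ), q.Prime → q ≠ 2 → q ∣ Nat.card G → z ^ q = 1 → σ z = z)
    (hI : σ Complex.I = -Complex.I) (hs : σ d = d) :
    ∑ χ : IrrCharacter G, (if (∀ g, (χ.1 g).im = 0) ∧ ¬ 2 ∣ charDegree χ.1 then
      (charDegree χ.1 : ℤ) else 0) ≡ 0 [ZMOD 4] := by
  let n : IrrCharacter G → ℕ := fun χ => charDegree χ.1
  let O : Finset (IrrCharacter G) := Finset.univ.filter fun χ => ¬ 2 ∣ n χ
  let R : IrrCharacter G → Prop := fun χ => ∀ g, (χ.1 g).im = 0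
  have hO : O.card = 4 := by rw [← h4, Nat.card_eq_fintype_card, Fintype.card_subtype]
  have hcard : Nat.card {χ : IrrCharacter G // ¬ 2 ∣ charDegree χ.1 ∧ ¬ ∀ g, conj (χ.1 g) = χ.1 g} =
      (O.filter fun χ => ¬ R χ).card := by
    rw [Nat.card_eq_fintype_card, Fintype.card_subtype, Finset.filter_filter]
    simp only [Complex.conj_eq_iff_im]
    rfl
  rw [hcard] at hc
  set c := (O.filter fun χ => ¬ R χ).card with hcdef
  have hac : (O.filter R).card + c = 4 := by rw [hcdef, Finset.card_filter_add_card_filter_not, hO]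
  have hdeg : ∀ χ, n (irrConj G χ) = n χ := fun χ => by
    apply charDegree_eq_of_apply_one
    rw [irrConj_apply, χ.2.isCharacter.conj_one, χ.2.apply_one_eq_charDegree]
  have hmem : ∀ χ ∈ O.filter fun χ => ¬ R χ, irrConj G χ ∈ O.filter fun χ => ¬ R χ := fun χ h => by
    simp only [O, Finset.mem_filter, Finset.mem_univ, true_and] at h ⊢
    refine ⟨by rw [hdeg]; exact h.1, fun hr => h.2 fun g => ?_⟩
    have := hr g
    rwa [irrConj_apply, Complex.conj_im, neg_eq_zero] at this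
  have hne : ∀ χ ∈ O.filter fun χ => ¬ R χ, irrConj G χ ≠ χ := fun χ h e =>
    (Finset.mem_filter.1 h).2 fun g => by
      have := congrFun (congrArg Subtype.val e) g
      rw [irrConj_apply] at this
      exact Complex.conj_eq_iff_im.1 this
  have hc2 : 2 ∣ c := by
    have : ∑ χ ∈ O.filter fun χ => ¬ R χ, (1 : ZMod 2) = 0 :=
      Finset.sum_involution (fun χ _ => irrConj G χ) (fun _ _ => by decide) (fun χ h _ => hne χ h)
        hmem (fun χ _ => (irrConj G).left_inv χ)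
    rw [Finset.sum_const, nsmul_eq_mul, mul_one] at this
    exact (ZMod.natCast_eq_zero_iff _ _).1 this
  have hnr : ∑ χ ∈ O.filter fun χ => ¬ R χ, ((n χ : ZMod 4) - 1) = 0 := by
    refine Finset.sum_involution (fun χ _ => irrConj G χ) (fun χ h => ?_) (fun χ h _ => hne χ h)
      hmem (fun χ _ => (irrConj G).left_inv χ)
    have h3 : ¬ 2 ∣ n χ := (Finset.mem_filter.1 (Finset.mem_filter.1 h).1).2
    obtain ⟨k, hk⟩ : ∃ k, n χ = 2 * k + 1 := ⟨n χ / 2, by omega⟩
    rw [hdeg, hk]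
    push_cast
    generalize (k : ZMod 4) = x
    revert x
    decide
  obtain ⟨hDo, hD⟩ := prod_sub O n fun i hi => (Finset.mem_filter.1 hi).2
  set D := ∏ i ∈ O, n i with hDdef
  rw [← Finset.sum_filter_add_sum_filter_not O R, hnr, add_zero, Finset.sum_sub_distrib,
    Finset.sum_const, nsmul_eq_mul, mul_one] at hD
  -- the square root
  let s : ℕ := ∏ χ, n χ ^ (n χ ^ 2 / 2)
  have hs0 : s ≠ 0 := Finset.prod_ne_zero_iff.2 fun χ _ => pow_ne_zero _ χ.2.charDegree_pos.ne'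
  have hprod : ∏ χ, n χ ^ (n χ ^ 2) = D * s ^ 2 := by
    rw [hDdef, Finset.prod_filter, ← Finset.prod_pow, ← Finset.prod_mul_distrib]
    refine Finset.prod_congr rfl fun χ _ => ?_
    rw [← pow_mul]
    split_ifs with h
    · have : 2 ∣ n χ ^ 2 := h.trans (dvd_pow_self _ two_ne_zero)
      rw [one_mul, Nat.div_mul_cancel this]
    · have : ¬ 2 ∣ n χ ^ 2 := fun h' => h (Nat.prime_two.dvd_of_dvd_pow h')
      rw [← pow_succ']
      congr 1
      omega
  obtain ⟨m, hm⟩ := hev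
  have hG0 : (Nat.card G : ℂ) ≠ 0 := Nat.cast_ne_zero.2 Nat.card_pos.ne'
  have hd' : d ^ 2 * (D * (s : ℂ) ^ 2) = ε * ((Nat.card G : ℂ) ^ m) ^ 2 := by
    have : ∏ χ : IrrCharacter G, (charDegree χ.1 : ℂ) ^ (charDegree χ.1 ^ 2) = D * (s : ℂ) ^ 2 := by
      exact_mod_cast hprod
    rw [← this, hd, ← pow_mul, mul_two, ← hm]
  let t : ℂ := d * (D * s) / (Nat.card G : ℂ) ^ m
  have ht : t ^ 2 = ((ε * D : ℤ) : ℂ) := by
    simp only [t]
    rw [div_pow, div_eq_iff (pow_ne_zero _ (pow_ne_zero _ hG0))]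
    push_cast
    linear_combination (D : ℂ) * hd'
  have hDpos : 0 < D := Nat.pos_of_ne_zero fun h => hDo (h ▸ dvd_zero 2)
  have hodd : Odd (ε * D : ℤ) := by
    rw [Int.odd_iff]
    rcases hε with rfl | rfl <;> omega
  have h1 : (ε * D : ℤ) % 4 = 1 := by
    refine (CL.OD.Sq83.mod4 σ hI _ hodd (fun q hq hqd z hz => ?_) t ht).1 (by
      simp only [t, map_div₀, map_mul, map_pow, map_natCast, hs])
    have hqD : q ∣ D := by
      rcases hε with rfl | rfl
      · exact_mod_cast (by simpa using hqd : (q : ℤ) ∣ D)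
      · exact_mod_cast (by simpa using hqd : (q : ℤ) ∣ D)
    obtain ⟨χ, -, hχ⟩ := (Nat.Prime.prime hq).exists_mem_finset_dvd hqD
    exact hσ q z hq (by rintro rfl; exact hDo hqD) (hχ.trans χ.2.charDegree_dvd_card) hz
  have h2 : conj t = (-1) ^ (c / 2) * t := by
    simp only [t, map_div₀, map_mul, map_pow, map_natCast, hc]
    ring
  have h3 : ε = (-1) ^ (c / 2) := by
    have hre := congrArg Complex.re ht
    have hDr : (0 : ℝ) < D := by exact_mod_cast hDpos
    rw [sq, Complex.mul_re] at hre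
    rcases Nat.even_or_odd (c / 2) with h | h
    · rw [h.neg_one_pow] at h2 ⊢
      rw [one_mul, Complex.conj_eq_iff_im] at h2
      rcases hε with rfl | rfl
      · rfl
      · rw [h2] at hre
        simp at hre
        nlinarith [mul_self_nonneg t.re]
    · rw [h.neg_one_pow] at h2 ⊢
      have h5 := congrArg Complex.re h2
      simp at h5
      have h6 : t.re = 0 := by linarith
      rcases hε with rfl | rfl
      · rw [h6] at hre
        simp at hre
        nlinarith [mul_self_nonneg t.im]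
      · rfl
  have hS : ∑ χ : IrrCharacter G, (if (∀ g, (χ.1 g).im = 0) ∧ ¬ 2 ∣ charDegree χ.1 then
      (charDegree χ.1 : ℤ) else 0) = ((∑ χ ∈ O.filter R, n χ : ℕ) : ℤ) := by
    rw [Finset.filter_filter, Finset.sum_filter]
    push_cast
    exact Finset.sum_congr rfl fun χ _ => if_congr and_comm rfl rfl
  rw [hS]
  rw [← Nat.cast_sum] at hD
  generalize ∑ χ ∈ O.filter R, n χ = S at hD ⊢
  generalize (O.filter R).card = a at hD hac
  have h7 : ((D + a : ℕ) : ZMod 4) = ((S + 1 : ℕ) : ZMod 4) := by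
    push_cast
    linear_combination hD
  rw [ZMod.natCast_eq_natCast_iff'] at h7
  rw [h3] at h1
  have hc3 : c = 0 ∨ c = 2 ∨ c = 4 := by omega
  unfold Int.ModEq
  rcases hc3 with h | h | h <;> rw [h] at h1 hac <;> norm_num at h1 <;> omega

end CL.OD.S41
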