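import Mathlib

namespace CL.OD.Sg
open Equiv Equiv.Perm

theorem fib {X : Type*} [Fintype X] [DecidableEq X] (τ : Perm X) (f : X → ℕ)
    (hf : ∀ x, f (τ x) = f x) (S : Finset ℕ) (hS : ∀ x, f x ∈ S) :
    Perm.sign τ = ∏ k ∈ S, Perm.sign (τ.subtypePerm (p := fun x => f x = k) (fun x => by rw [hf])) := by
  classical
  have hB : (τ.permMatrix ℤ).BlockTriangular f := by
    intro i j hij
    have : τ i ≠ j := by
      rintro rfl
      rw [hf] at hij
      exact lt_irrefl _ hij
    simp [Equiv.Perm.permMatrix, PEquiv.toMatrix_apply, Equiv.toPEquiv_apply, this]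
  have h1 := hB.det
  rw [Matrix.det_permutation] at h1
  have h2 : ∀ k, ((τ.permMatrix ℤ).toSquareBlock f k).det =
      ((Perm.sign (τ.subtypePerm (p := fun x => f x = k) (fun x => by rw [hf])) : ℤˣ) : ℤ) := by
    intro k
    have := Matrix.det_permutation (R := ℤ) (τ.subtypePerm (p := fun x => f x = k) (fun x => by rw [hf]))
    simp only [Int.cast_id] at this
    rw [← this]
    congr 1
    ext i j
    simp [Matrix.toSquareBlock, Matrix.toSquareBlockProp, Matrix.toBlock, Equiv.Perm.permMatrix,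
      PEquiv.toMatrix_apply, Equiv.toPEquiv_apply, Subtype.ext_iff]
  apply Units.ext
  rw [Units.coe_prod]
  simp only [Int.cast_id] at h1
  rw [h1, Finset.prod_congr rfl (fun k _ => h2 k)]
  apply Finset.prod_subset
  · intro k hk
    obtain ⟨x, -, rfl⟩ := Finset.mem_image.1 hk
    exact hS x
  · intro k _ hk
    have : (τ.subtypePerm (p := fun x => f x = k) (fun x => by rw [hf])) = 1 := by
      ext x
      exact absurd (Finset.mem_image.2 ⟨x.1, Finset.mem_univ _, x.2⟩) hk
    rw [this]; simp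

theorem sign {ι : Type*} [Fintype ι] [DecidableEq ι] (n : ι → ℕ) (π : Perm ι)
    (hn : ∀ i, n (π i) = n i) (τ : Perm (Σ i, Fin (n i) × Fin (n i)))
    (h1 : ∀ x, (τ x).1 = π x.1) (h2 : ∀ x, ((τ x).2.1 : ℕ) = x.2.1)
    (h3 : ∀ x, ((τ x).2.2 : ℕ) = x.2.2) (ho : ∀ i, ¬ 2 ∣ n (π i) ↔ ¬ 2 ∣ n i) :
    Perm.sign τ = Perm.sign (π.subtypePerm (p := fun i => ¬ 2 ∣ n i) ho) := by
  classical
  rw [fib τ (fun x => n x.1) (fun x => by simp only [h1, hn]) (Finset.univ.image n)
      (fun x => Finset.mem_image.2 ⟨x.1, Finset.mem_univ _, rfl⟩),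
    fib (π.subtypePerm (p := fun i => ¬ 2 ∣ n i) ho) (fun x => n x.1) (fun x => hn x.1) (Finset.univ.image n)
      (fun x => Finset.mem_image.2 ⟨x.1, Finset.mem_univ _, rfl⟩)]
  refine Finset.prod_congr rfl (fun m _ => ?_)
  let s : Perm {i // n i = m} := π.subtypePerm (p := fun i => n i = m) (fun x => by rw [hn])
  let e : {x : (Σ i, Fin (n i) × Fin (n i)) // n x.1 = m} ≃ (Fin m × Fin m) × {i // n i = m} :=
    { toFun := fun x => ((Fin.cast x.2 x.1.2.1, Fin.cast x.2 x.1.2.2), ⟨x.1.1, x.2⟩)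
      invFun := fun y => ⟨⟨y.2.1, (Fin.cast y.2.2.symm y.1.1, Fin.cast y.2.2.symm y.1.2)⟩, y.2.2⟩
      left_inv := fun x => rfl
      right_inv := fun y => rfl }
  have hL : Perm.sign (τ.subtypePerm (p := fun x => n x.1 = m) (fun x => by simp only [h1, hn])) =
      Perm.sign s ^ (m * m) := by
    rw [Equiv.Perm.sign_eq_sign_of_equiv _ (Equiv.prodCongrRight (fun _ : Fin m × Fin m => s)) e,
      Equiv.Perm.sign_prodCongrRight]
    · simp
    · intro x
      refine Prod.ext (Prod.ext (Fin.ext ?_) (Fin.ext ?_)) (Subtype.ext ?_)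
      · exact h2 x.1
      · exact h3 x.1
      · exact h1 x.1
  refine hL.trans ?_
  by_cases hm : 2 ∣ m
  · have : ((π.subtypePerm (p := fun i => ¬ 2 ∣ n i) ho).subtypePerm (p := fun x => n x.1 = m) (fun x => by
        show n (π x.1) = m ↔ _
        rw [hn])) = 1 := by
      ext x
      exact absurd (by rw [x.2]; exact hm) x.1.2
    refine Eq.trans ?_ (congrArg Perm.sign this).symm
    obtain ⟨c, rfl⟩ := hm
    rw [map_one, mul_assoc, pow_mul, Int.units_sq, one_pow]
  · have hodd : Odd (m * m) := by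
      have : Odd m := Nat.odd_iff.2 (by omega)
      exact this.mul this
    rw [Int.units_pow_eq_pow_mod_two, Nat.odd_iff.1 hodd, pow_one]
    let e' : {i // n i = m} ≃ {x : {i // ¬ 2 ∣ n i} // n x.1 = m} :=
      { toFun := fun x => ⟨⟨x.1, by rw [x.2]; exact hm⟩, x.2⟩
        invFun := fun y => ⟨y.1.1, y.2⟩
        left_inv := fun x => rfl
        right_inv := fun y => rfl }
    exact Equiv.Perm.sign_eq_sign_of_equiv _ _ e' (fun x => rfl)

end CL.OD.Sg
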