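import Mathlib.GroupTheory.Perm.Cycle.Type
import Mathlib.Data.Fintype.BigOperators
import Mathlib.SetTheory.Cardinal.Finite
import Mathlib.Data.Complex.Basic

/-! The sign of a permutation of square blocks. -/

set_option autoImplicit false

namespace CL.OD.Sg13

open Equiv Equiv.Perm

variable {ι : Type*} [Fintype ι] [DecidableEq ι]

omit [Fintype ι] [DecidableEq ι] in
theorem ext {n : ι → ℕ} {x y : Σ i, Fin (n i) × Fin (n i)} (h1 : x.1 = y.1)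
    (h2 : (x.2.1 : ℕ) = y.2.1) (h3 : (x.2.2 : ℕ) = y.2.2) : x = y := by
  obtain ⟨i, a, b⟩ := x
  obtain ⟨j, c, d⟩ := y
  obtain rfl : i = j := h1
  obtain rfl : a = c := Fin.ext h2
  obtain rfl : b = d := Fin.ext h3
  rfl

theorem inv (n : ι → ℕ) (π : Perm ι) (hπ : π * π = 1)
    (τ : Perm (Σ i, Fin (n i) × Fin (n i))) (h1 : ∀ x, (τ x).1 = π x.1)
    (h2 : ∀ x, ((τ x).2.1 : ℕ) = x.2.1) (h3 : ∀ x, ((τ x).2.2 : ℕ) = x.2.2) :
    sign τ = (-1) ^ (Nat.card {i // ¬ 2 ∣ n i ∧ π i ≠ i} / 2) := by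
  classical
  have hτ : τ ^ 2 = 1 := by
    refine Equiv.ext fun x => ext ?_ ?_ ?_
    · rw [sq, mul_apply, h1, h1, ← mul_apply, hπ]; rfl
    · rw [sq, mul_apply, h2, h2]; rfl
    · rw [sq, mul_apply, h3, h3]; rfl
  rw [sign_of_pow_two_eq_one hτ]
  have e1 : Fintype.card (Σ i, Fin (n i) × Fin (n i)) - Fintype.card (Function.fixedPoints τ) =
      ∑ i, if π i ≠ i then n i * n i else 0 := by
    rw [← Fintype.card_subtype_compl, Fintype.card_subtype, Finset.card_filter,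
      ← Finset.univ_sigma_univ, Finset.sum_sigma]
    refine Finset.sum_congr rfl fun i _ => ?_
    have : ∀ a : Fin (n i) × Fin (n i), (¬ (⟨i, a⟩ : Σ i, Fin (n i) × Fin (n i)) ∈
        Function.fixedPoints τ) ↔ π i ≠ i := fun a => not_congr
      ⟨fun h => (h1 ⟨i, a⟩).symm.trans (congrArg Sigma.fst h),
        fun h => ext ((h1 _).trans h) (h2 _) (h3 _)⟩
    simp only [this]
    split_ifs <;> simp
  have e2 : Nat.card {i // ¬ 2 ∣ n i ∧ π i ≠ i} =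
      ∑ i, if ¬ 2 ∣ n i ∧ π i ≠ i then 1 else 0 := by
    rw [Nat.card_eq_fintype_card, Fintype.card_subtype, Finset.card_filter]
  have e3 : (∑ i, if π i ≠ i then n i * n i else 0) % 4 =
      (∑ i, if ¬ 2 ∣ n i ∧ π i ≠ i then 1 else 0) % 4 := by
    rw [Finset.sum_nat_mod, Finset.sum_nat_mod _ 4 fun i => if ¬ 2 ∣ n i ∧ π i ≠ i then 1 else 0]
    congr 1
    refine Finset.sum_congr rfl fun i _ => ?_
    have h4 : n i % 4 = 0 ∨ n i % 4 = 1 ∨ n i % 4 = 2 ∨ n i % 4 = 3 := by omega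
    by_cases h : π i = i
    · simp [h]
    · by_cases h' : 2 ∣ n i
      · rw [if_pos h, if_neg (fun e => e.1 h'), Nat.mul_mod]
        rcases h4 with h4 | h4 | h4 | h4 <;> rw [h4] <;> omega
      · rw [if_pos h, if_pos ⟨h', h⟩, Nat.mul_mod]
        rcases h4 with h4 | h4 | h4 | h4 <;> rw [h4] <;> omega
  have e4 : ∀ k : ℕ, (-1 : ℤˣ) ^ k = (-1) ^ (k % 2) := fun k => by
    conv_lhs => rw [← Nat.div_add_mod k 2, pow_add, pow_mul, Int.units_sq, one_pow, one_mul]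
  rw [e1, e2, e4, e4 ((∑ i, if ¬ 2 ∣ n i ∧ π i ≠ i then 1 else 0) / 2)]
  congr 1
  omega

/-- the form with a sign on the odd part -/
theorem inv' (n : ι → ℕ) (π : Perm ι) (hπ : π * π = 1)
    (τ : Perm (Σ i, Fin (n i) × Fin (n i))) (h1 : ∀ x, (τ x).1 = π x.1)
    (h2 : ∀ x, ((τ x).2.1 : ℕ) = x.2.1) (h3 : ∀ x, ((τ x).2.2 : ℕ) = x.2.2) :
    (((sign τ : ℤˣ) : ℤ) : ℂ) = (-1) ^ (Nat.card {i // ¬ 2 ∣ n i ∧ π i ≠ i} / 2) := by
  rw [inv n π hπ τ h1 h2 h3]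
  simp

end CL.OD.Sg13
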