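import Mathlib

namespace CL.OD.Sg35

open Equiv Equiv.Perm

variable {ι : Type*} [Fintype ι] [DecidableEq ι]

/-- the permutation acting as `π` on the points whose `n`-value lies in `T` -/
def r (n : ι → ℕ) (π : Perm ι) (hn : ∀ i, n (π i) = n i) (T : Finset ℕ) : Perm ι where
  toFun i := if n i ∈ T then π i else i
  invFun i := if n i ∈ T then π.symm i else i
  left_inv i := by
    by_cases h : n i ∈ T
    · simp [h, hn]
    · simp [h]
  right_inv i := by
    have h2 : n (π.symm i) = n i := by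
      have := hn (π.symm i); rw [Equiv.apply_symm_apply] at this; exact this.symm
    by_cases h : n i ∈ T
    · simp [h, h2]
    · simp [h]

omit [Fintype ι] [DecidableEq ι] in
theorem r_apply (n : ι → ℕ) (π : Perm ι) (hn : ∀ i, n (π i) = n i) (T : Finset ℕ) (i : ι) :
    r n π hn T i = if n i ∈ T then π i else i := rfl

theorem sign_r (n : ι → ℕ) (π : Perm ι) (hn : ∀ i, n (π i) = n i) (T : Finset ℕ) :
    Perm.sign (r n π hn T) = ∏ m ∈ T, Perm.sign (r n π hn {m}) := by
  induction T using Finset.induction_on with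
  | empty =>
    have : r n π hn ∅ = 1 := by ext i; simp [r_apply]
    simp [this]
  | insert m T hm ih =>
    have : r n π hn (insert m T) = r n π hn {m} * r n π hn T := by
      ext i
      rw [Perm.mul_apply, r_apply, r_apply, r_apply]
      by_cases h : n i ∈ T
      · have h1 : n i ≠ m := fun e => hm (e ▸ h)
        simp [h, hn, h1]
      · by_cases h1 : n i = m
        · simp [h1, hm]
        · simp [h, h1]
    rw [this, map_mul, ih, Finset.prod_insert hm]

theorem sign (n : ι → ℕ) (π : Perm ι) (hn : ∀ i, n (π i) = n i)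
    (τ : Perm (Σ i, Fin (n i) × Fin (n i))) (h1 : ∀ x, (τ x).1 = π x.1)
    (h2 : ∀ x, ((τ x).2.1 : ℕ) = x.2.1) (h3 : ∀ x, ((τ x).2.2 : ℕ) = x.2.2)
    (ho : ∀ i, ¬ 2 ∣ n (π i) ↔ ¬ 2 ∣ n i) :
    Perm.sign τ = Perm.sign (π.subtypePerm (p := fun i => ¬ 2 ∣ n i) ho) := by
  classical
  obtain ⟨B, hB⟩ : ∃ B, ∀ i, n i ≤ B := ⟨Finset.univ.sup n, fun i => Finset.le_sup (Finset.mem_univ i)⟩
  let p : (Fin B × Fin B) × ι → Prop := fun y => (y.1.1 : ℕ) < n y.2 ∧ (y.1.2 : ℕ) < n y.2
  let e : (Σ i, Fin (n i) × Fin (n i)) ≃ Subtype p :=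
    { toFun := fun x => ⟨((⟨x.2.1, lt_of_lt_of_le x.2.1.2 (hB _)⟩, ⟨x.2.2, lt_of_lt_of_le x.2.2.2 (hB _)⟩), x.1),
        ⟨x.2.1.2, x.2.2.2⟩⟩
      invFun := fun y => ⟨y.1.2, (⟨y.1.1.1, y.2.1⟩, ⟨y.1.1.2, y.2.2⟩)⟩
      left_inv := fun x => rfl
      right_inv := fun y => rfl }
  let T : Fin B × Fin B → Finset ℕ := fun ab =>
    (Finset.range (B + 1)).filter (fun m => (ab.1 : ℕ) < m ∧ (ab.2 : ℕ) < m)
  have hT : ∀ ab i, n i ∈ T ab ↔ p (ab, i) := by
    intro ab i
    simp only [T, p, Finset.mem_filter, Finset.mem_range]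
    have := hB i
    constructor
    · exact fun h => h.2
    · exact fun h => ⟨by omega, h⟩
  have hext : τ.extendDomain e = prodCongrRight (fun ab => r n π hn (T ab)) := by
    refine Equiv.ext fun y => ?_
    obtain ⟨ab, i⟩ := y
    rw [prodCongrRight_apply, r_apply]
    by_cases h : p (ab, i)
    · rw [extendDomain_apply_subtype τ e h, if_pos ((hT ab i).2 h)]
      refine Prod.ext (Prod.ext (Fin.ext ?_) (Fin.ext ?_)) ?_
      · exact h2 _
      · exact h3 _
      · exact h1 _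
    · rw [extendDomain_apply_not_subtype τ e h, if_neg (fun h' => h ((hT ab i).1 h'))]
  have hodd : Perm.ofSubtype (π.subtypePerm (p := fun i => ¬ 2 ∣ n i) ho)
      = r n π hn ((Finset.range (B + 1)).filter (fun m => ¬ 2 ∣ m)) := by
    refine Equiv.ext fun i => ?_
    rw [r_apply]
    have := hB i
    by_cases h : ¬ 2 ∣ n i
    · rw [ofSubtype_apply_of_mem (p := fun i => ¬ 2 ∣ n i) (a := i) _ h, if_pos (by simp only [Finset.mem_filter, Finset.mem_range]; exact ⟨by omega, h⟩)]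
      rfl
    · rw [ofSubtype_apply_of_not_mem (p := fun i => ¬ 2 ∣ n i) (a := i) _ h, if_neg (by simp only [Finset.mem_filter]; exact fun h' => h h'.2)]
  rw [← sign_extendDomain τ e, hext, sign_prodCongrRight, ← sign_ofSubtype, hodd, sign_r]
  simp only [sign_r n π hn (T _), T, Finset.prod_filter]
  rw [Finset.prod_comm]
  refine Finset.prod_congr rfl fun m hm => ?_
  rw [Finset.prod_ite, Finset.prod_const_one, mul_one, Finset.prod_const]
  have hm' : m ≤ B := by simp only [Finset.mem_range] at hm; omega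
  have hc : (Finset.univ.filter (fun ab : Fin B × Fin B => (ab.1 : ℕ) < m ∧ (ab.2 : ℕ) < m)).card = m * m := by
    have : (Finset.univ.filter (fun ab : Fin B × Fin B => (ab.1 : ℕ) < m ∧ (ab.2 : ℕ) < m))
        = (Finset.univ.filter (fun a : Fin B => (a : ℕ) < m)) ×ˢ (Finset.univ.filter (fun a : Fin B => (a : ℕ) < m)) := by
      ext ab; simp
    rw [this, Finset.card_product, Fin.card_filter_val_lt]
    simp [hm']
  rw [hc]
  rcases Nat.even_or_odd m with h | h
  · rw [if_neg (not_not.2 h.two_dvd)]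
    rcases Int.units_eq_one_or (Perm.sign (r n π hn {m})) with h4 | h4 <;> rw [h4]
    · exact one_pow _
    · exact (h.mul_right m).neg_one_pow
  · rw [if_pos (fun h' => (Nat.not_even_iff_odd.2 h) (even_iff_two_dvd.2 h'))]
    rcases Int.units_eq_one_or (Perm.sign (r n π hn {m})) with h4 | h4 <;> rw [h4]
    · exact one_pow _
    · exact (h.mul h).neg_one_pow

/-- the same with an arbitrary permutation of the odd points lifting `π` -/
theorem sign' (n : ι → ℕ) (π : Perm ι) (hn : ∀ i, n (π i) = n i)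
    (τ : Perm (Σ i, Fin (n i) × Fin (n i))) (h1 : ∀ x, (τ x).1 = π x.1)
    (h2 : ∀ x, ((τ x).2.1 : ℕ) = x.2.1) (h3 : ∀ x, ((τ x).2.2 : ℕ) = x.2.2)
    [Fintype {i // ¬ 2 ∣ n i}] [DecidableEq {i // ¬ 2 ∣ n i}]
    (π₀ : Perm {i // ¬ 2 ∣ n i}) (h0 : ∀ x, (π₀ x).1 = π x.1) :
    Perm.sign τ = Perm.sign π₀ := by
  have ho : ∀ i, ¬ 2 ∣ n (π i) ↔ ¬ 2 ∣ n i := fun i => by rw [hn]
  have : π₀ = π.subtypePerm (p := fun i => ¬ 2 ∣ n i) ho := by
    ext x; exact h0 x
  rw [sign n π hn τ h1 h2 h3 ho, this]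
  congr!

end CL.OD.Sg35
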