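import Mathlib

set_option autoImplicit false

namespace CL.OD.Sg46

open Equiv Equiv.Perm

variable {ι : Type*} [Fintype ι] [DecidableEq ι] (n : ι → ℕ)

omit [Fintype ι] [DecidableEq ι] in
theorem ext' {x y : Σ i, Fin (n i) × Fin (n i)} (h1 : x.1 = y.1) (h2 : (x.2.1 : ℕ) = y.2.1)
    (h3 : (x.2.2 : ℕ) = y.2.2) : x = y := by
  obtain ⟨i, a, b⟩ := x
  obtain ⟨j, c, d⟩ := y
  obtain rfl : i = j := h1
  obtain rfl : a = c := Fin.ext h2
  obtain rfl : b = d := Fin.ext h3
  rfl

theorem sign_swap' {a b : ι} (hab : a ≠ b) (hn : n a = n b)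
    (τ : Perm (Σ i, Fin (n i) × Fin (n i))) (h1 : ∀ x, (τ x).1 = swap a b x.1)
    (h2 : ∀ x, ((τ x).2.1 : ℕ) = x.2.1) (h3 : ∀ x, ((τ x).2.2 : ℕ) = x.2.2)
    (ho : ∀ i, ¬ 2 ∣ n (swap a b i) ↔ ¬ 2 ∣ n i) :
    Perm.sign τ = Perm.sign ((swap a b).subtypePerm (p := fun i => ¬ 2 ∣ n i) ho) := by
  have hτ : τ ^ 2 = 1 := by
    rw [pow_two]
    ext1 x
    exact ext' n (by simp [h1]) ((h2 (τ x)).trans (h2 x)) ((h3 (τ x)).trans (h3 x))
  have hc : Fintype.card (Σ i, Fin (n i) × Fin (n i)) - Fintype.card (Function.fixedPoints τ) =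
      2 * (n a * n a) := by
    rw [← Fintype.card_subtype_compl, Fintype.card_subtype]
    have : (Finset.univ.filter fun x => ¬ x ∈ Function.fixedPoints τ) =
        ({a, b} : Finset ι).sigma fun i => (Finset.univ : Finset (Fin (n i) × Fin (n i))) := by
      ext x
      simp only [Finset.mem_filter, Finset.mem_univ, true_and, Finset.mem_sigma, and_true,
        Finset.mem_insert, Finset.mem_singleton, Function.mem_fixedPoints, Function.IsFixedPt]
      constructor
      · intro h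
        by_contra! h'
        exact h (ext' n (by rw [h1, swap_apply_of_ne_of_ne h'.1 h'.2]) (h2 _) (h3 _))
      · intro h h'
        have := h1 x
        rw [h'] at this
        rcases h with h | h <;> rw [h] at this <;> simp [hab, hab.symm] at this
    rw [this, Finset.card_sigma, Finset.sum_pair hab]
    simp only [Finset.card_univ, Fintype.card_prod, Fintype.card_fin, ← hn]
    ring
  rw [sign_of_pow_two_eq_one hτ, hc, Nat.mul_div_cancel_left _ two_pos]
  by_cases h : 2 ∣ n a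
  · have : (swap a b).subtypePerm (p := fun i => ¬ 2 ∣ n i) ho = 1 := by
      ext x
      have ha : x.1 ≠ a := fun e => x.2 (e ▸ h)
      have hb : x.1 ≠ b := fun e => x.2 (e ▸ hn ▸ h)
      simp [swap_apply_of_ne_of_ne ha hb]
    rw [this, Perm.sign_one, Even.neg_one_pow]
    exact (even_iff_two_dvd.2 h).mul_right _
  · have : (swap a b).subtypePerm (p := fun i => ¬ 2 ∣ n i) ho = swap ⟨a, h⟩ ⟨b, hn ▸ h⟩ := by
      ext x
      simp only [subtypePerm_apply, swap_apply_def, Subtype.ext_iff]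
      split_ifs <;> rfl
    have hodd : Odd (n a) := Nat.not_even_iff_odd.1 (by rwa [even_iff_two_dvd])
    rw [this, sign_swap (fun e => hab (congrArg Subtype.val e)), Odd.neg_one_pow (hodd.mul hodd)]

theorem sign (π : Perm ι) (hn : ∀ i, n (π i) = n i) (τ : Perm (Σ i, Fin (n i) × Fin (n i)))
    (h1 : ∀ x, (τ x).1 = π x.1) (h2 : ∀ x, ((τ x).2.1 : ℕ) = x.2.1)
    (h3 : ∀ x, ((τ x).2.2 : ℕ) = x.2.2) (ho : ∀ i, ¬ 2 ∣ n (π i) ↔ ¬ 2 ∣ n i) :
    Perm.sign τ = Perm.sign (π.subtypePerm (p := fun i => ¬ 2 ∣ n i) ho) := by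
  induction hk : π.support.card using Nat.strong_induction_on generalizing π τ with
  | _ k ih =>
  by_cases h : ∀ a, π a = a
  · have e1 : τ = 1 := by
      ext1 x
      exact ext' n (by rw [h1, h]; rfl) (h2 _) (h3 _)
    have e2 : π.subtypePerm (p := fun i => ¬ 2 ∣ n i) ho = 1 := by
      ext x
      simp [h]
    rw [e1, e2, Perm.sign_one, Perm.sign_one]
  · push Not at h
    obtain ⟨a, ha⟩ := h
    have hs : ∀ i, n (swap a (π a) i) = n i := fun i => by
      rw [swap_apply_def]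
      split_ifs with e e'
      · rw [e, hn]
      · rw [e', hn]
      · rfl
    let s : Perm (Σ i, Fin (n i) × Fin (n i)) := Equiv.sigmaCongr (swap a (π a)) fun i =>
      Equiv.prodCongr (finCongr (hs i).symm) (finCongr (hs i).symm)
    have s1 : ∀ x, (s x).1 = swap a (π a) x.1 := fun x => rfl
    have s2 : ∀ x, ((s x).2.1 : ℕ) = x.2.1 := fun x => rfl
    have s3 : ∀ x, ((s x).2.2 : ℕ) = x.2.2 := fun x => rfl
    have ho1 : ∀ i, ¬ 2 ∣ n (swap a (π a) i) ↔ ¬ 2 ∣ n i := fun i => by rw [hs]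
    have hn2 : ∀ i, n ((swap a (π a) * π) i) = n i := fun i => by rw [mul_apply, hs, hn]
    have ho2 : ∀ i, ¬ 2 ∣ n ((swap a (π a) * π) i) ↔ ¬ 2 ∣ n i := fun i => by rw [hn2]
    have e1 := sign_swap' n ha.symm (hn a).symm s s1 s2 s3 ho1
    have e2 := ih _ (hk ▸ card_support_swap_mul ha) (swap a (π a) * π) hn2 (s * τ)
      (fun x => by rw [mul_apply, s1, h1, mul_apply]) (fun x => by rw [mul_apply, s2, h2])
      (fun x => by rw [mul_apply, s3, h3]) ho2 rfl
    have e3 : (swap a (π a) * π).subtypePerm (p := fun i => ¬ 2 ∣ n i) ho2 =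
        (swap a (π a)).subtypePerm (p := fun i => ¬ 2 ∣ n i) ho1 * π.subtypePerm (p := fun i => ¬ 2 ∣ n i) ho := by
      ext x; rfl
    rw [e3, map_mul, map_mul, e1] at e2
    exact mul_left_cancel e2

end CL.OD.Sg46
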