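import Mathlib

/-! Sign of a degree preserving permutation lifted to `Σ i, Fin (n i) × Fin (n i)`. -/

set_option autoImplicit false

open Equiv Equiv.Perm

namespace CL.OD.Sg50

variable {ι : Type*} (n : ι → ℕ) (π : Perm ι)

theorem n_pow (hn : ∀ i, n (π i) = n i) (k : ℕ) (x : ι) : n ((π ^ k) x) = n x := by
  induction k with
  | zero => rfl
  | succ k ih => rw [pow_succ', Perm.mul_apply, hn, ih]

/-- `x ↦ π ^ (w (n x)) x`. -/
def P (hn : ∀ i, n (π i) = n i) (w : ℕ → ℕ) : Perm ι where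
  toFun x := (π ^ w (n x)) x
  invFun x := (π ^ w (n x))⁻¹ x
  left_inv x := by
    simp only [n_pow n π hn]
    exact (π ^ w (n x)).symm_apply_apply x
  right_inv x := by
    have h : n ((π ^ w (n x))⁻¹ x) = n x := by
      rw [← n_pow n π hn (w (n x)) ((π ^ w (n x))⁻¹ x)]
      exact congrArg n ((π ^ w (n x)).apply_symm_apply x)
    simp only [h]
    exact (π ^ w (n x)).apply_symm_apply x

theorem P_apply (hn : ∀ i, n (π i) = n i) (w : ℕ → ℕ) (x : ι) : P n π hn w x = (π ^ w (n x)) x := rfl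

theorem P_add (hn : ∀ i, n (π i) = n i) (w v : ℕ → ℕ) : P n π hn (w + v) = P n π hn w * P n π hn v := by
  ext x
  simp only [Perm.mul_apply, P_apply, n_pow n π hn, Pi.add_apply, pow_add]

theorem sign_sum [Fintype ι] [DecidableEq ι] (hn : ∀ i, n (π i) = n i) {κ : Type*} (s : Finset κ)
    (w : κ → ℕ → ℕ) : sign (P n π hn (∑ a ∈ s, w a)) = ∏ a ∈ s, sign (P n π hn (w a)) := by
  classical
  induction s using Finset.induction_on with
  | empty =>
    have : P n π hn 0 = 1 := by ext x; simp [P_apply]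
    simp [this]
  | insert a s ha ih => rw [Finset.sum_insert ha, Finset.prod_insert ha, P_add, map_mul, ih]

theorem sign [Fintype ι] [DecidableEq ι] (hn : ∀ i, n (π i) = n i)
    (τ : Perm (Σ i, Fin (n i) × Fin (n i))) (h1 : ∀ x, (τ x).1 = π x.1)
    (h2 : ∀ x, ((τ x).2.1 : ℕ) = x.2.1) (h3 : ∀ x, ((τ x).2.2 : ℕ) = x.2.2)
    (ho : ∀ i, ¬ 2 ∣ n (π i) ↔ ¬ 2 ∣ n i) : Perm.sign τ = Perm.sign (π.subtypePerm (p := fun i => ¬ 2 ∣ n i) ho) := by
  obtain ⟨N, hN⟩ : ∃ N, ∀ i, n i ≤ N :=
    ⟨∑ i, n i, fun i => Finset.single_le_sum (fun j _ => Nat.zero_le (n j)) (Finset.mem_univ i)⟩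
  let w : Fin N × Fin N → ℕ → ℕ := fun a m => if (a.1 : ℕ) < m ∧ (a.2 : ℕ) < m then 1 else 0
  have e1 : Perm.sign τ = Perm.sign (prodCongrRight fun a => P n π hn (w a)) := by
    refine sign_bij (fun x _ => ((Fin.castLE (hN x.1) x.2.1, Fin.castLE (hN x.1) x.2.2), x.1))
      (fun x _ _ => ?_) (fun x y _ _ h => ?_) (fun y hy => ?_)
    · rw [prodCongrRight_apply, P_apply]
      refine Prod.ext (Prod.ext (Fin.ext (h2 x)) (Fin.ext (h3 x))) ?_
      simp [w, h1]
    · obtain ⟨i, a, b⟩ := x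
      obtain ⟨j, c, d⟩ := y
      simp only [Prod.mk.injEq] at h
      obtain ⟨⟨ha, hb⟩, rfl⟩ := h
      rw [Fin.castLE_inj.1 ha, Fin.castLE_inj.1 hb]
    · obtain ⟨⟨a, b⟩, i⟩ := y
      rw [prodCongrRight_apply, P_apply] at hy
      by_cases h : (a : ℕ) < n i ∧ (b : ℕ) < n i
      · refine ⟨⟨i, ⟨a, h.1⟩, ⟨b, h.2⟩⟩, fun e => hy ?_, rfl⟩
        have := h1 ⟨i, ⟨a, h.1⟩, ⟨b, h.2⟩⟩
        rw [e] at this
        simp only [w, if_pos h, pow_one]
        exact Prod.ext rfl this.symm
      · exact absurd (by simp only [w, if_neg h, pow_zero]; rfl) hy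
  have e2 : Perm.sign (π.subtypePerm (p := fun i => ¬ 2 ∣ n i) ho) = Perm.sign (P n π hn fun m => m % 2) := by
    refine sign_bij (fun x _ => x.1) (fun x _ _ => ?_) (fun x y _ _ h => Subtype.ext h) (fun y hy => ?_)
    · have : n x.1 % 2 = 1 := by have := x.2; omega
      simp [P_apply, this]
    · rw [P_apply] at hy
      have h : ¬ 2 ∣ n y := fun h => hy (by rw [Nat.mod_eq_zero_of_dvd h]; rfl)
      have h' : n y % 2 = 1 := by omega
      refine ⟨⟨y, h⟩, fun e => hy ?_, rfl⟩
      rw [h', pow_one]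
      exact congrArg Subtype.val e
  have e3 : P n π hn (∑ a, w a) =
      P n π hn ((fun m => m % 2) + ((fun m => m * m / 2) + fun m => m * m / 2)) := by
    ext x
    have hc : ∑ a : Fin N, (if (a : ℕ) < n x then 1 else 0) = n x := by
      rw [Fin.sum_univ_eq_sum_range (fun a => if a < n x then 1 else 0) N, Finset.sum_boole]
      have : (Finset.range N).filter (· < n x) = Finset.range (n x) := by
        ext a; have := hN x; simp only [Finset.mem_filter, Finset.mem_range]; omega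
      simp [this]
    have : (∑ a, w a) (n x) = n x % 2 + (n x * n x / 2 + n x * n x / 2) := by
      have h : (∑ a, w a) (n x) = n x * n x := by
        conv_rhs => rw [← hc]
        rw [Finset.sum_apply, Fintype.sum_prod_type, Finset.sum_mul_sum]
        refine Finset.sum_congr rfl fun a _ => Finset.sum_congr rfl fun b _ => ?_
        simp only [w]
        by_cases ha : (a : ℕ) < n x <;> by_cases hb : (b : ℕ) < n x <;> simp [ha, hb]
      have h' : n x * n x % 2 = n x % 2 := by
        rcases Nat.mod_two_eq_zero_or_one (n x) with e | e <;> simp [Nat.mul_mod, e]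
      omega
    simp only [P_apply, this, Pi.add_apply]
  rw [e1, sign_prodCongrRight, ← sign_sum, e3, e2, P_add, P_add, map_mul, map_mul, Int.units_mul_self,
    mul_one]

end CL.OD.Sg50
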