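import Mathlib.NumberTheory.GaussSum
import Mathlib.NumberTheory.LegendreSymbol.QuadraticChar.Basic
import Mathlib.Analysis.SpecialFunctions.Complex.CircleAddChar
import Mathlib.Data.Nat.Factorization.Induction

/-! Square roots of odd integers and automorphisms fixing odd roots of unity. -/

set_option autoImplicit false

namespace CL.OD.Sq23

theorem prime (σ : ℂ →+* ℂ) (q : ℕ) (hq : q.Prime) (h2 : q ≠ 2)
    (hodd : ∀ z : ℂ, z ^ q = 1 → σ z = z) :
    ∃ (g : ℂ) (e : ℤ), σ g = g ∧ g ^ 2 = (e : ℂ) ∧ e % 4 = 1 ∧ (e = q ∨ e = -q) := by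
  have : Fact q.Prime := ⟨hq⟩
  have hc : ringChar (ZMod q) ≠ 2 := by rwa [ZMod.ringChar_zmod_n]
  let χ : MulChar (ZMod q) ℂ := (quadraticChar (ZMod q)).ringHomComp (Int.castRingHom ℂ)
  have h1 : χ ≠ 1 := (MulChar.ringHomComp_ne_one_iff Int.cast_injective).2 (quadraticChar_ne_one hc)
  have h3 : χ.IsQuadratic := (quadraticChar_isQuadratic (ZMod q)).comp _
  have h4 := gaussSum_sq h1 h3 (ZMod.isPrimitive_stdAddChar q)
  have h5 : χ (-1) = ((ZMod.χ₄ (q : ZMod 4) : ℤ) : ℂ) := by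
    show ((quadraticChar (ZMod q) (-1) : ℤ) : ℂ) = _
    rw [quadraticChar_neg_one hc, ZMod.card]
  rw [h5, ZMod.card] at h4
  refine ⟨gaussSum χ ZMod.stdAddChar, ZMod.χ₄ (q : ZMod 4) * q, ?_, by rw [h4]; push_cast; ring, ?_⟩
  · unfold gaussSum
    rw [map_sum]
    refine Finset.sum_congr rfl fun a _ => ?_
    rw [map_mul, hodd (ZMod.stdAddChar a)]
    · congr 1
      exact map_intCast σ _
    · rw [← AddChar.map_nsmul_eq_pow, nsmul_eq_mul, ZMod.natCast_self, zero_mul, AddChar.map_zero_eq_one]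
  · have ho := hq.eq_two_or_odd.resolve_left h2
    rcases Nat.odd_mod_four_iff.1 ho with h | h
    · rw [ZMod.χ₄_nat_one_mod_four h]; omega
    · rw [ZMod.χ₄_nat_three_mod_four h]; omega

theorem nat (σ : ℂ →+* ℂ) (n : ℕ) : Odd n → (∀ (q : ℕ) (z : ℂ), q.Prime → q ∣ n → z ^ q = 1 → σ z = z) →
    ∃ (g : ℂ) (e : ℤ), σ g = g ∧ g ^ 2 = (e : ℂ) ∧ e % 4 = 1 ∧ (e = n ∨ e = -n) := by
  induction n using Nat.recOnMul with
  | zero => intro h; simp at h
  | one => intro _ _; exact ⟨1, 1, by simp, by simp, by simp, by simp⟩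
  | prime q hq =>
    intro h hodd
    exact prime σ q hq (by rintro rfl; exact absurd h (by decide)) fun z => hodd q z hq dvd_rfl
  | mul a b iha ihb =>
    intro h hodd
    obtain ⟨g, e, g1, g2, g3, g4⟩ := iha (Nat.odd_mul.1 h).1 fun q z hq hd =>
      hodd q z hq (hd.mul_right _)
    obtain ⟨g', e', g1', g2', g3', g4'⟩ := ihb (Nat.odd_mul.1 h).2 fun q z hq hd =>
      hodd q z hq (hd.mul_left _)
    refine ⟨g * g', e * e', by rw [map_mul, g1, g1'], by rw [mul_pow, g2, g2']; push_cast; ring,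
      by rw [Int.mul_emod, g3, g3']; rfl, ?_⟩
    rcases g4 with rfl | rfl <;> rcases g4' with rfl | rfl <;> push_cast <;> simp

theorem fix_iff (σ : ℂ →+* ℂ) (hi : σ Complex.I = -Complex.I) (m : ℤ) (hm : Odd m)
    (hodd : ∀ (q : ℕ) (z : ℂ), q.Prime → (q : ℤ) ∣ m → z ^ q = 1 → σ z = z) (d : ℂ)
    (hd : d ^ 2 = m) : σ d = d ↔ m % 4 = 1 := by
  obtain ⟨g, e, g1, g2, g3, g4⟩ := nat σ m.natAbs (Int.natAbs_odd.2 hm) fun q z hq h =>
    hodd q z hq (Int.natCast_dvd.2 h)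
  have he : e = m ∨ e = -m := by omega
  rcases he with rfl | he
  · refine iff_of_true ?_ g3
    rcases sq_eq_sq_iff_eq_or_eq_neg.1 (hd.trans g2.symm) with rfl | rfl
    · exact g1
    · rw [map_neg, g1]
  · have h1 : d ^ 2 = (Complex.I * g) ^ 2 := by
      rw [mul_pow, Complex.I_sq, g2, he, hd]; push_cast; ring
    have h2 : σ d = -d := by
      rcases sq_eq_sq_iff_eq_or_eq_neg.1 h1 with rfl | rfl
      · rw [map_mul, hi, g1, neg_mul]
      · rw [map_neg, map_mul, hi, g1, neg_mul]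
    have h0 : d ≠ 0 := by
      rintro rfl
      have : (m : ℂ) = 0 := by rw [← hd]; simp
      have hm0 : m = 0 := by exact_mod_cast this
      rw [hm0] at hm; simp at hm
    refine iff_of_false (fun h => h0 ?_) (by omega)
    rw [h2] at h
    exact self_eq_neg.1 h.symm

end CL.OD.Sq23
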