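import Mathlib

/-! Square roots of odd integers under a ring map fixing the roots of unity of odd order. -/

set_option autoImplicit false

namespace CL.OD.Sq33

open Complex

theorem ex (σ : ℂ →+* ℂ) (ho : ∀ (z : ℂ) (n : ℕ), Odd n → z ^ n = 1 → σ z = z) (n : ℕ) :
    Odd n → ∃ y : ℂ, σ y = y ∧ y ^ 2 = (ZMod.χ₄ n : ℤ) * n := by
  induction n using Nat.recOnMul with
  | zero => intro h; simp at h
  | one => intro _; exact ⟨1, map_one _, by simp⟩
  | prime p hp =>
    intro h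
    have : Fact p.Prime := ⟨hp⟩
    have h2 : ringChar (ZMod p) ≠ 2 := by
      rw [ZMod.ringChar_zmod_n]; rintro rfl; exact absurd h (by decide)
    refine ⟨gaussSum ((quadraticChar (ZMod p)).ringHomComp (Int.castRingHom ℂ)) ZMod.stdAddChar, ?_, ?_⟩
    · rw [gaussSum, map_sum]
      refine Finset.sum_congr rfl fun a _ => ?_
      rw [map_mul, ho (ZMod.stdAddChar a) p h (by
        rw [← AddChar.map_nsmul_eq_pow, nsmul_eq_mul, ZMod.natCast_self, zero_mul, AddChar.map_zero_eq_one])]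
      simp
    · rw [gaussSum_sq ((MulChar.ringHomComp_ne_one_iff (RingHom.injective_int _)).2 (quadraticChar_ne_one h2))
        ((quadraticChar_isQuadratic _).comp _) (ZMod.isPrimitive_stdAddChar p), MulChar.ringHomComp_apply,
        quadraticChar_neg_one h2, ZMod.card]
      simp
  | mul a b iha ihb =>
    intro h
    obtain ⟨y, h1, h2⟩ := iha (Nat.Odd.of_mul_left h)
    obtain ⟨z, h3, h4⟩ := ihb (Nat.Odd.of_mul_right h)
    refine ⟨y * z, by rw [map_mul, h1, h3], ?_⟩
    rw [mul_pow, h2, h4]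
    push_cast
    rw [map_mul]
    push_cast
    ring

theorem main (σ : ℂ →+* ℂ) (ho : ∀ (z : ℂ) (n : ℕ), Odd n → z ^ n = 1 → σ z = z) (hi : σ I = -I)
    (m : ℤ) (hm : Odd m) (x : ℂ) (hx : x ^ 2 = m) :
    (σ x = x ↔ m % 4 = 1) ∧ (σ x = -x ↔ m % 4 = 3) := by
  obtain ⟨y, h1, h2⟩ := ex σ ho m.natAbs (Int.natAbs_odd.2 hm)
  have hm2 : m % 2 = 1 := Int.odd_iff.1 hm
  have x0 : x ≠ -x := fun e => by
    have : x = 0 := by linear_combination e / 2
    rw [this] at hx
    have : (m : ℂ) = 0 := by rw [← hx]; simp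
    have : m = 0 := by exact_mod_cast this
    omega
  have h3 : ((ZMod.χ₄ m.natAbs : ℤ) * m.natAbs : ℤ) = if m % 4 = 1 then m else -m := by
    rw [ZMod.χ₄_nat_eq_if_mod_four]
    split_ifs <;> omega
  have h4 : y ^ 2 = ((if m % 4 = 1 then m else -m : ℤ) : ℂ) := by rw [h2, ← h3, Int.cast_mul, Int.cast_natCast]
  by_cases h : m % 4 = 1
  · rw [if_pos h, ← hx] at h4
    have e : σ x = x := by
      rcases sq_eq_sq_iff_eq_or_eq_neg.1 h4 with e | e
      · rwa [e] at h1
      · rwa [e, map_neg, neg_inj] at h1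
    exact ⟨⟨fun _ => h, fun _ => e⟩, ⟨fun e' => (x0 (e.symm.trans e')).elim, fun h' => by omega⟩⟩
  · rw [if_neg h] at h4
    have h5 : (I * y) ^ 2 = x ^ 2 := by rw [mul_pow, h4, hx, I_sq]; push_cast; ring
    have h6 : σ (I * y) = -(I * y) := by rw [map_mul, hi, h1]; ring
    have e : σ x = -x := by
      rcases sq_eq_sq_iff_eq_or_eq_neg.1 h5 with e | e
      · rwa [e] at h6
      · rwa [e, map_neg, neg_inj] at h6
    exact ⟨⟨fun e' => (x0 (e'.symm.trans e)).elim, fun h' => (h h').elim⟩, ⟨fun _ => by omega, fun _ => e⟩⟩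

end CL.OD.Sq33
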