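import Mathlib

set_option autoImplicit false

namespace CL.OD.Sq78

open Complex

theorem prime (q : ℕ) (hq : q.Prime) (h2 : q ≠ 2) : ∃ (g : ℂ) (e : ℤ), (e = q ∨ e = -q) ∧
    e % 4 = 1 ∧ g ^ 2 = e ∧ ∀ σ : ℂ →+* ℂ, (∀ z : ℂ, z ^ q = 1 → σ z = z) → σ g = g := by
  classical
  have := Fact.mk hq
  have hc : ringChar (ZMod q) ≠ 2 := by rwa [ZMod.ringChar_zmod_n]
  let χ := (quadraticChar (ZMod q)).ringHomComp (Int.castRingHom ℂ)
  have h1 : χ ≠ 1 := (MulChar.ringHomComp_ne_one_iff (RingHom.injective_int _)).2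
    (quadraticChar_ne_one hc)
  have hquad : χ.IsQuadratic := (quadraticChar_isQuadratic (ZMod q)).comp _
  have hg := gaussSum_sq h1 hquad (ZMod.isPrimitive_stdAddChar q)
  refine ⟨gaussSum χ ZMod.stdAddChar, quadraticChar (ZMod q) (-1) * q, ?_, ?_, ?_, fun σ hσ => ?_⟩
  · rcases quadraticChar_dichotomy (F := ZMod q) (a := -1) (by simp) with h | h <;> simp [h]
  · rw [quadraticChar_neg_one hc, ZMod.card]
    rcases Nat.odd_mod_four_iff.1 (Nat.odd_iff.1 (hq.odd_of_ne_two h2)) with h | h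
    · rw [ZMod.χ₄_nat_one_mod_four h]; omega
    · rw [ZMod.χ₄_nat_three_mod_four h]; omega
  · rw [hg, ZMod.card]; simp [χ]
  · rw [gaussSum, map_sum]
    refine Finset.sum_congr rfl fun a _ => ?_
    rw [map_mul, hσ (ZMod.stdAddChar a)]
    · simp [χ]
    · rw [← AddChar.map_nsmul_eq_pow, nsmul_eq_mul, ZMod.natCast_self, zero_mul,
        AddChar.map_zero_eq_one]

theorem ex (m : ℤ) (hm : m % 4 = 1) : ∃ g : ℂ, g ^ 2 = m ∧ ∀ σ : ℂ →+* ℂ,
    (∀ q : ℕ, q.Prime → (q : ℤ) ∣ m → ∀ z : ℂ, z ^ q = 1 → σ z = z) → σ g = g := by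
  induction h : m.natAbs using Nat.strong_induction_on generalizing m with
  | _ n ih =>
    by_cases h1 : n = 1
    · have : m = 1 := by omega
      exact ⟨1, by simp [this], fun σ _ => map_one σ⟩
    · obtain ⟨q, hq, hqn⟩ := Nat.exists_prime_and_dvd h1
      have hqm : (q : ℤ) ∣ m := by rw [← h] at hqn; exact Int.natCast_dvd.2 hqn
      have h2 : q ≠ 2 := by rintro rfl; obtain ⟨c, hc⟩ := hqm; push_cast at hc; omega
      obtain ⟨g, e, he, he4, hg, hσ⟩ := prime q hq h2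
      have hem : e ∣ m := by rcases he with rfl | rfl <;> simpa using hqm
      obtain ⟨m', rfl⟩ := hem
      have hm' : m' % 4 = 1 := by
        rw [Int.mul_emod, he4, one_mul, Int.emod_emod_of_dvd _ dvd_rfl] at hm; exact hm
      have hq' : e.natAbs = q := by rcases he with rfl | rfl <;> simp
      have hlt : m'.natAbs < n := by
        rw [← h, Int.natAbs_mul, hq']
        exact lt_mul_left (by omega) hq.one_lt
      obtain ⟨g', hg', hσ'⟩ := ih _ hlt m' hm' rfl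
      refine ⟨g * g', by rw [mul_pow, hg, hg']; push_cast; rfl, fun σ hs => ?_⟩
      rw [map_mul, hσ σ (hs q hq hqm), hσ' σ fun r hr hd => hs r hr (hd.mul_left _)]

theorem pos (m : ℤ) (hm : m % 4 = 1) (σ : ℂ →+* ℂ)
    (hσ : ∀ q : ℕ, q.Prime → (q : ℤ) ∣ m → ∀ z : ℂ, z ^ q = 1 → σ z = z)
    (r : ℚ) {z : ℂ} (hz : z ^ 2 = m * (r : ℂ) ^ 2) : σ z = z := by
  obtain ⟨g, hg, h⟩ := ex m hm
  have h1 : z ^ 2 = (g * r) ^ 2 := by rw [hz, mul_pow, hg]
  rcases sq_eq_sq_iff_eq_or_eq_neg.1 h1 with rfl | rfl <;> simp [h σ hσ]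

theorem neg (m : ℤ) (hm : m % 4 = 3) (σ : ℂ →+* ℂ)
    (hσ : ∀ q : ℕ, q.Prime → (q : ℤ) ∣ m → ∀ z : ℂ, z ^ q = 1 → σ z = z) (hI : σ I = -I)
    (r : ℚ) {z : ℂ} (hz : z ^ 2 = m * (r : ℂ) ^ 2) : σ z = -z := by
  have h := pos (-m) (by omega) σ (fun q hq hd => hσ q hq (dvd_neg.1 hd)) r (z := I * z)
    (by rw [mul_pow, I_sq, hz]; push_cast; ring)
  rw [map_mul, hI] at h
  apply mul_left_cancel₀ I_ne_zero
  linear_combination -h

end CL.OD.Sq78
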