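import Cfsg.Agent.S4548
import Cfsg.Agent.CHAR.Det
import Cfsg.Agent.CHAR.Linear

/-! Four odd-degree characters, two of them interchanged by inversion of the 2-parts. -/

set_option autoImplicit false
open Cfsg CL.Char CL.Blk

namespace CL.OD.T64

variable {G : Type*} [Group G] [Finite G]

theorem det_pow {χ χ' : G → ℂ} (hχ : IsCharacter G χ) (hχ' : IsCharacter G χ') {k : ℕ}
    (h : ∀ g, χ' g = χ (g ^ k)) (u : G) : detChar χ' u = detChar χ (u ^ k) := by
  let f : Subgroup.zpowers u →* G := MonoidHom.mk' (fun x => x.1 ^ k) (by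
    rintro ⟨_, a, rfl⟩ ⟨_, b, rfl⟩
    exact (Commute.zpow_zpow_self u a b).mul_pow k)
  have h1 := hχ.detChar_comp f ⟨u, Subgroup.mem_zpowers u⟩
  have h2 := hχ'.detChar_res (Subgroup.zpowers u) ⟨u, Subgroup.mem_zpowers u⟩
  have h3 : (fun x : Subgroup.zpowers u => χ' x) = fun x => χ (f x) := funext fun x => h x
  rw [h3, h1] at h2
  exact h2.symm

theorem exists_cube (G : Type*) [Group G] [Finite G] : ∃ k : ℕ,
    (∀ g : G, (∃ j : ℕ, orderOf g = 2 ^ j) → g ^ k = g ^ 3) ∧ ∀ g : G, Odd (orderOf g) → g ^ k = g := by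
  obtain ⟨a, m, hm, ham⟩ := Nat.exists_eq_pow_mul_and_not_dvd (Nat.card_pos (α := G)).ne' 2
    (by norm_num)
  have hc : (2 ^ a).Coprime m := Nat.Coprime.pow_left _ ((Nat.Prime.coprime_iff_not_dvd Nat.prime_two).2 hm)
  obtain ⟨k, h1, h2⟩ := Nat.chineseRemainder hc 3 1
  refine ⟨k, fun g ⟨j, hj⟩ => pow_eq_pow_iff_modEq.2 (h1.of_dvd ?_), fun g hg => ?_⟩
  · refine Nat.Coprime.dvd_of_dvd_mul_right (k := orderOf g) (n := m) ?_ (ham ▸ orderOf_dvd_natCard g)
    rw [hj]
    exact Nat.Coprime.pow_left _ ((Nat.Prime.coprime_iff_not_dvd Nat.prime_two).2 hm)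
  · conv_rhs => rw [← pow_one g]
    refine pow_eq_pow_iff_modEq.2 (h2.of_dvd ?_)
    exact Nat.Coprime.dvd_of_dvd_mul_left (Nat.Coprime.pow_right _ (Nat.coprime_two_right.2 hg))
      (ham ▸ orderOf_dvd_natCard g)

theorem coprime_inv {k : ℕ} (hk₁ : ∀ g : G, (∃ j : ℕ, orderOf g = 2 ^ j) → g ^ k = g⁻¹)
    (hk₂ : ∀ g : G, Odd (orderOf g) → g ^ k = g) : k.Coprime (Nat.card G) := by
  refine Nat.Coprime.symm (Nat.coprime_of_dvd fun q hq hqG hqk => ?_)
  have := Fact.mk hq
  obtain ⟨g, hg⟩ := exists_prime_orderOf_dvd_card' q hqG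
  have h1 : g ^ k = 1 := orderOf_dvd_iff_pow_eq_one.1 (hg ▸ hqk)
  have h2 : g = 1 := by
    rcases hq.eq_two_or_odd' with rfl | ho
    · rw [hk₁ g ⟨1, by rw [hg, pow_one]⟩] at h1
      exact inv_eq_one.1 h1
    · rw [← hk₂ g (hg ▸ ho), h1]
  rw [h2, orderOf_one] at hg
  exact hq.ne_one hg.symm

theorem step3 (P : Sylow 2 G) (hev : Even (Nat.card G)) (k : ℕ)
    (hk₁ : ∀ g : G, (∃ j : ℕ, orderOf g = 2 ^ j) → g ^ k = g⁻¹)
    (hk₂ : ∀ g : G, Odd (orderOf g) → g ^ k = g)
    (h4 : Nat.card {χ : IrrCharacter G // ¬ 2 ∣ charDegree χ.1} = 4)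
    (h2 : Nat.card {χ : IrrCharacter G // ¬ 2 ∣ charDegree χ.1 ∧ ∀ g, χ.1 (g ^ k) = χ.1 g} = 2) :
    IsCyclic P := by
  classical
  obtain ⟨M, hM⟩ := CL.Glb.exists_isPModular Nat.prime_two
  have hk := coprime_inv hk₁ hk₂
  obtain ⟨e, he⟩ := CL.S2F.exists_iter hk hk₂
  have hod : ∀ n : ℕ, ¬ 2 ∣ n ↔ Odd n := fun n => by rw [Nat.odd_iff]; omega
  simp only [hod] at h4 h2
  have hd1 : charDegree (CL.Char.irrOne G).1 = 1 := CL.Blk.charDegree_one
  have hB1 : CL.Char.irrOne G ∈ principalBlock M G := mem_principal_of_reg_ker hM _ fun _ _ => rfl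
  rw [Nat.card_eq_fintype_card, Fintype.card_subtype] at h4 h2
  obtain ⟨χ, h0, hset⟩ : ∃ χ, χ ≠ CL.Char.irrOne G ∧ (Finset.univ.filter fun ψ : IrrCharacter G =>
      Odd (charDegree ψ.1) ∧ ∀ g, ψ.1 (g ^ k) = ψ.1 g) = {χ, CL.Char.irrOne G} := by
    obtain ⟨a, b, hab, h⟩ := Finset.card_eq_two.1 h2
    have h1 : CL.Char.irrOne G ∈ ({a, b} : Finset (IrrCharacter G)) := by
      rw [← h]; exact Finset.mem_filter.2 ⟨Finset.mem_univ _, hd1 ▸ odd_one, fun _ => rfl⟩
    rcases Finset.mem_insert.1 h1 with h1 | h1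
    · exact ⟨b, h1 ▸ hab.symm, by rw [h, h1, Finset.pair_comm]⟩
    · rw [Finset.mem_singleton] at h1
      exact ⟨a, h1 ▸ hab, by rw [h, h1]⟩
  have hmem : ∀ ψ : IrrCharacter G, (Odd (charDegree ψ.1) ∧ ∀ g, ψ.1 (g ^ k) = ψ.1 g) ↔
      ψ = χ ∨ ψ = CL.Char.irrOne G := fun ψ => by
    have := Finset.ext_iff.1 hset ψ
    simpa using this
  have hχ := (hmem χ).2 (Or.inl rfl)
  have hfs : ∀ y : G, ¬ 2 ∣ orderOf y → _ := fun y hy =>
    CL.S2F.fix_sum hM hev hk he hy fun ψ => by rw [hk₂ y ((hod _).1 hy)]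
  have hB : χ ∈ principalBlock M G := by
    by_contra hB
    have h3 := hfs 1 (by simp)
    rw [Finset.sum_eq_single (CL.Char.irrOne G) (fun ψ hψ hne => by
      obtain ⟨-, a, b⟩ := Finset.mem_filter.1 hψ
      rcases (hmem ψ).1 b with rfl | h
      exacts [absurd a hB, absurd h hne]) (fun h => absurd
        (Finset.mem_filter.2 ⟨Finset.mem_univ _, hB1, (hmem _).2 (Or.inr rfl)⟩) h)] at h3
    exact CL.Blk.one_notMem_nonunits (by simpa [CL.Char.irrOne_apply] using h3)
  have hset' : (Finset.univ.filter fun ψ : IrrCharacter G => ψ ∈ principalBlock M G ∧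
      Odd (charDegree ψ.1) ∧ ∀ g, ψ.1 (g ^ k) = ψ.1 g) = {χ, CL.Char.irrOne G} := by
    ext ψ
    simp only [Finset.mem_filter, Finset.mem_univ, true_and, hmem, Finset.mem_insert,
      Finset.mem_singleton]
    refine ⟨fun h => h.2, fun h => ⟨?_, h⟩⟩
    rcases h with rfl | rfl
    exacts [hB, hB1]
  have hlin : χ.1 1 = 1 := CL.S2F.lin_of_unit hM χ fun y hy hz => by
    have h3 := hfs y hy
    rw [hset', Finset.sum_pair h0] at h3
    exact CL.Blk.one_notMem_nonunits (by simpa [CL.Char.irrOne_apply] using sub_mem h3 hz)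
  obtain ⟨lam, hl⟩ := χ.2.isCharacter.exists_hom hlin
  have hl' : ∀ g, χ.1 g = lam g := fun g => congrFun hl g
  have hne : ∃ g, lam g ≠ 1 := by
    by_contra hc
    push Not at hc
    exact h0 (Subtype.ext (funext fun g => by rw [hl', hc]; rfl))
  have hsq : ∀ g, (lam g : ℂ) * lam g = 1 := by
    have hdeg : charDegree (irrOfHom (lam * lam)).1 = 1 :=
      charDegree_of_eq (n := 1) (by simp [irrOfHom_apply])
    rcases (hmem (irrOfHom (lam * lam))).1 ⟨hdeg ▸ odd_one, fun g => by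
      have := hχ.2 g
      rw [hl', hl'] at this
      simp only [irrOfHom_apply, MonoidHom.mul_apply, Units.val_mul, this]⟩ with h | h
    · obtain ⟨g, hg⟩ := hne
      have := congrFun (congrArg Subtype.val h) g
      rw [hl'] at this
      simp only [irrOfHom_apply, MonoidHom.mul_apply, Units.val_mul] at this
      exact absurd (Units.ext (mul_eq_left₀ (Units.ne_zero _) |>.1 this)) hg
    · intro g
      have := congrFun (congrArg Subtype.val h) g
      simpa [irrOfHom_apply, CL.Char.irrOne_apply] using this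
  have hpo : ∀ (g : G) (n : ℕ), Odd n → (lam g : ℂ) ^ n = lam g := fun g n ⟨m, hm⟩ => by
    rw [hm, pow_succ, pow_mul, sq, hsq, one_pow, one_mul]
  obtain ⟨u, hu2, hu⟩ : ∃ u : G, (∃ j : ℕ, orderOf u = 2 ^ j) ∧ (lam u : ℂ) = -1 := by
    obtain ⟨g, hg⟩ := hne
    obtain ⟨u, s, rfl, -, hj, hs⟩ := CL.Blk.exists_isPPart Nat.prime_two g
    have h1 : (lam s : ℂ) = 1 := by
      rw [← hpo s _ ((hod _).1 hs), ← Units.val_pow_eq_pow_val, ← map_pow, pow_orderOf_eq_one, map_one,
        Units.val_one]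
    refine ⟨u, hj, (mul_self_eq_one_iff.1 (hsq u)).resolve_left fun h => hg (Units.ext ?_)⟩
    rw [map_mul, Units.val_mul, h, h1, one_mul, Units.val_one]
  obtain ⟨c, hc₁, hc₂⟩ := exists_cube G
  have hco : Odd c := Nat.coprime_two_right.1
    ((CL.S2F.coprime_k hc₁ hc₂).coprime_dvd_right hev.two_dvd)
  have key : ∀ ψ : IrrCharacter G, Odd (charDegree ψ.1) → (∀ g, ψ.1 (g ^ c) = ψ.1 g) →
      ψ = χ ∨ ψ = CL.Char.irrOne G := by
    intro ψ hψ hfix
    by_contra hcon
    obtain ⟨n1, n2⟩ := not_or.1 hcon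
    let τ : IrrCharacter G := ⟨fun g => (lam g : ℂ) * ψ.1 g, ψ.2.hom_mul lam⟩
    have hδ0 : detChar ψ.1 u ≠ 0 := by rw [← detHom_apply]; exact Units.ne_zero _
    have hτ : detChar τ.1 u = -detChar ψ.1 u := by
      have := ψ.2.isCharacter.detChar_hom_mul (irr_one_eq ψ) lam u
      rw [hpo u _ hψ, hu, neg_one_mul] at this
      exact this
    have hτd : charDegree τ.1 = charDegree ψ.1 := by
      simp only [charDegree, τ, map_one, Units.val_one, one_mul]
    have hσd : charDegree (powIrr hk ψ).1 = charDegree ψ.1 := by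
      simp only [charDegree, powIrr_apply, one_pow]
    have hfx : ∀ θ : IrrCharacter G, (θ = χ ∨ θ = CL.Char.irrOne G) → powIrr hk θ = θ := fun θ hθ =>
      Subtype.ext (funext ((hmem θ).2 hθ).2)
    have hcard : ((Finset.univ.filter fun ψ : IrrCharacter G => Odd (charDegree ψ.1)) \
        {χ, CL.Char.irrOne G, ψ}).card = 1 := by
      rw [Finset.card_sdiff_of_subset, h4, Finset.card_eq_three.2 ⟨_, _, _, h0, Ne.symm n1, Ne.symm n2, rfl⟩]
      intro θ hθ
      simp only [Finset.mem_insert, Finset.mem_singleton] at hθ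
      rcases hθ with rfl | rfl | rfl
      exacts [Finset.mem_filter.2 ⟨Finset.mem_univ _, hχ.1⟩,
        Finset.mem_filter.2 ⟨Finset.mem_univ _, hd1 ▸ odd_one⟩, Finset.mem_filter.2 ⟨Finset.mem_univ _, hψ⟩]
    have heq : powIrr hk ψ = τ := by
      refine Finset.card_le_one.1 hcard.le _ ?_ _ ?_
      · simp only [Finset.mem_sdiff, Finset.mem_filter, Finset.mem_univ, true_and, Finset.mem_insert,
          Finset.mem_singleton, hσd, hψ]
        rintro (h | h | h)
        · exact n1 ((powIrr hk).injective (h.trans (hfx _ (Or.inl rfl)).symm))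
        · exact n2 ((powIrr hk).injective (h.trans (hfx _ (Or.inr rfl)).symm))
        · exact hcon ((hmem ψ).1 ⟨hψ, congrFun (congrArg Subtype.val h)⟩)
      · simp only [Finset.mem_sdiff, Finset.mem_filter, Finset.mem_univ, true_and, Finset.mem_insert,
          Finset.mem_singleton, hτd, hψ]
        rintro (h | h | h)
        · refine n2 (Subtype.ext (funext fun g => ?_))
          have : (lam g : ℂ) * ψ.1 g = χ.1 g := congrFun (congrArg Subtype.val h) g
          rw [hl'] at this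
          exact (mul_eq_left₀ (Units.ne_zero _)).1 this
        · refine n1 (Subtype.ext (funext fun g => ?_))
          have : (lam g : ℂ) * ψ.1 g = 1 := congrFun (congrArg Subtype.val h) g
          rw [hl']
          exact mul_left_cancel₀ (Units.ne_zero (lam g)) (this.trans (hsq g).symm)
        · rw [h] at hτ
          exact hδ0 (by linear_combination hτ / 2)
    have e1 : -detChar ψ.1 u = detChar ψ.1 u⁻¹ := by
      rw [← hτ, ← heq, det_pow ψ.2.isCharacter (powIrr hk ψ).2.isCharacter (k := k) (fun _ => rfl) u,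
        hk₁ u hu2]
    have e2 : detChar ψ.1 u = detChar ψ.1 (u ^ 3) := by
      rw [det_pow ψ.2.isCharacter ψ.2.isCharacter (k := c) (fun g => (hfix g).symm) u, hc₁ u hu2]
    have e3 : detChar ψ.1 u * detChar ψ.1 u⁻¹ = 1 := by
      rw [← detChar_apply_mul, mul_inv_cancel, detChar_apply_one]
    rw [pow_succ, sq, detChar_apply_mul, detChar_apply_mul] at e2
    rw [← e1] at e3
    exact hδ0 (by linear_combination e2 / 2 - detChar ψ.1 u * e3 / 2)
  refine (Cfsg.Agent.S4548.result M hM hev P c hc₁ hc₂).2 ?_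
  rw [Nat.card_eq_fintype_card, Fintype.card_subtype, ← Finset.card_pair h0]
  congr 1
  ext ψ
  simp only [Finset.mem_filter, Finset.mem_univ, true_and, Finset.mem_insert, Finset.mem_singleton]
  refine ⟨fun h => key ψ h.2.1 h.2.2, ?_⟩
  rintro (rfl | rfl)
  · exact ⟨hB, hχ.1, fun g => by rw [hl', hl', map_pow, Units.val_pow_eq_pow_val, hpo g c hco]⟩
  · exact ⟨hB1, hd1 ▸ odd_one, fun _ => rfl⟩

end CL.OD.T64
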