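import Cfsg.Agent.S4548
import Cfsg.Agent.CHAR.FTSylow

/-! Four odd-degree characters of which exactly two are fixed. -/

set_option autoImplicit false
open Cfsg CL.Char CL.Blk

namespace CL.OD.T75

variable {G : Type*} [Group G] [Finite G]

theorem det_pow {k : ℕ} (hk : k.Coprime (Nat.card G)) (ψ : IrrCharacter G) (g : G) :
    detChar (powIrr hk ψ).1 g = detChar ψ.1 (g ^ k) := by
  obtain ⟨σ, hσ⟩ := exists_gal_eq_pow G hk
  have e : (powIrr hk ψ).1 = fun g => σ.toRingHom (ψ.1 g) :=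
    funext fun g => (hσ _ ψ.2.isCharacter.isGen g).symm
  rw [e, ψ.2.isCharacter.detChar_gal]
  exact hσ _ (isCharacter_detChar _).isGen g

open Classical in
theorem two {M : Ideal AlgInt} (hM : IsPModular 2 M) (hev : Even (Nat.card G)) {k : ℕ}
    (hk : k.Coprime (Nat.card G)) (hk₂ : ∀ g : G, Odd (orderOf g) → g ^ k = g)
    (A : Finset (IrrCharacter G)) (hA : A.card = 2)
    (h : ∀ χ : IrrCharacter G, Odd (charDegree χ.1) → (∀ g, χ.1 (g ^ k) = χ.1 g) → χ ∈ A) :
    (Finset.univ.filter fun χ : IrrCharacter G => χ ∈ principalBlock M G ∧ Odd (charDegree χ.1) ∧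
      ∀ g, χ.1 (g ^ k) = χ.1 g) = A := by
  obtain ⟨e, he⟩ := CL.S2F.exists_iter hk hk₂
  refine Finset.eq_of_subset_of_card_le (fun χ hχ => ?_) ?_
  · obtain ⟨-, -, h1, h2⟩ := Finset.mem_filter.1 hχ
    exact h χ h1 h2
  · rw [hA]
    by_contra hlt
    have hone : CL.Char.irrOne G ∈ (Finset.univ.filter fun χ : IrrCharacter G => χ ∈ principalBlock M G ∧
        Odd (charDegree χ.1) ∧ ∀ g, χ.1 (g ^ k) = χ.1 g) :=
      Finset.mem_filter.2 ⟨Finset.mem_univ _, CL.Blk.mem_principal_of_reg_ker hM _ fun _ _ => rfl, by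
        rw [show charDegree (CL.Char.irrOne G).1 = 1 from CL.Blk.charDegree_one]; exact odd_one,
        fun _ => rfl⟩
    have h1 := Finset.card_le_one_iff_subset_singleton.1 (Nat.le_of_lt_succ (not_le.1 hlt))
    obtain ⟨x, hx⟩ := h1
    have hx1 : CL.Char.irrOne G = x := Finset.mem_singleton.1 (hx hone)
    subst hx1
    have h3 := CL.S2F.fix_sum hM hev hk he (y := 1) (by simp) fun ψ => by rw [one_pow]
    rw [Finset.Subset.antisymm hx (Finset.singleton_subset_iff.2 hone), Finset.sum_singleton] at h3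
    exact CL.Blk.one_notMem_nonunits h3

theorem step3 (P : Sylow 2 G) (hev : Even (Nat.card G)) (k : ℕ)
    (hk₁ : ∀ g : G, (∃ j, orderOf g = 2 ^ j) → g ^ k = g⁻¹)
    (hk₂ : ∀ g : G, Odd (orderOf g) → g ^ k = g)
    (h4 : Nat.card {χ : IrrCharacter G // ¬ 2 ∣ charDegree χ.1} = 4)
    (h2 : Nat.card {χ : IrrCharacter G // ¬ 2 ∣ charDegree χ.1 ∧ ∀ g, χ.1 (g ^ k) = χ.1 g} = 2) :
    IsCyclic P := by
  classical
  obtain ⟨M, hM⟩ := CL.Glb.exists_isPModular Nat.prime_two
  have hodd : ∀ n : ℕ, ¬ 2 ∣ n ↔ Odd n := fun n => by rw [Nat.odd_iff]; omega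
  have hk : k.Coprime (Nat.card G) := by
    refine Nat.Coprime.symm (Nat.coprime_of_dvd fun q hq hqG hqk => ?_)
    have := Fact.mk hq
    obtain ⟨g, hg⟩ := exists_prime_orderOf_dvd_card' q hqG
    have h1 : g ^ k = 1 := orderOf_dvd_iff_pow_eq_one.1 (hg ▸ hqk)
    have h3 : g = 1 := by
      rcases hq.eq_two_or_odd' with rfl | ho
      · rw [hk₁ g ⟨1, by rw [hg, pow_one]⟩] at h1
        exact inv_eq_one.1 h1
      · rw [← hk₂ g (hg ▸ ho), h1]
    rw [h3, orderOf_one] at hg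
    exact hq.ne_one hg.symm
  obtain ⟨a, m, hm, ham⟩ :=
    Nat.exists_eq_pow_mul_and_not_dvd (Nat.card_pos (α := G)).ne' 2 (by norm_num)
  have hco : (2 ^ a).Coprime m :=
    Nat.Coprime.pow_left a ((Nat.Prime.coprime_iff_not_dvd Nat.prime_two).2 hm)
  obtain ⟨c, hc1, hc2⟩ := Nat.chineseRemainder hco 3 1
  have hc₁ : ∀ g : G, (∃ j : ℕ, orderOf g = 2 ^ j) → g ^ c = g ^ 3 := by
    rintro g ⟨j, hj⟩
    refine pow_eq_pow_iff_modEq.2 (hc1.of_dvd ?_)
    refine Nat.Coprime.dvd_of_dvd_mul_right (k := orderOf g) (n := m) ?_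
      (ham ▸ orderOf_dvd_natCard g)
    rw [hj]
    exact Nat.Coprime.pow_left j ((Nat.Prime.coprime_iff_not_dvd Nat.prime_two).2 hm)
  have hc₂ : ∀ g : G, Odd (orderOf g) → g ^ c = g := by
    intro g hg
    conv_rhs => rw [← pow_one g]
    refine pow_eq_pow_iff_modEq.2 (hc2.of_dvd ?_)
    refine Nat.Coprime.dvd_of_dvd_mul_left (k := orderOf g) (m := 2 ^ a) ?_
      (ham ▸ orderOf_dvd_natCard g)
    exact Nat.Coprime.pow_right a (Nat.coprime_two_right.2 hg)
  have hc := CL.S2F.coprime_k hc₁ hc₂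
  let A : Finset (IrrCharacter G) :=
    Finset.univ.filter fun χ => ¬ 2 ∣ charDegree χ.1 ∧ ∀ g, χ.1 (g ^ k) = χ.1 g
  let C : Finset (IrrCharacter G) :=
    Finset.univ.filter fun χ => ¬ 2 ∣ charDegree χ.1 ∧ ¬ ∀ g, χ.1 (g ^ k) = χ.1 g
  have hA : A.card = 2 := by rw [← h2, Nat.card_eq_fintype_card, Fintype.card_subtype]
  have hC : C.card = 2 := by
    have h5 := Finset.card_filter_add_card_filter_not
      (s := Finset.univ.filter fun χ : IrrCharacter G => ¬ 2 ∣ charDegree χ.1)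
      (fun χ : IrrCharacter G => ∀ g, χ.1 (g ^ k) = χ.1 g)
    rw [Finset.filter_filter, Finset.filter_filter] at h5
    rw [Nat.card_eq_fintype_card, Fintype.card_subtype] at h4
    change A.card + C.card = _ at h5
    omega
  have hmA : ∀ χ : IrrCharacter G, Odd (charDegree χ.1) → (∀ g, χ.1 (g ^ k) = χ.1 g) → χ ∈ A :=
    fun χ h1 h3 => Finset.mem_filter.2 ⟨Finset.mem_univ _, (hodd _).2 h1, h3⟩
  have hF := two hM hev hk hk₂ A hA hmA
  have hlin : ∀ l : G →* ℂˣ, Odd (charDegree (irrOfHom l).1) := fun l => by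
    rw [charDegree_of_eq (n := 1) (by simp [irrOfHom_apply])]; exact odd_one
  have h1A : CL.Char.irrOne G ∈ A := hmA _ (by
    rw [show charDegree (CL.Char.irrOne G).1 = 1 from CL.Blk.charDegree_one]; exact odd_one) fun _ => rfl
  obtain ⟨χ, h0, hAe⟩ : ∃ χ, χ ≠ CL.Char.irrOne G ∧ A = {χ, CL.Char.irrOne G} := by
    obtain ⟨x, y, hxy, hA'⟩ := Finset.card_eq_two.1 hA
    rw [hA', Finset.mem_insert, Finset.mem_singleton] at h1A
    rcases h1A with h | h
    · exact ⟨y, by rw [h]; exact hxy.symm, by rw [hA', h, Finset.pair_comm]⟩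
    · exact ⟨x, by rw [h]; exact hxy, by rw [hA', h]⟩
  have hχA : χ ∈ A := by rw [hAe]; exact Finset.mem_insert_self _ _
  have hχ1 : χ.1 1 = 1 := by
    obtain ⟨e, he⟩ := CL.S2F.exists_iter hk hk₂
    refine CL.S2F.lin_of_unit hM χ fun y hy hz => ?_
    have h3 := CL.S2F.fix_sum hM hev hk he hy fun ψ => by rw [hk₂ y ((hodd _).1 hy)]
    rw [hF, hAe, Finset.sum_pair h0] at h3
    exact CL.Blk.one_notMem_nonunits (by simpa [CL.Char.irrOne_apply] using sub_mem h3 hz)
  obtain ⟨lam, hl⟩ := χ.2.isCharacter.exists_hom hχ1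
  have e : irrOfHom lam = χ := Subtype.ext hl.symm
  subst e
  have hlk : ∀ g, lam (g ^ k) = lam g := fun g => Units.ext ((Finset.mem_filter.1 hχA).2.2 g)
  have hl1 : lam ≠ 1 := fun h => h0 (by rw [h]; rfl)
  have hl2 : ∀ g, lam g ^ 2 = 1 := by
    have h5 : irrOfHom (lam ^ 2) ∈ A := hmA _ (hlin _) fun g => by
      rw [irrOfHom_apply, irrOfHom_apply, MonoidHom.pow_apply, MonoidHom.pow_apply, hlk]
    rw [hAe, Finset.mem_insert, Finset.mem_singleton] at h5
    rcases h5 with h | h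
    · exact absurd (mul_eq_left.1 ((pow_two lam).symm.trans (irrOfHom_injective h))) hl1
    · intro g
      exact Units.ext (congrFun (congrArg Subtype.val h) g)
  refine (Cfsg.Agent.S4548.result M hM hev P c hc₁ hc₂).2 ?_
  rw [Nat.card_eq_fintype_card, Fintype.card_subtype, two hM hev hc hc₂ A hA ?_, hA]
  intro ψ hψ hψc
  refine hmA ψ hψ ?_
  by_contra hn
  have hd : ψ.1 1 = (charDegree ψ.1 : ℕ) := irr_one_eq ψ
  have m1 : ψ ∈ C := Finset.mem_filter.2 ⟨Finset.mem_univ _, (hodd _).2 hψ, hn⟩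
  have hne : powIrr hk ψ ≠ ψ := fun h => hn fun g => congrFun (congrArg Subtype.val h) g
  have m2 : powIrr hk ψ ∈ C := Finset.mem_filter.2 ⟨Finset.mem_univ _, by
      rw [show charDegree (powIrr hk ψ).1 = charDegree ψ.1 by
        simp only [charDegree, powIrr_apply, one_pow]]
      exact (hodd _).2 hψ,
    fun h => hne ((powIrr hk).injective (Subtype.ext (funext h)))⟩
  have m3 : irrMulHom lam ψ ∈ C := Finset.mem_filter.2 ⟨Finset.mem_univ _, by
      rw [show charDegree (irrMulHom lam ψ).1 = charDegree ψ.1 by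
        simp only [charDegree, irrMulHom_apply, map_one, Units.val_one, one_mul]]
      exact (hodd _).2 hψ,
    fun h => hn fun g => by
      have := h g
      rw [irrMulHom_apply, irrMulHom_apply, hlk] at this
      exact mul_left_cancel₀ (lam g).ne_zero this⟩
  have hδc : ∀ g, detHom ψ.1 (g ^ c) = detHom ψ.1 g := fun g => Units.ext (by
    rw [detHom_apply, detHom_apply, ← det_pow hc,
      show powIrr hc ψ = ψ from Subtype.ext (funext hψc)])
  have hδk : ∀ g, detHom ψ.1 (g ^ k) = detHom ψ.1 g := fun g => by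
    obtain ⟨u, s, rfl, hus, hu, hs⟩ := CL.Blk.exists_isPPart Nat.prime_two g
    have h5 := hδc u
    rw [hc₁ u hu, pow_succ, map_mul, mul_eq_right, map_pow, pow_two] at h5
    rw [hus.mul_pow, hk₁ u hu, hk₂ s ((hodd _).1 hs), map_mul, map_mul, map_inv,
      inv_eq_of_mul_eq_one_right h5]
  have hdet : ∀ g, detChar (irrMulHom lam ψ).1 g = detChar ψ.1 g := fun g => by
    obtain ⟨x, y, -, hC'⟩ := Finset.card_eq_two.1 hC
    rw [hC', Finset.mem_insert, Finset.mem_singleton] at m1 m2 m3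
    have h5 : irrMulHom lam ψ = ψ ∨ irrMulHom lam ψ = powIrr hk ψ := by
      rcases m1 with h | h <;> rcases m2 with h' | h' <;> rcases m3 with h'' | h''
      all_goals first
        | exact absurd (h'.trans h.symm) hne
        | exact Or.inl (h''.trans h.symm)
        | exact Or.inr (h''.trans h'.symm)
    rcases h5 with h | h
    · rw [h]
    · rw [h, det_pow, ← detHom_apply, hδk, detHom_apply]
  refine hl1 (MonoidHom.ext fun g => ?_)
  have h5 := (ψ.2.isCharacter.detChar_hom_mul hd lam g).symm.trans (hdet g)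
  rw [← detHom_apply, mul_eq_right₀ (detHom ψ.1 g).ne_zero] at h5
  obtain ⟨r, hr⟩ := hψ
  have h6 : lam g ^ charDegree ψ.1 = 1 := Units.ext (by rw [Units.val_pow_eq_pow_val]; exact h5)
  rw [hr, pow_succ, pow_mul, hl2, one_pow, one_mul] at h6
  exact h6

end CL.OD.T75
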