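import Cfsg.Agent.S4548
import Cfsg.Agent.CHAR.Det
import Cfsg.Agent.BLK.GRoots

set_option autoImplicit false
open Cfsg

namespace CL.OD.T88
open CL.Char CL.Blk CL.S2F

theorem cube (G : Type*) [Group G] [Finite G] : ∃ k : ℕ,
    (∀ g : G, (∃ j : ℕ, orderOf g = 2 ^ j) → g ^ k = g ^ 3) ∧ ∀ g : G, Odd (orderOf g) → g ^ k = g := by
  obtain ⟨a, m, hm, hn⟩ := Nat.exists_eq_two_pow_mul_odd (Nat.card_pos (α := G)).ne'
  have hc : Nat.Coprime (2 ^ a) m := Nat.Coprime.pow_left a (Nat.coprime_two_left.2 hm)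
  obtain ⟨k, h1, h2⟩ := Nat.chineseRemainder hc 3 1
  refine ⟨k, fun g ⟨j, hj⟩ => ?_, fun g hg => ?_⟩
  · rw [pow_eq_pow_iff_modEq]
    refine h1.of_dvd (Nat.Coprime.dvd_of_dvd_mul_right (n := m) ?_ (hn ▸ orderOf_dvd_natCard g))
    rw [hj]; exact Nat.Coprime.pow_left j (Nat.coprime_two_left.2 hm)
  · conv_rhs => rw [← pow_one g]
    rw [pow_eq_pow_iff_modEq]
    refine h2.of_dvd (Nat.Coprime.dvd_of_dvd_mul_left (m := 2 ^ a) ?_ (hn ▸ orderOf_dvd_natCard g))
    exact Nat.Coprime.pow_right a (Nat.coprime_two_right.2 hg)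

theorem det_pow {G : Type*} [Group G] [Finite G] {ψ : G → ℂ} (hi : IsIrrCharacter G ψ) {d : ℕ}
    (hd : ψ 1 = d) (lam : G →* ℂˣ) (k : ℕ) (h : ∀ g, ψ (g ^ k) = lam g * ψ g) (u : G) :
    detChar ψ (u ^ k) = (lam u : ℂ) ^ d * detChar ψ u := by
  have hψ := hi.isCharacter
  let C := Subgroup.zpowers u
  let f : C →* G := MonoidHom.mk' (fun x => x.1 ^ k) (fun x y => by
    obtain ⟨a, ha⟩ := x.2
    obtain ⟨b, hb⟩ := y.2
    have : Commute x.1 y.1 := by
      rw [← ha, ← hb]; exact Commute.zpow_zpow_self u a b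
    exact this.mul_pow k)
  have h1 := hψ.detChar_comp f ⟨u, Subgroup.mem_zpowers u⟩
  have h2 := (hi.hom_mul lam).isCharacter.detChar_comp C.subtype ⟨u, Subgroup.mem_zpowers u⟩
  have h3 := hψ.detChar_hom_mul hd lam u
  have e : (fun x : C => ψ (f x)) = fun x : C => (lam (C.subtype x) : ℂ) * ψ (C.subtype x) :=
    funext fun x => h x.1
  rw [e] at h1
  exact h1.symm.trans (h2.trans h3)

theorem step3 {G : Type*} [Group G] [Finite G] (P : Sylow 2 G) (hev : Even (Nat.card G)) (k : ℕ)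
    (hk₁ : ∀ g : G, (∃ j, orderOf g = 2 ^ j) → g ^ k = g⁻¹) (hk₂ : ∀ g : G, Odd (orderOf g) → g ^ k = g)
    (h4 : Nat.card {χ : IrrCharacter G // ¬ 2 ∣ charDegree χ.1} = 4)
    (h2 : Nat.card {χ : IrrCharacter G // ¬ 2 ∣ charDegree χ.1 ∧ ∀ g, χ.1 (g ^ k) = χ.1 g} = 2) :
    IsCyclic P := by
  classical
  obtain ⟨M, hM⟩ := CL.Glb.exists_isPModular Nat.prime_two
  obtain ⟨c, hc₁, hc₂⟩ := cube G
  have hc := coprime_k hc₁ hc₂
  have hk : k.Coprime (Nat.card G) := by
    refine Nat.coprime_of_dvd fun q hq hqk hqG => ?_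
    have := Fact.mk hq
    obtain ⟨g, hg⟩ := exists_prime_orderOf_dvd_card' q hqG
    have e : g ^ k = 1 := orderOf_dvd_iff_pow_eq_one.1 (hg ▸ hqk)
    have : g = 1 := by
      rcases hq.eq_two_or_odd' with rfl | ho
      · rw [hk₁ g ⟨1, by simpa using hg⟩] at e; exact inv_eq_one.1 e
      · rwa [hk₂ g (hg ▸ ho)] at e
    rw [this, orderOf_one] at hg
    exact hq.one_lt.ne hg
  obtain ⟨e, he⟩ := exists_iter hk hk₂
  obtain ⟨e', he'⟩ := exists_iter hc hc₂
  have od : ∀ n : ℕ, ¬ 2 ∣ n ↔ Odd n := fun n => by rw [Nat.odd_iff]; omega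
  simp only [od] at h4 h2
  rw [Nat.card_eq_fintype_card, Fintype.card_subtype] at h4 h2
  set O := Finset.univ.filter fun χ : IrrCharacter G => Odd (charDegree χ.1) with hO
  set F := Finset.univ.filter fun χ : IrrCharacter G =>
    Odd (charDegree χ.1) ∧ ∀ g, χ.1 (g ^ k) = χ.1 g with hF
  set T := Finset.univ.filter fun χ : IrrCharacter G => χ ∈ principalBlock M G ∧
    Odd (charDegree χ.1) ∧ ∀ g, χ.1 (g ^ c) = χ.1 g with hT
  have hTO : T ⊆ O := fun χ h => by
    simp only [hT, hO, Finset.mem_filter, Finset.mem_univ, true_and] at h ⊢; exact h.2.1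
  have hFO : F ⊆ O := fun χ h => by
    simp only [hF, hO, Finset.mem_filter, Finset.mem_univ, true_and] at h ⊢; exact h.1
  have h1o : Odd (charDegree (CL.Char.irrOne G).1) := by
    rw [show charDegree (CL.Char.irrOne G).1 = 1 from charDegree_one]; exact odd_one
  have h1T : CL.Char.irrOne G ∈ T := Finset.mem_filter.2 ⟨Finset.mem_univ _,
    mem_principal_of_reg_ker hM _ fun _ _ => rfl, h1o, fun _ => rfl⟩
  have h1F : CL.Char.irrOne G ∈ F := Finset.mem_filter.2 ⟨Finset.mem_univ _, h1o, fun _ => rfl⟩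
  have hTe : Even T.card := by
    have h := fix_sum hM hev hc he' (y := 1) (by simp) (fun χ => by rw [one_pow])
    simp only [irr_one_eq] at h
    rw [← Nat.cast_sum, natCast_mem_nonunits_iff hM, ← even_iff_two_dvd,
      Finset.even_sum_iff_even_card_odd, Finset.filter_true_of_mem
        (fun χ hχ => (Finset.mem_filter.1 hχ).2.2.1)] at h
    exact h
  by_cases hT2 : T.card = 2
  · refine (Cfsg.Agent.S4548.result M hM hev P c hc₁ hc₂).2 ?_
    rw [Nat.card_eq_fintype_card, Fintype.card_subtype]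
    exact hT2
  exfalso
  have hT4 : T = O := by
    refine Finset.eq_of_subset_of_card_le hTO ?_
    have := Finset.card_le_card hTO
    have := Finset.card_pos.2 ⟨_, h1T⟩
    obtain ⟨r, hr⟩ := hTe
    omega
  have hall : ∀ χ : IrrCharacter G, Odd (charDegree χ.1) →
      χ ∈ principalBlock M G ∧ ∀ g, χ.1 (g ^ c) = χ.1 g := fun χ h => by
    have : χ ∈ T := hT4 ▸ Finset.mem_filter.2 ⟨Finset.mem_univ _, h⟩
    exact ⟨(Finset.mem_filter.1 this).2.1, (Finset.mem_filter.1 this).2.2.2⟩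
  obtain ⟨χ, hχF, hχ1⟩ := Finset.exists_mem_ne (s := F) (by omega) (CL.Char.irrOne G)
  have hFe : F = {χ, CL.Char.irrOne G} := by
    symm
    refine Finset.eq_of_subset_of_card_le (fun ψ hψ => ?_) (by rw [Finset.card_pair hχ1, h2])
    rcases Finset.mem_insert.1 hψ with rfl | hψ
    · exact hχF
    · rw [Finset.mem_singleton.1 hψ]; exact h1F
  have hlin : χ.1 1 = 1 := by
    refine lin_of_unit hM χ fun y hy hz => ?_
    have h3 := fix_sum hM hev hk he hy fun ψ => by rw [hk₂ y ((od _).1 hy)]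
    have e : (Finset.univ.filter fun ψ : IrrCharacter G => ψ ∈ principalBlock M G ∧
        Odd (charDegree ψ.1) ∧ ∀ g, ψ.1 (g ^ k) = ψ.1 g) = F := by
      ext ψ
      simp only [hF, Finset.mem_filter, Finset.mem_univ, true_and]
      exact ⟨fun h => h.2, fun h => ⟨(hall ψ h.1).1, h⟩⟩
    rw [e, hFe, Finset.sum_pair hχ1] at h3
    exact one_notMem_nonunits (by simpa [CL.Char.irrOne_apply] using sub_mem h3 hz)
  obtain ⟨lam, hl⟩ := χ.2.isCharacter.exists_hom hlin
  have hχk : ∀ g, χ.1 (g ^ k) = χ.1 g := (Finset.mem_filter.1 hχF).2.2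
  have hlk : ∀ g, (lam (g ^ k) : ℂ) = lam g := fun g => by
    have := hχk g; rw [hl] at this; exact this
  have hl1 : lam ≠ 1 := fun h => hχ1 (Subtype.ext (by rw [hl, h]; rfl))
  have hl2 : ∀ g, lam g ^ 2 = 1 := by
    have hm : irrOfHom (lam ^ 2) ∈ F := Finset.mem_filter.2 ⟨Finset.mem_univ _, by
      rw [charDegree_of_eq (n := 1) (by simp [irrOfHom_apply])]; exact odd_one, fun g => by
      simp only [irrOfHom_apply, MonoidHom.pow_apply, Units.val_pow_eq_pow_val, hlk]⟩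
    rw [hFe] at hm
    rcases Finset.mem_insert.1 hm with h | h
    · refine absurd (MonoidHom.ext fun g => ?_) hl1
      have := congrFun (congrArg Subtype.val h) g
      rw [irrOfHom_apply, hl] at this
      have h' : lam g ^ 2 = lam g := Units.ext this
      rw [pow_two] at h'
      exact mul_eq_left.1 h'
    · intro g
      have := congrFun (congrArg Subtype.val (Finset.mem_singleton.1 h)) g
      rw [irrOfHom_apply, CL.Char.irrOne_apply] at this
      exact Units.ext this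
  obtain ⟨ψ, hψO, hψF⟩ := Finset.exists_mem_notMem_of_card_lt_card (s := F) (t := O) (by omega)
  have hψo : Odd (charDegree ψ.1) := (Finset.mem_filter.1 hψO).2
  have hψk : ¬ ∀ g, ψ.1 (g ^ k) = ψ.1 g := fun h => hψF (Finset.mem_filter.2 ⟨Finset.mem_univ _, hψo, h⟩)
  let ψ' : IrrCharacter G := ⟨fun g => ψ.1 (g ^ k), ψ.2.pow_coprime hk⟩
  let ψ'' : IrrCharacter G := ⟨fun g => lam g * ψ.1 g, ψ.2.hom_mul lam⟩
  have hS : (O \ F).card = 2 := by rw [Finset.card_sdiff_of_subset hFO]; omega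
  have m1 : ψ ∈ O \ F := Finset.mem_sdiff.2 ⟨hψO, hψF⟩
  have m2 : ψ' ∈ O \ F := Finset.mem_sdiff.2 ⟨Finset.mem_filter.2 ⟨Finset.mem_univ _, by
      simpa [ψ', charDegree] using hψo⟩, fun h => hψk fun g => by
      obtain ⟨x, rfl⟩ := (powCoprime hk.symm).surjective g
      exact (Finset.mem_filter.1 h).2.2 x⟩
  have m3 : ψ'' ∈ O \ F := Finset.mem_sdiff.2 ⟨Finset.mem_filter.2 ⟨Finset.mem_univ _, by
      simpa [ψ'', charDegree] using hψo⟩, fun h => hψk fun g => by
      have : (lam (g ^ k) : ℂ) * ψ.1 (g ^ k) = lam g * ψ.1 g := (Finset.mem_filter.1 h).2.2 g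
      rw [hlk] at this
      exact mul_left_cancel₀ (Units.ne_zero _) this⟩
  have hne : ψ ≠ ψ' := fun h => hψk fun g => (congrFun (congrArg Subtype.val h) g).symm
  have hSe : O \ F = {ψ, ψ'} := by
    symm
    refine Finset.eq_of_subset_of_card_le (fun x hx => ?_) (by rw [Finset.card_pair hne, hS])
    rcases Finset.mem_insert.1 hx with rfl | hx
    · exact m1
    · rw [Finset.mem_singleton.1 hx]; exact m2
  have hd := irr_one_eq ψ
  have hpow : ∀ g, (lam g : ℂ) ^ charDegree ψ.1 = lam g := fun g => by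
    obtain ⟨r, hr⟩ := hψo
    rw [hr, pow_succ, pow_mul, ← Units.val_pow_eq_pow_val, hl2, Units.val_one, one_pow, one_mul]
  have hδ : ∀ g, detChar ψ.1 g = (detHom ψ.1 g : ℂ) := fun g => rfl
  have key : ∀ u : G, (∃ j, orderOf u = 2 ^ j) → lam u = 1 := by
    intro u hu
    rw [hSe] at m3
    rcases Finset.mem_insert.1 m3 with h | h
    · have := det_pow ψ.2 hd lam 1 (fun g => by
        rw [pow_one]; exact (congrFun (congrArg Subtype.val h) g).symm) u
      rw [pow_one, hpow, hδ] at this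
      exact Units.ext (mul_eq_right₀ (Units.ne_zero _) |>.1 this.symm)
    · have e1 := det_pow ψ.2 hd lam k (fun g =>
        (congrFun (congrArg Subtype.val (Finset.mem_singleton.1 h)) g).symm) u
      have e2 := det_pow ψ.2 hd 1 c (fun g => by
        rw [(hall ψ hψo).2 g]; simp) u
      rw [hpow, hk₁ u hu, hδ, hδ, map_inv] at e1
      rw [hc₁ u hu, hδ, hδ, map_pow] at e2
      simp only [MonoidHom.one_apply, Units.val_one, one_pow, one_mul] at e2
      have e3 : detHom ψ.1 u ^ 3 = detHom ψ.1 u := Units.ext e2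
      have e4 : (detHom ψ.1 u)⁻¹ = lam u * detHom ψ.1 u := Units.ext e1
      have e5 : detHom ψ.1 u * detHom ψ.1 u = 1 := by
        have : detHom ψ.1 u * detHom ψ.1 u * detHom ψ.1 u = 1 * detHom ψ.1 u := by
          rw [one_mul, ← pow_three', e3]
        exact mul_right_cancel this
      rw [inv_eq_of_mul_eq_one_right e5] at e4
      exact mul_eq_right.1 e4.symm
  refine hl1 (MonoidHom.ext fun g => ?_)
  obtain ⟨a, m, hm, hn⟩ := Nat.exists_eq_two_pow_mul_odd (orderOf_pos g).ne'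
  have h1 := key (g ^ m) ⟨a, by
    rw [orderOf_pow_of_dvd hm.pos.ne' (hn ▸ dvd_mul_left m _), hn, Nat.mul_div_cancel _ hm.pos]⟩
  obtain ⟨r, hr⟩ := hm
  rw [map_pow, hr, pow_succ, pow_mul, hl2, one_pow, one_mul] at h1
  exact h1

end CL.OD.T88
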