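import Cfsg.Agent.S4548
import Cfsg.Agent.CHAR.FTSylow
import Cfsg.Agent.CHAR.Det

set_option autoImplicit false

namespace CL.OD.T89

open Cfsg CL.Char CL.Blk CL.S2F

theorem detpow {G : Type*} [Group G] [Finite G] {ψ : G → ℂ} (h : IsCharacter G ψ) {k : ℕ}
    (hk : k.Coprime (Nat.card G)) (g : G) :
    detChar (fun g => ψ (g ^ k)) g = detChar ψ (g ^ k) := by
  obtain ⟨σ, hσ⟩ := exists_gal_eq_pow G hk
  have e : (fun g => ψ (g ^ k)) = fun g => (σ : ℂ →+* ℂ) (ψ g) :=
    funext fun g => (hσ ψ h.isGen g).symm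
  rw [e, h.detChar_gal]
  exact hσ _ (isCharacter_detChar ψ).isGen g

theorem exists_cube (G : Type*) [Group G] [Finite G] : ∃ k : ℕ,
    (∀ g : G, (∃ j : ℕ, orderOf g = 2 ^ j) → g ^ k = g ^ 3) ∧ ∀ g : G, Odd (orderOf g) → g ^ k = g := by
  obtain ⟨a, m, hm, ham⟩ := Nat.exists_eq_pow_mul_and_not_dvd (Nat.card_pos (α := G)).ne' 2 (by norm_num)
  have hc : (2 ^ a).Coprime m := Nat.Coprime.pow_left _ ((Nat.Prime.coprime_iff_not_dvd Nat.prime_two).2 hm)
  obtain ⟨k, h1, h2⟩ := Nat.chineseRemainder hc 3 1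
  refine ⟨k, fun g ⟨j, hj⟩ => pow_eq_pow_iff_modEq.2 (h1.of_dvd ?_), fun g hg => ?_⟩
  · refine Nat.Coprime.dvd_of_dvd_mul_right ?_ (ham ▸ orderOf_dvd_natCard g)
    rw [hj]
    exact Nat.Coprime.pow_left _ ((Nat.Prime.coprime_iff_not_dvd Nat.prime_two).2 hm)
  · have : orderOf g ∣ m := Nat.Coprime.dvd_of_dvd_mul_left
      (Nat.Coprime.pow_right _ (Nat.coprime_two_right.2 hg)) (ham ▸ orderOf_dvd_natCard g)
    rw [pow_eq_pow_iff_modEq.2 (h2.of_dvd this), pow_one]

theorem step3 {G : Type*} [Group G] [Finite G] (P : Sylow 2 G) (hev : Even (Nat.card G)) (k : ℕ)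
    (hk₁ : ∀ g : G, (∃ j, orderOf g = 2 ^ j) → g ^ k = g⁻¹)
    (hk₂ : ∀ g : G, Odd (orderOf g) → g ^ k = g)
    (h4 : Nat.card {χ : IrrCharacter G // ¬ 2 ∣ charDegree χ.1} = 4)
    (h2 : Nat.card {χ : IrrCharacter G // ¬ 2 ∣ charDegree χ.1 ∧ ∀ g, χ.1 (g ^ k) = χ.1 g} = 2) :
    IsCyclic P := by
  classical
  obtain ⟨M, hM⟩ := CL.Glb.exists_isPModular Nat.prime_two
  obtain ⟨c, hc₁, hc₂⟩ := exists_cube G
  have hc := coprime_k hc₁ hc₂
  have hk : k.Coprime (Nat.card G) := by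
    refine Nat.Coprime.symm (Nat.coprime_of_dvd fun q hq hqG hqk => ?_)
    have := Fact.mk hq
    obtain ⟨g, hg⟩ := exists_prime_orderOf_dvd_card' q hqG
    have h1 : g ^ k = 1 := orderOf_dvd_iff_pow_eq_one.1 (hg ▸ hqk)
    have h3 : g = 1 := by
      rcases hq.eq_two_or_odd' with rfl | ho
      · rwa [hk₁ g ⟨1, by rw [hg, pow_one]⟩, inv_eq_one] at h1
      · rwa [hk₂ g (hg ▸ ho)] at h1
    rw [h3, orderOf_one] at hg
    exact hq.ne_one hg.symm
  obtain ⟨e, he⟩ := exists_iter hk hk₂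
  have hodd : ∀ n : ℕ, ¬ 2 ∣ n ↔ Odd n := fun n => by rw [Nat.odd_iff]; omega
  have hd1 : charDegree (CL.Char.irrOne G).1 = 1 := CL.Blk.charDegree_one
  have hB1 : CL.Char.irrOne G ∈ principalBlock M G := mem_principal_of_reg_ker hM _ fun _ _ => rfl
  rw [Nat.card_eq_fintype_card, Fintype.card_subtype] at h4 h2
  obtain ⟨χ, hχ1, hF⟩ : ∃ χ, χ ≠ CL.Char.irrOne G ∧ ∀ ψ : IrrCharacter G,
      (¬ 2 ∣ charDegree ψ.1 ∧ ∀ g, ψ.1 (g ^ k) = ψ.1 g) ↔ ψ = χ ∨ ψ = CL.Char.irrOne G := by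
    obtain ⟨x, y, hxy, hs⟩ := Finset.card_eq_two.1 h2
    have hm : ∀ ψ : IrrCharacter G, (¬ 2 ∣ charDegree ψ.1 ∧ ∀ g, ψ.1 (g ^ k) = ψ.1 g) ↔
        ψ = x ∨ ψ = y := fun ψ => by
      have := Finset.ext_iff.1 hs ψ
      simpa only [Finset.mem_filter, Finset.mem_univ, true_and, Finset.mem_insert,
        Finset.mem_singleton] using this
    rcases (hm (CL.Char.irrOne G)).1 ⟨by rw [hd1]; norm_num, fun _ => rfl⟩ with h | h
    · exact ⟨y, h ▸ hxy.symm, fun ψ => by rw [hm, ← h, or_comm]⟩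
    · exact ⟨x, h ▸ hxy, fun ψ => by rw [hm, ← h]⟩
  have hχ := (hF χ).2 (Or.inl rfl)
  have hsum := fun (y : G) (hy : ¬ 2 ∣ orderOf y) => fix_sum hM hev hk he hy fun ψ => by
    rw [hk₂ y ((hodd _).1 hy)]
  have hχB : χ ∈ principalBlock M G := by
    by_contra hn
    have h3 := hsum 1 (by simp)
    have hset : (Finset.univ.filter fun ψ : IrrCharacter G => ψ ∈ principalBlock M G ∧
        Odd (charDegree ψ.1) ∧ ∀ g, ψ.1 (g ^ k) = ψ.1 g) = {CL.Char.irrOne G} := by
      ext ψ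
      rw [Finset.mem_filter, Finset.mem_singleton, ← hodd, hF]
      constructor
      · rintro ⟨-, hB, rfl | h⟩
        exacts [absurd hB hn, h]
      · rintro rfl
        exact ⟨Finset.mem_univ _, hB1, Or.inr rfl⟩
    rw [hset, Finset.sum_singleton] at h3
    exact one_notMem_nonunits (by simpa [CL.Char.irrOne_apply] using h3)
  have hlin : χ.1 1 = 1 := by
    refine lin_of_unit hM χ fun y hy hz => ?_
    have h3 := hsum y hy
    have hset : (Finset.univ.filter fun ψ : IrrCharacter G => ψ ∈ principalBlock M G ∧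
        Odd (charDegree ψ.1) ∧ ∀ g, ψ.1 (g ^ k) = ψ.1 g) = {χ, CL.Char.irrOne G} := by
      ext ψ
      rw [Finset.mem_filter, Finset.mem_insert, Finset.mem_singleton, ← hodd, hF]
      constructor
      · exact fun h => h.2.2
      · rintro (rfl | rfl)
        exacts [⟨Finset.mem_univ _, hχB, Or.inl rfl⟩, ⟨Finset.mem_univ _, hB1, Or.inr rfl⟩]
    rw [hset, Finset.sum_pair hχ1] at h3
    exact one_notMem_nonunits (by simpa [CL.Char.irrOne_apply] using sub_mem h3 hz)
  obtain ⟨lam, hl⟩ := χ.2.isCharacter.exists_hom hlin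
  have hl' : ∀ g, χ.1 g = lam g := fun g => congrFun hl g
  have hne : ¬ ∀ g, lam g = 1 := fun h => hχ1 (Subtype.ext (funext fun g => by
    rw [hl', h]; rfl))
  have hsq : ∀ g, lam g * lam g = 1 := by
    rcases (hF (irrOfHom (lam * lam))).1 ⟨by
      rw [charDegree_of_eq (n := 1) (by simp [irrOfHom_apply])]; norm_num, fun g => by
        have := hχ.2 g
        rw [hl', hl'] at this
        simp only [irrOfHom_apply, MonoidHom.mul_apply, Units.val_mul, this]⟩ with h | h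
    · refine absurd (fun g => ?_) hne
      have := congrFun (congrArg Subtype.val h) g
      rw [irrOfHom_apply, hl'] at this
      exact mul_eq_left.1 (Units.ext this)
    · intro g
      have := congrFun (congrArg Subtype.val h) g
      rw [irrOfHom_apply] at this
      exact Units.ext this
  have hpow : ∀ g (n : ℕ), Odd n → lam g ^ n = lam g := by
    rintro g _ ⟨n, rfl⟩
    rw [pow_succ, pow_mul, sq, hsq, one_pow, one_mul]
  have hco : Odd c := Nat.coprime_two_right.1 (hc.coprime_dvd_right hev.two_dvd)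
  refine (Cfsg.Agent.S4548.result M hM hev P c hc₁ hc₂).2 ?_
  rw [Nat.card_eq_fintype_card, Fintype.card_subtype, ← Finset.card_pair hχ1]
  congr 1
  ext ψ
  rw [Finset.mem_filter, Finset.mem_insert, Finset.mem_singleton]
  constructor
  swap
  · rintro (rfl | rfl)
    · exact ⟨Finset.mem_univ _, hχB, (hodd _).1 hχ.1, fun g => by
        rw [hl', hl', map_pow, hpow g c hco]⟩
    · exact ⟨Finset.mem_univ _, hB1, by rw [hd1]; exact odd_one, fun _ => rfl⟩
  rintro ⟨-, -, hd, hf⟩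
  by_contra hn
  have hdeg : ψ.1 1 = charDegree ψ.1 := ψ.2.apply_one_eq_charDegree
  let ψ' := powIrr hk ψ
  have hd' : charDegree ψ'.1 = charDegree ψ.1 :=
    charDegree_of_eq (by rw [powIrr_apply, one_pow, hdeg])
  have h1 : ψ' ≠ ψ := fun h => hn ((hF ψ).1 ⟨(hodd _).2 hd, fun g =>
    congrFun (congrArg Subtype.val h) g⟩)
  have h1' : ¬ (ψ' = χ ∨ ψ' = CL.Char.irrOne G) := fun h => h1 ((powIrr hk).injective
    (Subtype.ext (funext ((hF ψ').2 h).2)))
  let τ : IrrCharacter G := ⟨fun g => (lam g : ℂ) * ψ.1 g, ψ.2.hom_mul lam⟩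
  have hτ : charDegree τ.1 = charDegree ψ.1 := charDegree_of_eq (by simp [τ, hdeg])
  have hset : ({χ, CL.Char.irrOne G, ψ, ψ'} : Finset (IrrCharacter G)) =
      Finset.univ.filter fun χ : IrrCharacter G => ¬ 2 ∣ charDegree χ.1 := by
    refine Finset.eq_of_subset_of_card_le (fun x hx => ?_) ?_
    · simp only [Finset.mem_insert, Finset.mem_singleton] at hx
      refine Finset.mem_filter.2 ⟨Finset.mem_univ _, ?_⟩
      rcases hx with rfl | rfl | rfl | rfl
      exacts [hχ.1, by rw [hd1]; norm_num, (hodd _).2 hd, hd' ▸ (hodd _).2 hd]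
    · push Not at hn h1'
      rw [h4, Finset.card_insert_of_notMem (by simp [hχ1, hn.1.symm, h1'.1.symm]),
        Finset.card_insert_of_notMem (by simp [hn.2.symm, h1'.2.symm]), Finset.card_pair h1.symm]
  have hτm : τ ∈ ({χ, CL.Char.irrOne G, ψ, ψ'} : Finset (IrrCharacter G)) := by
    rw [hset]; exact Finset.mem_filter.2 ⟨Finset.mem_univ _, hτ ▸ (hodd _).2 hd⟩
  have hdet : ∀ g, detChar τ.1 g = lam g * detChar ψ.1 g := fun g => by
    rw [ψ.2.isCharacter.detChar_hom_mul hdeg, ← Units.val_pow_eq_pow_val, hpow g _ hd]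
  simp only [Finset.mem_insert, Finset.mem_singleton] at hτm
  rcases hτm with h | h | h | h
  · refine hn (Or.inr (Subtype.ext (funext fun g => ?_)))
    have : (lam g : ℂ) * ψ.1 g = χ.1 g := congrFun (congrArg Subtype.val h) g
    rw [hl'] at this
    exact (mul_eq_left₀ (lam g).ne_zero).1 this
  · refine hn (Or.inl (Subtype.ext (funext fun g => ?_)))
    have : (lam g : ℂ) * ψ.1 g = 1 := congrFun (congrArg Subtype.val h) g
    rw [hl']
    refine mul_left_cancel₀ (lam g).ne_zero (this.trans ?_)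
    rw [← Units.val_mul, hsq, Units.val_one]
  · refine hne fun g => ?_
    have := hdet g
    rw [h, ← detHom_apply, ← Units.val_mul, Units.val_inj] at this
    exact right_eq_mul.1 this
  · have h5 : ∀ g, detHom ψ.1 (g ^ k) = lam g * detHom ψ.1 g := fun g => by
      have := hdet g
      rw [h] at this
      refine Units.ext ?_
      rw [Units.val_mul, detHom_apply, detHom_apply, ← this]
      exact (detpow ψ.2.isCharacter hk g).symm
    have h6 : ∀ g, detHom ψ.1 (g ^ c) = detHom ψ.1 g := fun g => by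
      refine Units.ext ?_
      rw [detHom_apply, detHom_apply, ← detpow ψ.2.isCharacter hc g, funext hf]
    refine hne fun g => ?_
    obtain ⟨u, s, rfl, -, ⟨j, hj⟩, hs⟩ := CL.Blk.exists_isPPart Nat.prime_two g
    have hu : lam u = 1 := by
      have a1 := h5 u
      have a2 := h6 u
      rw [hk₁ u ⟨j, hj⟩, map_inv] at a1
      rw [hc₁ u ⟨j, hj⟩, map_pow, pow_succ, mul_eq_right, sq] at a2
      rw [inv_eq_of_mul_eq_one_right a2] at a1
      exact right_eq_mul.1 a1
    have hs' : lam s = 1 := by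
      have a1 := h5 s
      rw [hk₂ s ((hodd _).1 hs)] at a1
      exact right_eq_mul.1 a1
    rw [map_mul, hu, hs', one_mul]

end CL.OD.T89
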