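import Cfsg.Agent.BLK.OD.Defs
import Cfsg.Agent.BLK.OD.Sq
import Cfsg.Agent.S4548
import Cfsg.Agent.BLK.OD.T64
import Cfsg.Agent.BLK.OD.Tr33

namespace CL.OD
open Cfsg

/-- Fixed ones are 1, χ; moved ψ, ψ'. S2F.fix_sum (or column orthogonality at (odd y, involution))
and S2F.lin_of_unit: χ linear, χ² = 1, ψχ = ψ' (ψχ = ψ forces even degree). For u ∈ P with
χ u = -1: ψ(u) is a unit mod M, ψ(u⁻¹) = -ψ(u), w = ψ(u)² is fixed by all Galois automorphisms so an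
odd integer; `sq` gives w ≡ 3 mod 4 and the cubing automorphism moves ψ; S4548 gives P cyclic. -/
theorem tr {G : Type*} [Group G] [Finite G] (P : Sylow 2 G) (h4 : Nat.card (Od G) = 4) (k : ℕ)
    (hk₁ : ∀ g : G, (∃ j : ℕ, orderOf g = 2 ^ j) → g ^ k = g⁻¹)
    (hk₂ : ∀ g : G, Odd (orderOf g) → g ^ k = g)
    (h2 : Nat.card {χ : Od G // ∀ g : G, (χ.1 : G → ℂ) (g ^ k) = (χ.1 : G → ℂ) g} = 2) :
    IsCyclic P :=
  Tr33.of P h4 k hk₂ h2 fun hev a b => T64.step3 P hev k hk₁ hk₂ a b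

end CL.OD
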