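import Cfsg.Agent.BLK.OD.Defs

namespace CL.OD.Tr55
open Cfsg

theorem of_step3 {G : Type*} [Group G] [Finite G] (P : Sylow 2 G) (k : ℕ)
    (H : Even (Nat.card G) →
      Nat.card {χ : IrrCharacter G // ¬ 2 ∣ charDegree χ.1} = 4 →
      Nat.card {χ : IrrCharacter G // ¬ 2 ∣ charDegree χ.1 ∧ ∀ g, χ.1 (g ^ k) = χ.1 g} = 2 →
      IsCyclic P)
    (h4 : Nat.card (Od G) = 4)
    (h2 : Nat.card {χ : Od G // ∀ g : G, (χ.1 : G → ℂ) (g ^ k) = (χ.1 : G → ℂ) g} = 2) :
    IsCyclic P := by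
  have hodd : ∀ n : ℕ, Odd n ↔ ¬ 2 ∣ n := fun n => by
    rw [← Nat.not_even_iff_odd, even_iff_two_dvd]
  by_cases hev : Even (Nat.card G)
  · refine H hev ?_ ?_
    · exact (Nat.card_congr (Equiv.subtypeEquivRight (fun χ => (hodd _).symm))).trans h4
    · refine Eq.trans (Nat.card_congr ?_) h2
      refine (Equiv.subtypeEquivRight (fun χ => ?_)).trans
        (Equiv.subtypeSubtypeEquivSubtypeInter
          (fun χ : IrrCharacter G => Odd (charDegree (χ : G → ℂ)))
          (fun χ : IrrCharacter G => ∀ g : G, (χ : G → ℂ) (g ^ k) = (χ : G → ℂ) g)).symm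
      rw [hodd]
  · have : Fact (Nat.Prime 2) := ⟨Nat.prime_two⟩
    have hc : Nat.card P = 1 := by
      rw [P.card_eq_multiplicity, Nat.factorization_eq_zero_of_not_dvd, pow_zero]
      rwa [← even_iff_two_dvd]
    have : Subsingleton P := (Nat.card_eq_one_iff_unique.mp hc).1
    infer_instance

end CL.OD.Tr55
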